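import Cfsg.Agent.Lib.Helper49.JC.OddCore
import Cfsg.Agent.S0612

/-!
# The block containing an element of order 3 inverted by a best offender

`exists_blk_of_inverted`: in a block configuration (p = 2) with the hypotheses of S0617, if `d ∈ H` has
`d³ = 1`, `A ≤ H` is a best offender whose elements send `d` to `d` or `d⁻¹` under conjugation, and some
element of `A` does not centralize `d`, then `d` lies in a block `E` and some `b ∈ A ∩ E` inverts `d`.

`hyps_of`: the hypotheses of S0610–S0617 for the image of `J(Λ)` in the holomorph of `W`.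
-/

set_option autoImplicit false
set_option linter.unusedSectionVars false
open Cfsg

namespace Cfsg.Agent.Lib.Helper49.JC

universe u

open Cfsg.Agent.Lib.Helper49 Cfsg.Agent.Lib.Helper49.FFB Cfsg.Agent.Lib.Helper49.FF620
open scoped commutatorElement

section Abstract

variable {Γ : Type*} [Group Γ] [Finite Γ] {V H : Subgroup Γ}

theorem exists_blk_of_inverted (hV : Cfsg.IsElementaryAbelian 2 V)
    (hHV : H ≤ Subgroup.normalizer (V : Set Γ)) (hf : H ⊓ Subgroup.centralizer (V : Set Γ) = ⊥)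
    (hS1 : Subgroup.centralizer (Cfsg.pPrimeCore 2 ↥H : Set ↥H) ≤ Cfsg.pPrimeCore 2 ↥H)
    (hS3 : H = ⨆ A : {A : Subgroup Γ // A ≤ H ∧ Cfsg.IsBestOffenderOn 2 V A}, (A : Subgroup Γ))
    (hH1 : H ≠ ⊥) (c : BlockCfg 2 V H) {d : Γ} (hdH : d ∈ H) (hd3 : d ^ 3 = 1)
    {A : Subgroup Γ} (hAH : A ≤ H) (hA : Cfsg.IsBestOffenderOn 2 V A)
    (hAd : ∀ a ∈ A, a * d * a⁻¹ = d ∨ a * d * a⁻¹ = d⁻¹) (hne : ∃ a ∈ A, a * d * a⁻¹ ≠ d) :
    ∃ E : Blk 2 V H, d ∈ (E : Subgroup Γ) ∧ ∃ b ∈ A, b ∈ (E : Subgroup Γ) ∧ b * d * b⁻¹ = d⁻¹ := by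
  have hA1 : A ≠ ⊥ := by
    rintro rfl
    obtain ⟨a, ha, hane⟩ := hne
    rw [Subgroup.mem_bot] at ha
    apply hane
    rw [ha]; group
  obtain ⟨k, B, hB, -, hsup⟩ := Cfsg.Agent.S0612.result (p := 2) V H hV hHV hf hS1 hS3 hH1 A hAH hA hA1
  -- some `B i` does not centralize `d`
  have hex : ∃ i, ∃ b ∈ B i, b * d * b⁻¹ ≠ d := by
    by_contra hcon
    push Not at hcon
    obtain ⟨a, ha, hane⟩ := hne
    apply hane
    have hle : A ≤ Subgroup.centralizer ({d} : Set Γ) := by
      rw [← hsup]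
      apply iSup_le
      intro i b hb
      rw [Subgroup.mem_centralizer_singleton_iff]
      have := hcon i b hb
      calc b * d = (b * d * b⁻¹) * b := by group
        _ = d * b := by rw [this]
    have := Subgroup.mem_centralizer_singleton_iff.mp (hle ha)
    calc a * d * a⁻¹ = d * a * a⁻¹ := by rw [this]
      _ = d := by group
  obtain ⟨i, b, hb, hbne⟩ := hex
  obtain ⟨hBA, hBbo, hBne, hBmin⟩ := hB i
  let E : Blk 2 V H := ⟨⁅((Cfsg.pPrimeCore 2 ↥H).map H.subtype), B i⁆ ⊔ B i, B i, hBA.trans hAH, hBbo, hBne,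
    hBmin, rfl⟩
  have hbE : b ∈ (E : Subgroup Γ) := Subgroup.mem_sup_right hb
  have hbd : b * d * b⁻¹ = d⁻¹ := by
    rcases hAd b (hBA hb) with h | h
    · exact absurd h hbne
    · exact h
  obtain ⟨e, he, r, hr, hder⟩ := c.exists_decomp E hdH
  have hrc : ∀ x ∈ (E : Subgroup Γ), x * r = r * x := fun x hx =>
    (Subgroup.mem_centralizer_iff.mp (c.rest_le_centralizer E hr) x hx)
  -- `b e b⁻¹ * r = e⁻¹ * r⁻¹`
  have h1 : (b * e * b⁻¹) * r = e⁻¹ * r⁻¹ := by
    have hb' := hrc b hbE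
    have he' := hrc e he
    calc (b * e * b⁻¹) * r = b * e * (b⁻¹ * r) := by group
      _ = b * e * (r * b⁻¹) := by
          have : b⁻¹ * r = r * b⁻¹ := by
            calc b⁻¹ * r = b⁻¹ * (r * b) * b⁻¹ := by group
              _ = b⁻¹ * (b * r) * b⁻¹ := by rw [hb']
              _ = r * b⁻¹ := by group
          rw [this]
      _ = b * (e * r) * b⁻¹ := by group
      _ = b * d * b⁻¹ := by rw [hder]
      _ = d⁻¹ := hbd
      _ = (e * r)⁻¹ := by rw [hder]
      _ = (r * e)⁻¹ := by rw [he']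
      _ = e⁻¹ * r⁻¹ := by group
  have hbeb : b * e * b⁻¹ ∈ (E : Subgroup Γ) :=
    Subgroup.mul_mem _ (Subgroup.mul_mem _ hbE he) (Subgroup.inv_mem _ hbE)
  have h2 : b * e * b⁻¹ = e⁻¹ :=
    c.decomp_unique E hbeb (Subgroup.inv_mem _ he) hr (Subgroup.inv_mem _ hr) h1
  have h3 : r = r⁻¹ := by
    rw [h2] at h1
    exact mul_left_cancel h1
  have hr2 : r * r = 1 := by
    nth_rewrite 2 [h3]; group
  -- `e³ r³ = 1`
  have h4 : (e * e * e) * (r * r * r) = 1 * 1 := by
    have he' := hrc e he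
    have : d ^ 3 = (e * e * e) * (r * r * r) := by
      rw [hder]
      calc (e * r) ^ 3 = e * (r * e) * (r * e) * r := by rw [pow_three']; group
        _ = e * (e * r) * (e * r) * r := by rw [he']
        _ = e * e * (r * e) * r * r := by group
        _ = e * e * (e * r) * r * r := by rw [he']
        _ = (e * e * e) * (r * r * r) := by group
    rw [← this, hd3, one_mul]
  have h5 : e * e * e = 1 :=
    c.decomp_unique E (Subgroup.mul_mem _ (Subgroup.mul_mem _ he he) he) (Subgroup.one_mem _)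
      (Subgroup.mul_mem _ (Subgroup.mul_mem _ hr hr) hr) (Subgroup.one_mem _) h4
  have h6 : r * r * r = 1 := by
    rw [h5, one_mul, one_mul] at h4
    exact h4
  have hr1 : r = 1 := by
    rw [hr2, one_mul] at h6
    exact h6
  refine ⟨E, ?_, b, hBA hb, hbE, hbd⟩
  rw [hder, hr1, mul_one]
  exact he

end Abstract

section Hyps

variable {K : Type u} [Group K] [Finite K] {p : ℕ} [Fact p.Prime]

attribute [local instance] bigW_characteristic Jk_characteristic

/-- the hypotheses of S0610–S0617 for the image of `J(K)` in the holomorph of `W`. -/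
theorem hyps_of (hsep : Cfsg.IsPSolvable p K) (hO : Cfsg.pPrimeCore p K = ⊥)
    (hJC : ¬ Jk p K ≤ Subgroup.centralizer ((Wk p K : Subgroup K) : Set K)) :
    Cfsg.IsElementaryAbelian p (holV (Wk p K)) ∧
    (Jk p K).map (holHom (Wk p K)) ≤
      Subgroup.normalizer ((holV (Wk p K) : Subgroup (Hol (Wk p K))) : Set (Hol (Wk p K))) ∧
    (Jk p K).map (holHom (Wk p K)) ⊓
      Subgroup.centralizer ((holV (Wk p K) : Subgroup (Hol (Wk p K))) : Set (Hol (Wk p K))) = ⊥ ∧
    Subgroup.centralizer (Cfsg.pPrimeCore p ↥((Jk p K).map (holHom (Wk p K))) :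
      Set ↥((Jk p K).map (holHom (Wk p K)))) ≤ Cfsg.pPrimeCore p ↥((Jk p K).map (holHom (Wk p K))) ∧
    (Jk p K).map (holHom (Wk p K)) = ⨆ A : {A : Subgroup (Hol (Wk p K)) // A ≤ (Jk p K).map (holHom (Wk p K)) ∧ Cfsg.IsBestOffenderOn p (holV (Wk p K)) A}, (A : Subgroup (Hol (Wk p K))) ∧
    (Jk p K).map (holHom (Wk p K)) ≠ ⊥ := by
  have hc := centralizer_pCore_le_of hsep hO
  obtain ⟨-, hWe, -⟩ := Cfsg.Agent.S0601.result (p := p) hc
  change IsElementaryAbelian p (Wk p K) at hWe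
  have hQ : pCore p (K ⧸ Subgroup.centralizer ((Wk p K : Subgroup K) : Set K)) = ⊥ :=
    Cfsg.Agent.Lib.Helper97.pCore_quotient_centralizer_eq_bot (p := p) (Wk p K)
      Cfsg.Agent.S0601.bigW_gen
  refine ⟨holV_isElementaryAbelian _ hWe, ?_, map_holHom_inf_centralizer_holV _ _,
    FF618.hS1_aux hsep (Wk p K) hQ (Jk p K), ?_, ?_⟩
  · have hV'n : (holV (Wk p K)).Normal := holV_normal _
    rw [Subgroup.normalizer_eq_top]; exact le_top
  · apply le_antisymm
    · rw [Subgroup.map_le_iff_le_comap]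
      apply sSup_le
      intro A hA
      rw [← Subgroup.map_le_iff_le_comap]
      have hbo : IsBestOffenderOn p (Wk p K) A := Cfsg.Agent.S0606.result (Wk p K) hWe A hA
      exact le_iSup (fun A : {A : Subgroup (Hol (Wk p K)) // A ≤ (Jk p K).map (holHom (Wk p K)) ∧ Cfsg.IsBestOffenderOn p (holV (Wk p K)) A} => (A : Subgroup (Hol (Wk p K))))
        ⟨A.map (holHom (Wk p K)), Subgroup.map_mono (le_sSup hA), isBestOffenderOn_map_holHom _ hbo⟩
    · exact iSup_le fun A => A.2.1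
  · intro h
    apply hJC
    have := (Subgroup.map_eq_bot_iff (Jk p K)).mp h
    rw [holHom_ker] at this
    exact this

end Hyps

end Cfsg.Agent.Lib.Helper49.JC
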