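import Cfsg.Agent.Lib.Helper49.JC.Over2
import Cfsg.Agent.Lib.Helper49.JC.BlockOf

/-!
# The block interface of a `J(T)`-component `K ≤ L ∈ 𝓛(T)`

`interface`: there is `b ∈ J(T)` with `b² = 1`, `K = [K, ⟨b⟩]`, such that every `g ∈ L` with
`W_K^g ∩ W_K ≠ 1` satisfies `K^g ≤ K C_L(W)` and `[k⁻¹g, b] ∈ C_L(W)` for some `k ∈ K`.
-/

set_option autoImplicit false
set_option linter.unusedSectionVars false
set_option maxHeartbeats 1000000

namespace Cfsg.Agent.Lib.Helper49.JC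

open Cfsg Cfsg.Agent.Lib.Helper49 Cfsg.Agent.Lib.Helper97 Cfsg.Agent.Lib.Helper33
  Cfsg.Agent.Lib.Helper47 Cfsg.Agent.Lib.Helper49.FF620 Cfsg.Agent.Lib.Helper49.FFB
open scoped commutatorElement

universe u

set_option maxRecDepth 100000 in
theorem sl22_cube_cases : ∀ a x : Matrix.SpecialLinearGroup (Fin 2) (ZMod 2),
    a ^ 3 = 1 → a ≠ 1 → x ^ 3 = 1 → x = 1 ∨ x = a ∨ x = a * a := by
  decide

set_option maxRecDepth 100000 in
set_option synthInstance.maxSize 1000 in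
theorem sl22_invol_cases : ∀ a t s : Matrix.SpecialLinearGroup (Fin 2) (ZMod 2),
    a ^ 3 = 1 → a ≠ 1 → t * t = 1 → t ≠ 1 → s * s = 1 → s ≠ 1 →
      s = t ∨ s * a = a * t ∨ s * (a * a) = (a * a) * t := by
  decide

variable {G : Type u} [Group G] [Finite G] {T L K : Subgroup G}

attribute [local instance] bigW_characteristic Jk_characteristic

/-- the kernel of `L → Hol W` is `C_L(W)`. -/
theorem holHom_eq_one_iff (x : ↥L) : holHom (Wk 2 ↥L) x = 1 ↔ (x : G) ∈ CW L := by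
  rw [← MonoidHom.mem_ker, holHom_ker]
  constructor
  · intro h; exact ⟨x, h, rfl⟩
  · rintro ⟨y, hy, hyx⟩
    have : y = x := Subtype.ext hyx
    rwa [← this]

/-- images of elements of a `J(T)`-component in `Hol W` have odd order (and lie in the image of `J(L)`). -/
theorem map_odd (hN : ∀ N : Subgroup G, IsTwoLocal N → Group.IsSolvable ↥N)
    (hZ : ∀ S : Sylow 2 G, Subgroup.centralizer (omegaCenterOf (S : Subgroup G) : Set G) ≤
      Subgroup.normalizer ((S : Subgroup G) : Set G))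
    (hT1 : T ≠ ⊥) (hLT : L ∈ jOvergroups T) (hK : IsJComponent T K) (hKL : K ≤ L) :
    ∀ k ∈ K, ∃ hk : k ∈ L, (⟨k, hk⟩ : ↥L) ∈ Jk 2 ↥L ∧ Odd (orderOf (holHom (Wk 2 ↥L) ⟨k, hk⟩)) := by
  have : Fact (Nat.Prime 2) := ⟨Nat.prime_two⟩
  have hsep := isPSolvable_of_mem hN hLT hT1
  have hO := pPrimeCore_eq_bot_of_mem hLT
  have hJC := not_Jk_le_centralizer hZ hLT
  have hnf : ¬ IsThompsonFactorizable 2 ↥L := fun h => hJC ((Cfsg.Agent.S0608.result hO).mp h)
  obtain ⟨c, -⟩ := blockCfg_of (p := 2) (fun V H => Cfsg.Agent.S0617.result V H) hsep hO hnf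
  have hKJ := le_map_Jk hLT hK hKL
  intro k hk
  rw [← hK.1] at hk
  induction hk using Subgroup.closure_induction with
  | mem g hg =>
    obtain ⟨hgK, hgo⟩ := hg
    obtain ⟨j, hj, hjg⟩ := hKJ hgK
    have hgL : g ∈ L := hKL hgK
    have hjeq : j = ⟨g, hgL⟩ := Subtype.ext hjg
    refine ⟨hgL, hjeq ▸ hj, ?_⟩
    apply Odd.of_dvd_nat _ (orderOf_map_dvd _ _)
    rw [Subgroup.orderOf_mk]; exact hgo
  | one =>
    refine ⟨L.one_mem, Subgroup.one_mem _, ?_⟩
    have : (⟨1, L.one_mem⟩ : ↥L) = 1 := rfl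
    rw [this, map_one, orderOf_one]; exact odd_one
  | mul x y _ _ hx hy =>
    obtain ⟨hxL, hxJ, hxo⟩ := hx
    obtain ⟨hyL, hyJ, hyo⟩ := hy
    refine ⟨L.mul_mem hxL hyL, ?_, ?_⟩
    · exact Subgroup.mul_mem _ hxJ hyJ
    · have e : (⟨x * y, L.mul_mem hxL hyL⟩ : ↥L) = ⟨x, hxL⟩ * ⟨y, hyL⟩ := rfl
      rw [e, map_mul]
      have hcomm := commute_of_odd c
        ⟨holHom (Wk 2 ↥L) ⟨x, hxL⟩, Subgroup.mem_map_of_mem _ hxJ⟩
        ⟨holHom (Wk 2 ↥L) ⟨y, hyL⟩, Subgroup.mem_map_of_mem _ hyJ⟩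
        (by rwa [Subgroup.orderOf_mk]) (by rwa [Subgroup.orderOf_mk])
      have hcomm' : Commute (holHom (Wk 2 ↥L) ⟨x, hxL⟩) (holHom (Wk 2 ↥L) ⟨y, hyL⟩) :=
        congrArg Subtype.val hcomm
      exact Odd.of_dvd_nat (hxo.mul hyo) hcomm'.orderOf_mul_dvd_mul_orderOf
  | inv x _ hx =>
    obtain ⟨hxL, hxJ, hxo⟩ := hx
    refine ⟨L.inv_mem hxL, Subgroup.inv_mem _ hxJ, ?_⟩
    have e : (⟨x⁻¹, L.inv_mem hxL⟩ : ↥L) = (⟨x, hxL⟩ : ↥L)⁻¹ := rfl
    rw [e, map_inv, orderOf_inv]; exact hxo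

/-- `O₂(K) ≤ C_L(W)`. -/
theorem pCoreOf_le_CW (hN : ∀ N : Subgroup G, IsTwoLocal N → Group.IsSolvable ↥N)
    (hZ : ∀ S : Sylow 2 G, Subgroup.centralizer (omegaCenterOf (S : Subgroup G) : Set G) ≤
      Subgroup.normalizer ((S : Subgroup G) : Set G))
    (hT1 : T ≠ ⊥) (hLT : L ∈ jOvergroups T) (hK : IsJComponent T K) (hKL : K ≤ L) :
    pCoreOf 2 K ≤ CW L := by
  intro r hr
  obtain ⟨hrL, -, hro⟩ := map_odd hN hZ hT1 hLT hK hKL r (pCoreOf_le 2 K hr)
  rw [← holHom_eq_one_iff ⟨r, hrL⟩, ← orderOf_eq_one_iff]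
  obtain ⟨n, hn⟩ := (pCoreOf_isPGroup 2 K) ⟨r, hr⟩
  have h1 : orderOf r ∣ 2 ^ n := by
    apply orderOf_dvd_of_pow_eq_one
    exact congrArg Subtype.val hn
  have h2 : orderOf (holHom (Wk 2 ↥L) ⟨r, hrL⟩) ∣ 2 ^ n := by
    refine (orderOf_map_dvd _ _).trans ?_
    rwa [Subgroup.orderOf_mk]
  exact Nat.Coprime.eq_one_of_dvd (Nat.Coprime.pow_right n (Nat.coprime_two_right.mpr hro)) h2

/-- a `J(T)`-component of `L` is not inside `C_L(W)`. -/
theorem not_le_CW
    (hZ : ∀ S : Sylow 2 G, Subgroup.centralizer (omegaCenterOf (S : Subgroup G) : Set G) ≤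
      Subgroup.normalizer ((S : Subgroup G) : Set G))
    (hT : IsPGroup 2 ↥T) (hLT : L ∈ jOvergroups T) (hK : IsJComponent T K) : ¬ K ≤ CW L :=
  fun h => not_le_normalizer_T hT hK (h.trans (centralizer_Wk_le_normalizer hZ hLT))

/-- the block of a `J(T)`-component. -/
theorem exists_block (hN : ∀ N : Subgroup G, IsTwoLocal N → Group.IsSolvable ↥N)
    (hZ : ∀ S : Sylow 2 G, Subgroup.centralizer (omegaCenterOf (S : Subgroup G) : Set G) ≤
      Subgroup.normalizer ((S : Subgroup G) : Set G))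
    (hT : IsPGroup 2 ↥T) (hT1 : T ≠ ⊥) (hLT : L ∈ jOvergroups T) (hK : IsJComponent T K) (hKL : K ≤ L) :
    ∃ (E : Blk 2 (holV (Wk 2 ↥L)) ((Jk 2 ↥L).map (holHom (Wk 2 ↥L)))) (d b : ↥L),
      (d : G) ∈ K ∧ (b : G) ∈ thompsonSubgroupOf 2 T ∧ b * b = 1 ∧ holHom (Wk 2 ↥L) d ≠ 1 ∧
      holHom (Wk 2 ↥L) d ^ 3 = 1 ∧
      (∀ k : ↥L, (k : G) ∈ K → holHom (Wk 2 ↥L) k = 1 ∨ holHom (Wk 2 ↥L) k = holHom (Wk 2 ↥L) d ∨
        holHom (Wk 2 ↥L) k = holHom (Wk 2 ↥L) d * holHom (Wk 2 ↥L) d) ∧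
      holHom (Wk 2 ↥L) d ∈ (E : Subgroup (Hol (Wk 2 ↥L))) ∧
      holHom (Wk 2 ↥L) b ∈ (E : Subgroup (Hol (Wk 2 ↥L))) ∧
      holHom (Wk 2 ↥L) b * holHom (Wk 2 ↥L) d * (holHom (Wk 2 ↥L) b)⁻¹ = (holHom (Wk 2 ↥L) d)⁻¹ := by
  have : Fact (Nat.Prime 2) := ⟨Nat.prime_two⟩
  have hsyl := sylIn_of_mem hLT
  have hsep := isPSolvable_of_mem hN hLT hT1
  have hO := pPrimeCore_eq_bot_of_mem hLT
  have hJC := not_Jk_le_centralizer hZ hLT
  have hnf : ¬ IsThompsonFactorizable 2 ↥L := fun h => hJC ((Cfsg.Agent.S0608.result hO).mp h)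
  obtain ⟨c, -⟩ := blockCfg_of (p := 2) (fun V H => Cfsg.Agent.S0617.result V H) hsep hO hnf
  obtain ⟨hV, hHV, hf, hS1, hS3, hH1⟩ := hyps_of (p := 2) hsep hO hJC
  set W := Wk 2 ↥L with hW
  set φ := holHom W with hφ
  have hodd := map_odd hN hZ hT1 hLT hK hKL
  have hRC := pCoreOf_le_CW hN hZ hT1 hLT hK hKL
  have hJn := J_le_normalizer hK
  -- cubes
  have hcube : ∀ k : ↥L, (k : G) ∈ K → φ k ^ 3 = 1 := by
    intro k hk
    rw [← map_pow]
    exact (holHom_eq_one_iff (k ^ 3)).mpr (hRC (by simpa using pow_three_mem hK hk))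
  -- some member of `𝒜(T)` does not centralize the image of `K`
  have hex : ∃ A ∈ maxEAOf 2 T, ∃ a : ↥L, (a : G) ∈ A ∧ ∃ d : ↥L, (d : G) ∈ K ∧
      φ a * φ d * (φ a)⁻¹ ≠ φ d := by
    by_contra hcon
    push Not at hcon
    apply not_le_CW hZ hT hLT hK
    -- `J(T)` centralizes the image of `K`
    have hJc : ∀ j ∈ thompsonSubgroupOf 2 T, ∃ hj : j ∈ L, ∀ d : ↥L, (d : G) ∈ K →
        φ ⟨j, hj⟩ * φ d = φ d * φ ⟨j, hj⟩ := by
      let Y : Subgroup G :=
        { carrier := {j | ∃ hj : j ∈ L, ∀ d : ↥L, (d : G) ∈ K → φ ⟨j, hj⟩ * φ d = φ d * φ ⟨j, hj⟩}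
          one_mem' := ⟨L.one_mem, fun d _ => by
            have : (⟨1, L.one_mem⟩ : ↥L) = 1 := rfl
            rw [this, map_one, one_mul, mul_one]⟩
          mul_mem' := by
            rintro x y ⟨hx, hx'⟩ ⟨hy, hy'⟩
            refine ⟨L.mul_mem hx hy, fun d hd => ?_⟩
            have e : (⟨x * y, L.mul_mem hx hy⟩ : ↥L) = ⟨x, hx⟩ * ⟨y, hy⟩ := rfl
            rw [e, map_mul, mul_assoc, hy' d hd, ← mul_assoc, hx' d hd, mul_assoc]
          inv_mem' := by
            rintro x ⟨hx, hx'⟩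
            refine ⟨L.inv_mem hx, fun d hd => ?_⟩
            have e : (⟨x⁻¹, L.inv_mem hx⟩ : ↥L) = (⟨x, hx⟩ : ↥L)⁻¹ := rfl
            rw [e, map_inv]
            have := hx' d hd
            calc (φ ⟨x, hx⟩)⁻¹ * φ d = (φ ⟨x, hx⟩)⁻¹ * (φ d * φ ⟨x, hx⟩) * (φ ⟨x, hx⟩)⁻¹ := by group
              _ = (φ ⟨x, hx⟩)⁻¹ * (φ ⟨x, hx⟩ * φ d) * (φ ⟨x, hx⟩)⁻¹ := by rw [this]
              _ = φ d * (φ ⟨x, hx⟩)⁻¹ := by group }
      have hJY : thompsonSubgroupOf 2 T ≤ Y := by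
        apply thompsonSubgroupOf_le_of_forall
        intro A hA a ha
        have haL : a ∈ L := hsyl.le (hA.1 ha)
        refine ⟨haL, fun d hd => ?_⟩
        have := hcon A hA ⟨a, haL⟩ ha d hd
        calc φ ⟨a, haL⟩ * φ d = (φ ⟨a, haL⟩ * φ d * (φ ⟨a, haL⟩)⁻¹) * φ ⟨a, haL⟩ := by group
          _ = φ d * φ ⟨a, haL⟩ := by rw [this]
      exact fun j hj => hJY hj
    rw [← hK.2.1, Subgroup.commutator_le]
    intro k hk j hj
    obtain ⟨hjL, hjc⟩ := hJc j hj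
    have hkL : k ∈ L := hKL hk
    have h1 := hjc ⟨k, hkL⟩ hk
    have e : (⟨⁅k, j⁆, L.mul_mem (L.mul_mem (L.mul_mem hkL hjL) (L.inv_mem hkL)) (L.inv_mem hjL)⟩ : ↥L) =
        ⁅(⟨k, hkL⟩ : ↥L), ⟨j, hjL⟩⁆ := rfl
    have h2 : φ ⁅(⟨k, hkL⟩ : ↥L), ⟨j, hjL⟩⁆ = 1 := by
      rw [commutatorElement_def, map_mul, map_mul, map_mul, map_inv, map_inv]
      calc φ ⟨k, hkL⟩ * φ ⟨j, hjL⟩ * (φ ⟨k, hkL⟩)⁻¹ * (φ ⟨j, hjL⟩)⁻¹
          = (φ ⟨k, hkL⟩ * φ ⟨j, hjL⟩) * (φ ⟨k, hkL⟩)⁻¹ * (φ ⟨j, hjL⟩)⁻¹ := by group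
        _ = (φ ⟨j, hjL⟩ * φ ⟨k, hkL⟩) * (φ ⟨k, hkL⟩)⁻¹ * (φ ⟨j, hjL⟩)⁻¹ := by rw [h1]
        _ = 1 := by group
    have := (holHom_eq_one_iff _).mp h2
    exact this
  obtain ⟨A, hA, a, haA, d, hdK, hne⟩ := hex
  have hd1 : φ d ≠ 1 := by
    intro h
    apply hne
    rw [h]; group
  have hdC : (d : G) ∉ CW L := fun h => hd1 ((holHom_eq_one_iff d).mpr h)
  have hdR : (d : G) ∉ pCoreOf 2 K := fun h => hdC (hRC h)
  have hd3 := hcube d hdK
  -- the three cosets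
  have hcos : ∀ k : ↥L, (k : G) ∈ K → φ k = 1 ∨ φ k = φ d ∨ φ k = φ d * φ d := by
    intro k hk
    rcases mem_cosets hK hdK hdR hk with h | h | h
    · left; exact (holHom_eq_one_iff k).mpr (hRC h)
    · right; left
      have : φ (d⁻¹ * k) = 1 := (holHom_eq_one_iff _).mpr (hRC (by simpa using h))
      rw [map_mul, map_inv] at this
      calc φ k = φ d * ((φ d)⁻¹ * φ k) := by group
        _ = φ d := by rw [this, mul_one]
    · right; right
      have : φ ((d * d)⁻¹ * k) = 1 := (holHom_eq_one_iff _).mpr (hRC (by simpa using h))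
      rw [map_mul, map_inv, map_mul] at this
      calc φ k = φ d * φ d * ((φ d * φ d)⁻¹ * φ k) := by group
        _ = φ d * φ d := by rw [this, mul_one]
  have hdd : φ d * φ d = (φ d)⁻¹ := by
    have : φ d * φ d * φ d = 1 := by rw [← hd3, pow_three']
    calc φ d * φ d = (φ d * φ d * φ d) * (φ d)⁻¹ := by group
      _ = (φ d)⁻¹ := by rw [this, one_mul]
  -- the best offender
  have hAL : A ≤ L := hA.1.trans hsyl.le
  have hAmax := subgroupOf_mem_maxElementaryAbelianSubgroups hsyl hA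
  have hc' := centralizer_pCore_le_of hsep hO
  obtain ⟨-, hWe, -⟩ := Cfsg.Agent.S0601.result (p := 2) hc'
  change IsElementaryAbelian 2 W at hWe
  have hbo : IsBestOffenderOn 2 W (A.subgroupOf L) := Cfsg.Agent.S0606.result W hWe _ hAmax
  have hbo' := isBestOffenderOn_map_holHom W hbo
  have hAH : (A.subgroupOf L).map φ ≤ (Jk 2 ↥L).map φ := Subgroup.map_mono (le_sSup hAmax)
  have hdJ : φ d ∈ (Jk 2 ↥L).map φ := by
    obtain ⟨hdL, hdJ, -⟩ := hodd d hdK
    exact ⟨d, hdJ, rfl⟩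
  have hAd : ∀ x ∈ (A.subgroupOf L).map φ, x * φ d * x⁻¹ = φ d ∨ x * φ d * x⁻¹ = (φ d)⁻¹ := by
    rintro _ ⟨a', ha', rfl⟩
    have ha'J : (a' : G) ∈ thompsonSubgroupOf 2 T := le_thompsonSubgroupOf hA (Subgroup.mem_subgroupOf.mp ha')
    have hconj : ((a' * d * a'⁻¹ : ↥L) : G) ∈ K := by
      have := conj_mem_of_mem_normalizer (hJn ha'J) hdK
      simpa using this
    have e : φ a' * φ d * (φ a')⁻¹ = φ (a' * d * a'⁻¹) := by rw [map_mul, map_mul, map_inv]
    rw [e]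
    rcases hcos _ hconj with h | h | h
    · exfalso
      apply hd1
      rw [← e] at h
      calc φ d = (φ a')⁻¹ * (φ a' * φ d * (φ a')⁻¹) * φ a' := by group
        _ = 1 := by rw [h]; group
    · left; exact h
    · right; rw [h, hdd]
  have hne' : ∃ x ∈ (A.subgroupOf L).map φ, x * φ d * x⁻¹ ≠ φ d :=
    ⟨φ a, ⟨a, Subgroup.mem_subgroupOf.mpr haA, rfl⟩, hne⟩
  obtain ⟨E, hdE, x, hxA, hxE, hxd⟩ :=
    exists_blk_of_inverted hV hHV hf hS1 hS3 hH1 c hdJ hd3 hAH hbo' hAd hne'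
  obtain ⟨b, hb, rfl⟩ := hxA
  have hbA : (b : G) ∈ A := Subgroup.mem_subgroupOf.mp hb
  refine ⟨E, d, b, hdK, le_thompsonSubgroupOf hA hbA, ?_, hd1, hd3, hcos, hdE, hxE, hxd⟩
  apply Subtype.ext
  have := hA.2.1.2 _ hbA
  simpa [pow_two] using this

/-- **The block interface.** -/
theorem interface (hN : ∀ N : Subgroup G, IsTwoLocal N → Group.IsSolvable ↥N)
    (hZ : ∀ S : Sylow 2 G, Subgroup.centralizer (omegaCenterOf (S : Subgroup G) : Set G) ≤
      Subgroup.normalizer ((S : Subgroup G) : Set G))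
    (hT : IsPGroup 2 ↥T) (hT1 : T ≠ ⊥) (hLT : L ∈ jOvergroups T) (hK : IsJComponent T K) (hKL : K ≤ L) :
    ∃ b ∈ thompsonSubgroupOf 2 T, b * b = 1 ∧ K ≤ ⁅K, Subgroup.zpowers b⁆ ∧
      ∀ g ∈ L, cj g (wOf K) ⊓ wOf K ≠ ⊥ →
        cj g K ≤ K ⊔ CW L ∧ ∃ k ∈ K, (k⁻¹ * g) * b * (k⁻¹ * g)⁻¹ * b⁻¹ ∈ CW L := by
  have : Fact (Nat.Prime 2) := ⟨Nat.prime_two⟩
  have hsyl := sylIn_of_mem hLT
  have hsep := isPSolvable_of_mem hN hLT hT1
  have hO := pPrimeCore_eq_bot_of_mem hLT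
  have hJC := not_Jk_le_centralizer hZ hLT
  have hnf : ¬ IsThompsonFactorizable 2 ↥L := fun h => hJC ((Cfsg.Agent.S0608.result hO).mp h)
  set W := Wk 2 ↥L with hW
  set φ := holHom W with hφ
  obtain ⟨c, -⟩ := blockCfg_of (p := 2) (fun V H => Cfsg.Agent.S0617.result V H) hsep hO hnf
  obtain ⟨E, d, b, hdK, hbJ, hbb, hd1, hd3, hcos, hdE, hbE, hbd⟩ := exists_block hN hZ hT hT1 hLT hK hKL
  change BlockCfg 2 (holV W) ((Jk 2 ↥L).map φ) at c
  change Blk 2 (holV W) ((Jk 2 ↥L).map φ) at E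
  change φ d ≠ 1 at hd1
  change φ d ^ 3 = 1 at hd3
  change ∀ k : ↥L, (k : G) ∈ K → φ k = 1 ∨ φ k = φ d ∨ φ k = φ d * φ d at hcos
  change φ d ∈ (E : Subgroup (Hol W)) at hdE
  change φ b ∈ (E : Subgroup (Hol W)) at hbE
  change φ b * φ d * (φ b)⁻¹ = (φ d)⁻¹ at hbd
  have hRC := pCoreOf_le_CW hN hZ hT1 hLT hK hKL
  have hJn := J_le_normalizer hK
  have hdd : φ d * φ d = (φ d)⁻¹ := by
    have : φ d * φ d * φ d = 1 := by rw [← hd3, pow_three']
    calc φ d * φ d = (φ d * φ d * φ d) * (φ d)⁻¹ := by group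
      _ = (φ d)⁻¹ := by rw [this, one_mul]
  have hdd1 : φ d * φ d ≠ 1 := by
    rw [hdd]; exact inv_ne_one.mpr hd1
  have hb1 : φ b ≠ 1 := by
    intro h
    rw [h] at hbd
    apply hdd1
    have : φ d = (φ d)⁻¹ := by simpa using hbd
    calc φ d * φ d = φ d * (φ d)⁻¹ := by rw [← this]
      _ = 1 := by group
  have hbb' : φ b * φ b = 1 := by rw [← map_mul, hbb, map_one]
  have hKE : ∀ k : ↥L, (k : G) ∈ K → φ k ∈ (E : Subgroup (Hol W)) := by
    intro k hk
    rcases hcos k hk with h | h | h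
    · rw [h]; exact Subgroup.one_mem _
    · rw [h]; exact hdE
    · rw [h]; exact Subgroup.mul_mem _ hdE hdE
  refine ⟨(b : G), hbJ, by simpa using congrArg Subtype.val hbb, ?_, ?_⟩
  · -- `K ≤ [K, ⟨b⟩]`
    set N := ⁅K, Subgroup.zpowers (b : G)⁆ with hNdef
    have hbK : Subgroup.zpowers (b : G) ≤ Subgroup.normalizer (K : Set G) := by
      rw [Subgroup.zpowers_le]; exact hJn hbJ
    have hNK : N ≤ K := by
      rw [hNdef, Subgroup.commutator_le]
      intro k hk x hx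
      rw [commutatorElement_def]
      have : x * k⁻¹ * x⁻¹ ∈ K := conj_mem_of_mem_normalizer (hbK hx) (K.inv_mem hk)
      have e : k * x * k⁻¹ * x⁻¹ = k * (x * k⁻¹ * x⁻¹) := by group
      rw [e]; exact K.mul_mem hk this
    have hn₀ : ⁅(d : G), (b : G)⁆ ∈ N :=
      Subgroup.commutator_mem_commutator hdK (Subgroup.mem_zpowers _)
    have hn₀R : ⁅(d : G), (b : G)⁆ ∉ pCoreOf 2 K := by
      intro h
      have hcoe : ((⁅d, b⁆ : ↥L) : G) = ⁅(d : G), (b : G)⁆ := rfl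
      have h1 : φ ⁅d, b⁆ = 1 := (holHom_eq_one_iff _).mpr (hRC (by rw [hcoe]; exact h))
      apply hdd1
      rw [commutatorElement_def, map_mul, map_mul, map_mul, map_inv, map_inv] at h1
      calc φ d * φ d = φ d * (φ b * φ d * (φ b)⁻¹)⁻¹ := by rw [hbd, inv_inv]
        _ = φ d * φ b * (φ d)⁻¹ * (φ b)⁻¹ := by group
        _ = 1 := h1
    have hKNR : K ≤ N ⊔ pCoreOf 2 K := by
      intro k hk
      rcases mem_cosets hK (hNK hn₀) hn₀R hk with h | h | h
      · exact Subgroup.mem_sup_right h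
      · have e : k = ⁅(d : G), (b : G)⁆ * (⁅(d : G), (b : G)⁆⁻¹ * k) := by group
        rw [e]; exact Subgroup.mul_mem_sup hn₀ h
      · have e : k = (⁅(d : G), (b : G)⁆ * ⁅(d : G), (b : G)⁆) * ((⁅(d : G), (b : G)⁆ * ⁅(d : G), (b : G)⁆)⁻¹ * k) := by
          group
        rw [e]; exact Subgroup.mul_mem_sup (N.mul_mem hn₀ hn₀) h
    have hRN : pCoreOf 2 K ≤ Subgroup.normalizer (N : Set G) :=
      (pCoreOf_le 2 K).trans (le_sup_left.trans (sup_le_normalizer_commutator K (Subgroup.zpowers (b : G))))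
    exact le_of_le_sup_of_odd (pCoreOf_isPGroup 2 K) hRN hK.1 hKNR
  · -- the elements `g`
    -- `inl(W_K) ⊆ U_E`
    have hWU : ∀ w ∈ wOf K, ∃ v : ↥W, ((v : ↥L) : G) = w ∧
        (SemidirectProduct.inl v : Hol W) ∈ c.U E := by
      let M : Subgroup G := (((c.U E).comap (SemidirectProduct.inl : ↥W →* Hol W)).map W.subtype).map L.subtype
      have hM : ⁅omegaCenterOf T, K⁆ ≤ M := by
        rw [Subgroup.commutator_le]
        intro z hz k hk
        have hzL : z ∈ L := hsyl.le (omegaCenterOf_le T hz)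
        have hzW : (⟨z, hzL⟩ : ↥L) ∈ W := omegaCenterOf_subgroupOf_le_Wk hLT (Subgroup.mem_subgroupOf.mpr hz)
        have hkL : k ∈ L := hKL hk
        set z' : ↥W := ⟨⟨z, hzL⟩, hzW⟩ with hz'
        set k' : ↥L := ⟨k, hkL⟩ with hk'
        refine ⟨(z' * MulAut.conjNormal k' z'⁻¹ : ↥W), ⟨z' * MulAut.conjNormal k' z'⁻¹, ?_, rfl⟩, ?_⟩
        · show (SemidirectProduct.inl (z' * MulAut.conjNormal k' z'⁻¹) : Hol W) ∈ c.U E
          rw [map_mul, ← holHom_conj_inl]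
          have h1 : (SemidirectProduct.inl z' : Hol W) ∈ holV W := ⟨z', rfl⟩
          have h2 : φ k' ∈ (E : Subgroup (Hol W)) := hKE k' hk
          have := Subgroup.commutator_mem_commutator h1 h2
          rw [commutatorElement_def] at this
          have e : (SemidirectProduct.inl z' : Hol W) * (φ k' * SemidirectProduct.inl z'⁻¹ * (φ k')⁻¹)
              = SemidirectProduct.inl z' * φ k' * (SemidirectProduct.inl z')⁻¹ * (φ k')⁻¹ := by
            rw [map_inv]; simp only [mul_assoc]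
          change (SemidirectProduct.inl z' : Hol W) * (φ k' * SemidirectProduct.inl z'⁻¹ * (φ k')⁻¹) ∈ c.U E
          rw [e]; exact this
        · simp [commutatorElement_def, MulAut.conjNormal_apply, hz', hk']
          group
      intro w hw
      obtain ⟨y, ⟨v, hv, rfl⟩, hyw⟩ := hM (wOf_le_commutator_omegaCenterOf hZ hT hLT hK hKL hw)
      exact ⟨v, hyw, hv⟩
    intro g hg hmeet
    set g' : ↥L := ⟨g, hg⟩ with hg'
    -- `φ g` normalizes the block `E`
    have hgV : φ g' ∈ Subgroup.normalizer ((holV W : Subgroup (Hol W)) : Set (Hol W)) := by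
      have hV'n : (holV W).Normal := holV_normal _
      rw [Subgroup.normalizer_eq_top]; exact Subgroup.mem_top _
    have hJn' : (Jk 2 ↥L).Normal := inferInstance
    have hgH : φ g' ∈ Subgroup.normalizer (((Jk 2 ↥L).map φ : Subgroup (Hol W)) : Set (Hol W)) := by
      apply mem_normalizer_of_conj_mem
      · rintro _ ⟨j, hj, rfl⟩
        exact ⟨g' * j * g'⁻¹, hJn'.conj_mem j hj g', by simp⟩
      · rintro _ ⟨j, hj, rfl⟩
        refine ⟨g'⁻¹ * j * g', ?_, by simp⟩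
        have := hJn'.conj_mem j hj g'⁻¹
        simpa using this
    obtain ⟨E', hE'⟩ := c.exists_blk_cjm hgV hgH E
    have hUE' : c.U E' = cjm (φ g') (c.U E) := by
      show ⁅holV W, (E' : Subgroup (Hol W))⁆ = cjm (φ g') ⁅holV W, (E : Subgroup (Hol W))⁆
      rw [cjm_commutator, cjm_eq_of_mem_normalizer hgV, hE']
    have hEE' : E = E' := by
      by_contra hne
      have hdis := c.U_disjoint hne
      obtain ⟨w, hw1⟩ := (Subgroup.ne_bot_iff_exists_ne_one).mp hmeet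
      have hwc : (w : G) ∈ cj g (wOf K) := w.2.1
      have hwW : (w : G) ∈ wOf K := w.2.2
      have hw1' : (w : G) ≠ 1 := fun h => hw1 (Subtype.ext h)
      rw [mem_cj] at hwc
      obtain ⟨v, hvw, hvU⟩ := hWU _ hwW
      obtain ⟨v', hvw', hvU'⟩ := hWU _ hwc
      have h2 : (SemidirectProduct.inl v : Hol W) ∈ c.U E' := by
        rw [hUE', mem_cjm]
        have e : (φ g')⁻¹ * SemidirectProduct.inl v * φ g' = SemidirectProduct.inl v' := by
          have h3 := holHom_conj_inl W g'⁻¹ v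
          rw [map_inv, inv_inv] at h3
          rw [hφ, h3, SemidirectProduct.inl_inj]
          apply Subtype.ext
          apply Subtype.ext
          simp only [MulAut.conjNormal_apply]
          rw [hvw']
          simp [hvw, hg']
        rw [e]; exact hvU'
      have h3 := hdis.le_bot ⟨hvU, h2⟩
      rw [Subgroup.mem_bot] at h3
      have h4 : v = 1 := SemidirectProduct.inl_injective (by rw [h3, map_one])
      apply hw1'
      rw [← hvw, h4]; rfl
    have hEg : ∀ x ∈ (E : Subgroup (Hol W)), φ g' * x * (φ g')⁻¹ ∈ (E : Subgroup (Hol W)) := by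
      intro x hx
      have : φ g' * x * (φ g')⁻¹ ∈ cjm (φ g') (E : Subgroup (Hol W)) := by
        rw [mem_cjm]
        have e : (φ g')⁻¹ * (φ g' * x * (φ g')⁻¹) * φ g' = x := by group
        rw [e]; exact hx
      rwa [← hE', ← hEE'] at this
    obtain ⟨e⟩ := (c.hE E).2.1
    have ha3 : e ⟨φ d, hdE⟩ ^ 3 = 1 := by
      rw [← map_pow]
      have : (⟨φ d, hdE⟩ : ↥(E : Subgroup (Hol W))) ^ 3 = 1 := Subtype.ext (by simpa using hd3)
      rw [this, map_one]
    have ha1 : e ⟨φ d, hdE⟩ ≠ 1 := by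
      intro h
      have := e.injective (h.trans (map_one e).symm)
      exact hd1 (congrArg Subtype.val this)
    refine ⟨?_, ?_⟩
    · -- `K^g ≤ K C`
      intro x hx
      rw [mem_cj] at hx
      have hxL : x ∈ L := by
        have := L.mul_mem (L.mul_mem hg (hKL hx)) (L.inv_mem hg)
        have e2 : g * (g⁻¹ * x * g) * g⁻¹ = x := by group
        rwa [e2] at this
      set k' : ↥L := ⟨g⁻¹ * x * g, hKL hx⟩ with hk'
      have hxk : (⟨x, hxL⟩ : ↥L) = g' * k' * g'⁻¹ := by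
        apply Subtype.ext
        simp [hk', hg']
        group
      have hφx : φ ⟨x, hxL⟩ = φ g' * φ k' * (φ g')⁻¹ := by rw [hxk, map_mul, map_mul, map_inv]
      have hxE : φ ⟨x, hxL⟩ ∈ (E : Subgroup (Hol W)) := by rw [hφx]; exact hEg _ (hKE k' hx)
      have hx3 : φ ⟨x, hxL⟩ ^ 3 = 1 := by
        rw [hφx]
        have hk3 : φ k' ^ 3 = 1 := by
          rcases hcos k' hx with h | h | h
          · rw [h, one_pow]
          · rw [h, hd3]
          · rw [h, hdd, inv_pow, hd3, inv_one]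
        rw [pow_three'] at hk3 ⊢
        calc φ g' * φ k' * (φ g')⁻¹ * (φ g' * φ k' * (φ g')⁻¹) * (φ g' * φ k' * (φ g')⁻¹)
            = φ g' * (φ k' * φ k' * φ k') * (φ g')⁻¹ := by group
          _ = 1 := by rw [hk3]; group
      have hx3' : e ⟨φ ⟨x, hxL⟩, hxE⟩ ^ 3 = 1 := by
        rw [← map_pow]
        have : (⟨φ ⟨x, hxL⟩, hxE⟩ : ↥(E : Subgroup (Hol W))) ^ 3 = 1 := Subtype.ext (by simpa using hx3)
        rw [this, map_one]
      have hcases := sl22_cube_cases _ _ ha3 ha1 hx3'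
      have hcases' : φ ⟨x, hxL⟩ = 1 ∨ φ ⟨x, hxL⟩ = φ d ∨ φ ⟨x, hxL⟩ = φ d * φ d := by
        rcases hcases with h | h | h
        · left
          have := e.injective (h.trans (map_one e).symm)
          exact congrArg Subtype.val this
        · right; left
          have := e.injective h
          exact congrArg Subtype.val this
        · right; right
          rw [← map_mul] at h
          have := e.injective h
          exact congrArg Subtype.val this
      rcases hcases' with h | h | h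
      · exact Subgroup.mem_sup_right ((holHom_eq_one_iff _).mp h)
      · have h1 : φ (d⁻¹ * ⟨x, hxL⟩) = 1 := by rw [map_mul, map_inv, h]; group
        have h2 := (holHom_eq_one_iff _).mp h1
        have e2 : x = (d : G) * ((d : G)⁻¹ * x) := by group
        rw [e2]
        exact Subgroup.mul_mem_sup hdK (by simpa using h2)
      · have h1 : φ ((d * d)⁻¹ * ⟨x, hxL⟩) = 1 := by rw [map_mul, map_inv, map_mul, h]; group
        have h2 := (holHom_eq_one_iff _).mp h1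
        have e2 : x = ((d : G) * (d : G)) * (((d : G) * (d : G))⁻¹ * x) := by group
        rw [e2]
        exact Subgroup.mul_mem_sup (K.mul_mem hdK hdK) (by simpa using h2)
    · -- the involution
      have hsE : φ g' * φ b * (φ g')⁻¹ ∈ (E : Subgroup (Hol W)) := hEg _ hbE
      have hss : (φ g' * φ b * (φ g')⁻¹) * (φ g' * φ b * (φ g')⁻¹) = 1 := by
        calc (φ g' * φ b * (φ g')⁻¹) * (φ g' * φ b * (φ g')⁻¹) = φ g' * (φ b * φ b) * (φ g')⁻¹ := by group
          _ = 1 := by rw [hbb']; group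
      have hs1 : φ g' * φ b * (φ g')⁻¹ ≠ 1 := by
        intro h
        apply hb1
        calc φ b = (φ g')⁻¹ * (φ g' * φ b * (φ g')⁻¹) * φ g' := by group
          _ = 1 := by rw [h]; group
      have ht2 : e ⟨φ b, hbE⟩ * e ⟨φ b, hbE⟩ = 1 := by
        rw [← map_mul]
        have : (⟨φ b, hbE⟩ : ↥(E : Subgroup (Hol W))) * ⟨φ b, hbE⟩ = 1 := Subtype.ext hbb'
        rw [this, map_one]
      have ht1 : e ⟨φ b, hbE⟩ ≠ 1 := by
        intro h
        have := e.injective (h.trans (map_one e).symm)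
        exact hb1 (congrArg Subtype.val this)
      have hs2 : e ⟨_, hsE⟩ * e ⟨_, hsE⟩ = 1 := by
        rw [← map_mul]
        have : (⟨_, hsE⟩ : ↥(E : Subgroup (Hol W))) * ⟨_, hsE⟩ = 1 := Subtype.ext hss
        rw [this, map_one]
      have hs1' : e ⟨_, hsE⟩ ≠ 1 := by
        intro h
        have := e.injective (h.trans (map_one e).symm)
        exact hs1 (congrArg Subtype.val this)
      have hcases := sl22_invol_cases _ _ _ ha3 ha1 ht2 ht1 hs2 hs1'
      -- translate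
      have key : ∀ k : ↥L, (k : G) ∈ K → (φ g' * φ b * (φ g')⁻¹) * φ k = φ k * φ b →
          ∃ k ∈ K, (k⁻¹ * g) * (b : G) * (k⁻¹ * g)⁻¹ * (b : G)⁻¹ ∈ CW L := by
        intro k hk h
        refine ⟨(k : G), hk, ?_⟩
        have h1 : φ ((k⁻¹ * g') * b * (k⁻¹ * g')⁻¹ * b⁻¹) = 1 := by
          simp only [map_mul, map_inv]
          calc (φ k)⁻¹ * φ g' * φ b * ((φ k)⁻¹ * φ g')⁻¹ * (φ b)⁻¹
              = (φ k)⁻¹ * ((φ g' * φ b * (φ g')⁻¹) * φ k) * (φ b)⁻¹ := by group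
            _ = (φ k)⁻¹ * (φ k * φ b) * (φ b)⁻¹ := by rw [h]
            _ = 1 := by group
        have := (holHom_eq_one_iff _).mp h1
        simpa [hg'] using this
      rcases hcases with h | h | h
      · apply key 1 (by simpa using K.one_mem)
        have := e.injective h
        have h' : φ g' * φ b * (φ g')⁻¹ = φ b := congrArg Subtype.val this
        rw [map_one, mul_one, one_mul, h']
      · apply key d hdK
        have h' : e (⟨_, hsE⟩ * ⟨φ d, hdE⟩) = e (⟨φ d, hdE⟩ * ⟨φ b, hbE⟩) := by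
          simp only [map_mul]; exact h
        have := e.injective h'
        exact congrArg Subtype.val this
      · apply key (d * d) (by simpa using K.mul_mem hdK hdK)
        have h' : e (⟨_, hsE⟩ * (⟨φ d, hdE⟩ * ⟨φ d, hdE⟩)) = e ((⟨φ d, hdE⟩ * ⟨φ d, hdE⟩) * ⟨φ b, hbE⟩) := by
          simp only [map_mul]; exact h
        have := e.injective h'
        have h'' := congrArg Subtype.val this
        rw [map_mul]
        exact h''

end Cfsg.Agent.Lib.Helper49.JC
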