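import Cfsg.Agent.Lib.Helper49.JC.Sn
import Cfsg.Agent.Lib.Helper49.JC.Interface

/-!
# Elements of odd order with small commutator on `V`, in a block configuration

`ξ` of odd order normalizing `V` and `H` with `[V, ξ] ⊆ W'`, `|W'| ≤ 4`: `ξ` fixes every block, and for each
block either centralizes its module or the module is `W'`.
-/

set_option autoImplicit false
set_option linter.unusedSectionVars false
set_option maxHeartbeats 1000000

namespace Cfsg.Agent.Lib.Helper49.JC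

open Cfsg Cfsg.Agent.Lib.Helper49 Cfsg.Agent.Lib.Helper49.FFB
open scoped commutatorElement

universe u

section Gam

variable {Γ : Type u} [Group Γ] [Finite Γ] {V H : Subgroup Γ}

/-- an element of odd order is a power of its square. -/
theorem mem_of_sq_mem_of_odd {S : Subgroup Γ} {ξ : Γ} (hodd : Odd (orderOf ξ)) (h : ξ * ξ ∈ S) : ξ ∈ S := by
  obtain ⟨m, hm⟩ := hodd
  have h1 : (ξ * ξ) ^ (m + 1) = ξ := by
    rw [← pow_two, ← pow_mul]
    have : 2 * (m + 1) = orderOf ξ + 1 := by omega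
    rw [this, pow_succ, pow_orderOf_eq_one, one_mul]
  rw [← h1]
  exact Subgroup.pow_mem _ h _

theorem isFour_U (c : BlockCfg 2 V H) (hV2 : ∀ a ∈ V, a * a = 1) (E : Blk 2 V H) : IsFour (c.U E) :=
  ⟨by rw [c.card_U E]; norm_num, fun w hw => hV2 w (c.U_le_V E hw)⟩

variable (c : BlockCfg 2 V H) (hVc : ∀ a ∈ V, ∀ b ∈ V, a * b = b * a) (hV2 : ∀ a ∈ V, a * a = 1)
  {ξ : Γ} (hξV : ξ ∈ Subgroup.normalizer (V : Set Γ)) (hξH : ξ ∈ Subgroup.normalizer (H : Set Γ))
  (hodd : Odd (orderOf ξ)) {W' : Subgroup Γ} (hW'V : W' ≤ V) (hcard : Nat.card ↥W' ≤ 4)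
  (hcomm : ∀ u ∈ V, ξ * u * ξ⁻¹ * u⁻¹ ∈ W')

include hξV in
theorem cjm_U_of_eq {E E' : Blk 2 V H} (hE' : (E' : Subgroup Γ) = cjm ξ (E : Subgroup Γ)) :
    c.U E' = cjm ξ (c.U E) := by
  show ⁅V, (E' : Subgroup Γ)⁆ = cjm ξ ⁅V, (E : Subgroup Γ)⁆
  rw [cjm_commutator, cjm_eq_of_mem_normalizer hξV, hE']

include c hVc hξV hW'V hcard hcomm in
/-- if `ξ` moves the block `E` to `E' ≠ E`, then `W' ≤ U_E ⊔ U_{E'}`. -/
theorem le_sup_of_moved {E E' : Blk 2 V H} (hE' : (E' : Subgroup Γ) = cjm ξ (E : Subgroup Γ))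
    (hne : E' ≠ E) : W' ≤ c.U E ⊔ c.U E' := by
  have : Fact (Nat.Prime 2) := ⟨Nat.prime_two⟩
  have hU' := cjm_U_of_eq c hξV hE'
  have hconj : ∀ u ∈ c.U E, ξ * u * ξ⁻¹ ∈ c.U E' := by
    intro u hu
    rw [hU']
    exact ⟨u, hu, by simp⟩
  set D := (c.U E ⊔ c.U E') ⊓ W' with hD
  have hf : ∀ u : ↥(c.U E), ξ * (u : Γ) * ξ⁻¹ * (u : Γ)⁻¹ ∈ D := by
    intro u
    refine ⟨?_, hcomm u (c.U_le_V E u.2)⟩
    exact Subgroup.mul_mem _ (Subgroup.mem_sup_right (hconj u u.2))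
      (Subgroup.mem_sup_left (Subgroup.inv_mem _ u.2))
  let f : ↥(c.U E) → ↥D := fun u => ⟨ξ * (u : Γ) * ξ⁻¹ * (u : Γ)⁻¹, hf u⟩
  have hinj : Function.Injective f := by
    intro u u' huu'
    have h1 : ξ * (u : Γ) * ξ⁻¹ * (u : Γ)⁻¹ = ξ * (u' : Γ) * ξ⁻¹ * (u' : Γ)⁻¹ := congrArg Subtype.val huu'
    set z := (u' : Γ)⁻¹ * (u : Γ) with hz
    have hzU : z ∈ c.U E := Subgroup.mul_mem _ (Subgroup.inv_mem _ u'.2) u.2
    have huV : (u : Γ) ∈ V := c.U_le_V E u.2
    have hu'V : (u' : Γ) ∈ V := c.U_le_V E u'.2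
    have hcuV : ξ * (u : Γ) * ξ⁻¹ ∈ V := c.U_le_V E' (hconj u u.2)
    have hcu'V : ξ * (u' : Γ) * ξ⁻¹ ∈ V := c.U_le_V E' (hconj u' u'.2)
    have h2 : ξ * z * ξ⁻¹ = z := by
      have e1 : ξ * z * ξ⁻¹ = (ξ * (u' : Γ) * ξ⁻¹)⁻¹ * (ξ * (u : Γ) * ξ⁻¹) := by rw [hz]; group
      have e2 : ξ * (u : Γ) * ξ⁻¹ = (ξ * (u' : Γ) * ξ⁻¹) * (u' : Γ)⁻¹ * (u : Γ) := by
        calc ξ * (u : Γ) * ξ⁻¹ = (ξ * (u : Γ) * ξ⁻¹ * (u : Γ)⁻¹) * (u : Γ) := by group
          _ = _ := by rw [h1]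
      rw [e1, e2, hz]; group
    have h3 : z ∈ c.U E ⊓ c.U E' := by
      refine ⟨hzU, ?_⟩
      rw [← h2]; exact hconj z hzU
    rw [(c.U_disjoint (Ne.symm hne)).eq_bot] at h3
    have h4 : z = 1 := Subgroup.mem_bot.mp h3
    apply Subtype.ext
    calc (u : Γ) = (u' : Γ) * z := by rw [hz]; group
      _ = u' := by rw [h4, mul_one]
  have h4 : Nat.card ↥(c.U E) ≤ Nat.card ↥D := Nat.card_le_card_of_injective f hinj
  rw [c.card_U E] at h4
  have hDW : D ≤ W' := inf_le_right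
  have hDeq : D = W' := Subgroup.eq_of_le_of_card_ge hDW (by omega)
  rw [← hDeq]
  exact inf_le_left

include c hVc hξV hξH hodd hW'V hcard hcomm in
/-- `ξ` fixes every block. -/
theorem cjm_blk_eq (E : Blk 2 V H) : cjm ξ (E : Subgroup Γ) = (E : Subgroup Γ) := by
  have : Fact (Nat.Prime 2) := ⟨Nat.prime_two⟩
  obtain ⟨E', hE'⟩ := c.exists_blk_cjm hξV hξH E
  by_contra hcon
  have hne : E' ≠ E := by
    intro h
    apply hcon
    rw [← hE', h]
  obtain ⟨E'', hE''⟩ := c.exists_blk_cjm hξV hξH E'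
  have hne' : E'' ≠ E' := by
    intro h
    apply hne
    apply Subtype.ext
    have h1 : cjm ξ (E' : Subgroup Γ) = cjm ξ (E : Subgroup Γ) := by rw [← hE'', h, hE']
    have h2 := congrArg (cjm ξ⁻¹) h1
    rwa [cjm_inv_cjm, cjm_inv_cjm] at h2
  have hne'' : E'' ≠ E := by
    intro h
    apply hcon
    have h1 : cjm (ξ * ξ) (E : Subgroup Γ) = (E : Subgroup Γ) := by
      rw [← cjm_cjm, ← hE', ← hE'', h]
    have h2 : ξ * ξ ∈ Subgroup.normalizer (((E : Subgroup Γ)) : Set Γ) :=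
      (Cfsg.Agent.Lib.Helper9.mem_normalizer_iff_map_conj_eq _ _).mpr h1
    exact cjm_eq_of_mem_normalizer (mem_of_sq_mem_of_odd hodd h2)
  have h1 := le_sup_of_moved c hVc hξV hW'V hcard hcomm hE' hne
  have h2 := le_sup_of_moved c hVc hξV hW'V hcard hcomm hE'' hne'
  obtain ⟨u, hu1⟩ := (Subgroup.ne_bot_iff_exists_ne_one).mp (c.U_ne_bot E)
  have hu1' : (u : Γ) ≠ 1 := fun h => hu1 (Subtype.ext h)
  have hU' := cjm_U_of_eq c hξV hE'
  have hcu : ξ * (u : Γ) * ξ⁻¹ ∈ c.U E' := by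
    rw [hU']; exact ⟨u, u.2, by simp⟩
  have hw : ξ * (u : Γ) * ξ⁻¹ * (u : Γ)⁻¹ ∈ c.U E' ⊔ c.U E'' := h2 (hcomm u (c.U_le_V E u.2))
  have hrest : c.U E' ⊔ c.U E'' ≤ c.restU E := sup_le (c.le_restU hne) (c.le_restU hne'')
  have hu' : (u : Γ)⁻¹ ∈ c.restU E := by
    have : (u : Γ)⁻¹ = (ξ * (u : Γ) * ξ⁻¹)⁻¹ * (ξ * (u : Γ) * ξ⁻¹ * (u : Γ)⁻¹) := by group
    rw [this]
    exact Subgroup.mul_mem _ (Subgroup.inv_mem _ (hrest (Subgroup.mem_sup_left hcu))) (hrest hw)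
  have hmem : (u : Γ) ∈ c.U E ⊓ c.restU E := ⟨u.2, by simpa using Subgroup.inv_mem _ hu'⟩
  rw [c.U_inf_restU E] at hmem
  exact hu1' (Subgroup.mem_bot.mp hmem)

include c hVc hV2 hξV hξH hodd hW'V hcard hcomm in
/-- for each block, `ξ` centralizes its module or the module is `W'`. -/
theorem centralizes_or_eq (E : Blk 2 V H) :
    c.U E ≤ Subgroup.centralizer ({ξ} : Set Γ) ∨ c.U E = W' := by
  have hfix := cjm_blk_eq c hVc hξV hξH hodd hW'V hcard hcomm E
  have hξE : ξ ∈ Subgroup.normalizer (((E : Subgroup Γ)) : Set Γ) :=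
    (Cfsg.Agent.Lib.Helper9.mem_normalizer_iff_map_conj_eq _ _).mpr hfix
  have hξU := c.le_normalizer_U E hξV hξE
  have hF := isFour_U c hV2 E
  have hconj : ∀ w ∈ c.U E, ξ * w * ξ⁻¹ ∈ c.U E := fun w hw => conj_mem_of_mem_normalizer hξU hw
  by_cases hcen : c.U E ≤ Subgroup.centralizer ({ξ} : Set Γ)
  · left; exact hcen
  · right
    obtain ⟨u, hu, huc⟩ := SetLike.not_le_iff_exists.mp hcen
    rw [Subgroup.mem_centralizer_singleton_iff] at huc
    set v := ξ * u * ξ⁻¹ * u⁻¹ with hv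
    have hvU : v ∈ c.U E := Subgroup.mul_mem _ (hconj u hu) (Subgroup.inv_mem _ hu)
    have hvW : v ∈ W' := hcomm u (c.U_le_V E hu)
    have hv1 : v ≠ 1 := by
      intro h
      apply huc
      symm
      calc ξ * u = (ξ * u * ξ⁻¹ * u⁻¹) * (u * ξ) := by group
        _ = u * ξ := by rw [← hv, h, one_mul]
    have hv'W : ξ * v * ξ⁻¹ ∈ W' := by
      have h1 := hcomm (ξ * u * ξ⁻¹) (c.U_le_V E (hconj u hu))
      have h2 : ξ * v * ξ⁻¹ = ξ * (ξ * u * ξ⁻¹) * ξ⁻¹ * (ξ * u * ξ⁻¹)⁻¹ := by rw [hv]; group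
      rw [h2]; exact h1
    have hv'U : ξ * v * ξ⁻¹ ∈ c.U E := hconj v hvU
    have hv'1 : ξ * v * ξ⁻¹ ≠ 1 := by
      intro h
      apply hv1
      calc v = ξ⁻¹ * (ξ * v * ξ⁻¹) * ξ := by group
        _ = 1 := by rw [h]; group
    have hv'v : ξ * v * ξ⁻¹ ≠ v := by
      intro h
      apply huc
      have hsq : ∀ w ∈ c.U E, (ξ * ξ) * w * (ξ * ξ)⁻¹ = w := fun w hw =>
        hF.sq_centralizes hvU hv1 hconj h hw
      have hmem : ξ * ξ ∈ Subgroup.centralizer ((c.U E : Subgroup Γ) : Set Γ) := by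
        rw [mem_centralizer_iff_conj]; exact hsq
      have := mem_of_sq_mem_of_odd hodd hmem
      exact (Subgroup.mem_centralizer_iff.mp this u hu)
    have hle : c.U E ≤ W' := by
      intro w hw
      rcases hF.cases hvU hv1 hv'U hv'1 hv'v hw with rfl | rfl | rfl | rfl
      · exact W'.one_mem
      · exact hvW
      · exact hv'W
      · exact W'.mul_mem hv'W hvW
    exact Subgroup.eq_of_le_of_card_ge hle (by rw [c.card_U E]; omega)

include c in
/-- an element normalizing a block and centralizing its module centralizes the block. -/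
theorem mem_centralizer_blk_of_centralizes {x : Γ} (E : Blk 2 V H)
    (hxE : x ∈ Subgroup.normalizer (((E : Subgroup Γ)) : Set Γ))
    (hU : c.U E ≤ Subgroup.centralizer ({x} : Set Γ)) :
    x ∈ Subgroup.centralizer (((E : Subgroup Γ)) : Set Γ) := by
  have hxu : ∀ u ∈ c.U E, x * u = u * x := fun u hu =>
    (Subgroup.mem_centralizer_singleton_iff.mp (hU hu)).symm
  rw [Subgroup.mem_centralizer_iff]
  intro e he
  have hg1 : x * e * x⁻¹ * e⁻¹ ∈ (E : Subgroup Γ) := by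
    have := (Subgroup.mem_normalizer_iff.mp hxE e).mp he
    exact (E : Subgroup Γ).mul_mem this ((E : Subgroup Γ).inv_mem he)
  have heN : e ∈ Subgroup.normalizer ((c.U E : Subgroup Γ) : Set Γ) :=
    c.le_normalizer_U E (c.hHV (c.le_H E he)) (Subgroup.le_normalizer he)
  have hg2 : x * e * x⁻¹ * e⁻¹ ∈ Subgroup.centralizer ((c.U E : Subgroup Γ) : Set Γ) := by
    rw [Subgroup.mem_centralizer_iff]
    intro u hu
    have hu1 : e⁻¹ * u * e ∈ c.U E := by
      have := (Subgroup.mem_normalizer_iff.mp (Subgroup.inv_mem _ heN) u).mp hu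
      simpa using this
    have h1 := hxu _ hu1
    have h2 := hxu u hu
    have e1 : x⁻¹ * (e⁻¹ * u * e) = (e⁻¹ * u * e) * x⁻¹ := by
      calc x⁻¹ * (e⁻¹ * u * e) = x⁻¹ * ((e⁻¹ * u * e) * x) * x⁻¹ := by group
        _ = x⁻¹ * (x * (e⁻¹ * u * e)) * x⁻¹ := by rw [h1]
        _ = (e⁻¹ * u * e) * x⁻¹ := by group
    calc u * (x * e * x⁻¹ * e⁻¹) = (u * x) * e * x⁻¹ * e⁻¹ := by group
      _ = (x * u) * e * x⁻¹ * e⁻¹ := by rw [h2]
      _ = x * e * ((e⁻¹ * u * e) * x⁻¹) * e⁻¹ := by group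
      _ = x * e * (x⁻¹ * (e⁻¹ * u * e)) * e⁻¹ := by rw [e1]
      _ = x * e * x⁻¹ * e⁻¹ * u := by group
  have hg : x * e * x⁻¹ * e⁻¹ = 1 := by
    have : x * e * x⁻¹ * e⁻¹ ∈ (E : Subgroup Γ) ⊓ Subgroup.centralizer ((c.U E : Subgroup Γ) : Set Γ) :=
      ⟨hg1, hg2⟩
    rw [c.inf_centralizer_U E] at this
    exact Subgroup.mem_bot.mp this
  calc e * x = (x * e * x⁻¹ * e⁻¹)⁻¹ * (x * e) := by group
    _ = x * e := by rw [hg, inv_one, one_mul]

end Gam

section Lam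

open Cfsg.Agent.Lib.Helper49.FF620

variable {Λ : Type u} [Group Λ] [Finite Λ]

attribute [local instance] bigW_characteristic Jk_characteristic

/-- **Block lemma.**  If `κ ≤ Λ` is generated by elements of odd order and `|[W, κ]| ≤ 4`, then `J(Λ)`
normalizes `[W, κ]`. -/
theorem Jk_le_normalizer_commutator_Wk (hsep : Cfsg.IsPSolvable 2 Λ) (hO : Cfsg.pPrimeCore 2 Λ = ⊥)
    (κ : Subgroup Λ) (hodd : Subgroup.closure {g : Λ | g ∈ κ ∧ Odd (orderOf g)} = κ)
    (hcard : Nat.card ↥(⁅Wk 2 Λ, κ⁆ : Subgroup Λ) ≤ 4) :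
    Jk 2 Λ ≤ Subgroup.normalizer ((⁅Wk 2 Λ, κ⁆ : Subgroup Λ) : Set Λ) := by
  have : Fact (Nat.Prime 2) := ⟨Nat.prime_two⟩
  set W := Wk 2 Λ with hW
  have hWn : W.Normal := inferInstance
  have hωW : ⁅W, κ⁆ ≤ W := Subgroup.commutator_le_left W κ
  apply le_normalizer_of_forall_conj_mem
  by_cases hnf : Cfsg.IsThompsonFactorizable 2 Λ
  · have hJC := (Cfsg.Agent.S0608.result (p := 2) hO).mp hnf
    change Jk 2 Λ ≤ Subgroup.centralizer ((W : Subgroup Λ) : Set Λ) at hJC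
    intro j hj g hg
    have := (mem_centralizer_iff_conj.mp (hJC hj)) g (hωW hg)
    rw [this]; exact hg
  · obtain ⟨c, -⟩ := blockCfg_of (p := 2) (fun V H => Cfsg.Agent.S0617.result V H) hsep hO hnf
    have hc' := centralizer_pCore_le_of hsep hO
    obtain ⟨-, hWe, -⟩ := Cfsg.Agent.S0601.result (p := 2) hc'
    change IsElementaryAbelian 2 W at hWe
    have hVel : IsElementaryAbelian 2 (holV W) := holV_isElementaryAbelian _ hWe
    set φ := holHom W with hφ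
    change BlockCfg 2 (holV W) ((Jk 2 Λ).map φ) at c
    have hVc : ∀ a ∈ holV W, ∀ b ∈ holV W, a * b = b * a := by
      intro a ha b hb
      have := hVel.1
      exact setLike_mul_comm ha hb
    have hV2 : ∀ a ∈ holV W, a * a = 1 := by
      intro a ha
      have := hVel.2 a ha
      rwa [pow_two] at this
    have hVn : ∀ ξ : Hol W, ξ ∈ Subgroup.normalizer ((holV W : Subgroup (Hol W)) : Set (Hol W)) := by
      intro ξ
      have : (holV W).Normal := holV_normal W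
      rw [Subgroup.normalizer_eq_top]; trivial
    have hHn : ∀ x : Λ, φ x ∈ Subgroup.normalizer ((((Jk 2 Λ).map φ : Subgroup (Hol W))) : Set (Hol W)) := by
      intro x
      apply Subgroup.le_normalizer_map φ
      refine ⟨x, ?_, rfl⟩
      have : (Jk 2 Λ).Normal := inferInstance
      rw [Subgroup.normalizer_eq_top]; trivial
    -- the image of `[W, κ]`
    set W' : Subgroup (Hol W) :=
      ((⁅W, κ⁆ : Subgroup Λ).subgroupOf W).map (SemidirectProduct.inl : ↥W →* Hol W) with hW'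
    have hW'V : W' ≤ holV W := by
      rintro _ ⟨w, -, rfl⟩
      exact ⟨w, rfl⟩
    have hcardW' : Nat.card ↥W' ≤ 4 := by
      rw [hW', Subgroup.card_map_of_injective SemidirectProduct.inl_injective,
        Nat.card_congr (Subgroup.subgroupOfEquivOfLe hωW).toEquiv]
      exact hcard
    have hmemW' : ∀ w : ↥W, (SemidirectProduct.inl w : Hol W) ∈ W' ↔ (w : Λ) ∈ ⁅W, κ⁆ := by
      intro w
      constructor
      · rintro ⟨w', hw', h⟩
        have := SemidirectProduct.inl_injective h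
        rw [← this]; exact Subgroup.mem_subgroupOf.mp hw'
      · intro h
        exact ⟨w, Subgroup.mem_subgroupOf.mpr h, rfl⟩
    have hcomm : ∀ x ∈ κ, ∀ u ∈ holV W, φ x * u * (φ x)⁻¹ * u⁻¹ ∈ W' := by
      rintro x hx _ ⟨w, rfl⟩
      show φ x * SemidirectProduct.inl w * (φ x)⁻¹ * (SemidirectProduct.inl w)⁻¹ ∈ W'
      rw [holHom_conj_inl, ← map_inv, ← map_mul, hmemW']
      have h1 : ((MulAut.conjNormal x w * w⁻¹ : ↥W) : Λ) = ⁅x, (w : Λ)⁆ := by
        rw [commutatorElement_def]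
        simp [MulAut.conjNormal_apply]
      rw [h1, Subgroup.commutator_comm]
      exact Subgroup.commutator_mem_commutator hx w.2
    have hoddφ : ∀ x : Λ, Odd (orderOf x) → Odd (orderOf (φ x)) := fun x hx =>
      Odd.of_dvd_nat hx (orderOf_map_dvd φ x)
    intro j hj g hg
    by_cases hex : ∃ x ∈ κ, Odd (orderOf x) ∧ ∃ E : Blk 2 (holV W) ((Jk 2 Λ).map φ),
        ¬ c.U E ≤ Subgroup.centralizer ({φ x} : Set (Hol W))
    · obtain ⟨x, hx, hxo, E, hE⟩ := hex
      have hUE : c.U E = W' := by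
        rcases centralizes_or_eq c hVc hV2 (hVn (φ x)) (hHn x) (hoddφ x hxo) hW'V hcardW'
          (hcomm x hx) E with h | h
        · exact absurd h hE
        · exact h
      have hjH : φ j ∈ (Jk 2 Λ).map φ := ⟨j, hj, rfl⟩
      have hjU : φ j ∈ Subgroup.normalizer ((c.U E : Subgroup (Hol W)) : Set (Hol W)) :=
        c.le_normalizer_U E (hVn _) ((c.hE E).1 hjH)
      rw [hUE] at hjU
      have hgW : g ∈ W := hωW hg
      have h1 : (SemidirectProduct.inl (⟨g, hgW⟩ : ↥W) : Hol W) ∈ W' := (hmemW' _).mpr hg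
      have h2 := conj_mem_of_mem_normalizer hjU h1
      rw [holHom_conj_inl, hmemW'] at h2
      simpa [MulAut.conjNormal_apply] using h2
    · push Not at hex
      -- `φ κ` centralizes the image of `J(Λ)`
      have hcen : ∀ x ∈ κ, Odd (orderOf x) → (Jk 2 Λ).map φ ≤ Subgroup.centralizer ({φ x} : Set (Hol W)) := by
        intro x hx hxo
        rw [← c.hsup]
        apply iSup_le
        intro E
        have hfix := cjm_blk_eq c hVc (hVn (φ x)) (hHn x) (hoddφ x hxo) hW'V hcardW' (hcomm x hx) E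
        have hξE : φ x ∈ Subgroup.normalizer (((E : Subgroup (Hol W))) : Set (Hol W)) :=
          (Cfsg.Agent.Lib.Helper9.mem_normalizer_iff_map_conj_eq _ _).mpr hfix
        have := mem_centralizer_blk_of_centralizes c E hξE (hex x hx hxo E)
        intro e he
        rw [Subgroup.mem_centralizer_singleton_iff]
        exact (Subgroup.mem_centralizer_iff.mp this e he)
      have hκ : κ ≤ (Subgroup.centralizer ((((Jk 2 Λ).map φ : Subgroup (Hol W))) : Set (Hol W))).comap φ := by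
        rw [← hodd, Subgroup.closure_le]
        rintro x ⟨hx, hxo⟩
        rw [SetLike.mem_coe, Subgroup.mem_comap, Subgroup.mem_centralizer_iff]
        intro h hh
        have := hcen x hx hxo hh
        rw [Subgroup.mem_centralizer_singleton_iff] at this
        exact this
      have hker : ∀ y ∈ κ, y⁻¹ * (j * y * j⁻¹) ∈ Subgroup.centralizer ((W : Subgroup Λ) : Set Λ) := by
        intro y hy
        rw [← holHom_ker, MonoidHom.mem_ker]
        have h1 := Subgroup.mem_centralizer_iff.mp (Subgroup.mem_comap.mp (hκ hy)) (φ j) ⟨j, hj, rfl⟩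
        rw [map_mul, map_mul, map_mul, map_inv, map_inv]
        calc (φ y)⁻¹ * (φ j * φ y * (φ j)⁻¹) = (φ y)⁻¹ * (φ y * φ j * (φ j)⁻¹) := by rw [h1]
          _ = 1 := by group
      have hle : ⁅W, κ⁆ ≤ (⁅W, κ⁆ : Subgroup Λ).comap (MulAut.conj j).toMonoidHom := by
        rw [Subgroup.commutator_le]
        intro w hw y hy
        rw [Subgroup.mem_comap]
        simp only [MulEquiv.toMonoidHom_eq_coe, MonoidHom.coe_coe, MulAut.conj_apply]
        have hw' : j * w * j⁻¹ ∈ W := hWn.conj_mem w hw j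
        have hc := hker y hy
        have hcw : (y⁻¹ * (j * y * j⁻¹)) * (j * w * j⁻¹)⁻¹ * (y⁻¹ * (j * y * j⁻¹))⁻¹ = (j * w * j⁻¹)⁻¹ :=
          mem_centralizer_iff_conj.mp hc _ (W.inv_mem hw')
        have : j * ⁅w, y⁆ * j⁻¹ = ⁅j * w * j⁻¹, y⁆ := by
          rw [commutatorElement_def, commutatorElement_def]
          calc j * (w * y * w⁻¹ * y⁻¹) * j⁻¹
              = (j * w * j⁻¹) * y * ((y⁻¹ * (j * y * j⁻¹)) * (j * w * j⁻¹)⁻¹ * (y⁻¹ * (j * y * j⁻¹))⁻¹) * y⁻¹ := by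
                group
            _ = (j * w * j⁻¹) * y * (j * w * j⁻¹)⁻¹ * y⁻¹ := by rw [hcw]
        rw [this]
        exact Subgroup.commutator_mem_commutator hw' hy
      have := hle hg
      simpa [Subgroup.mem_comap] using this

end Lam

end Cfsg.Agent.Lib.Helper49.JC
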