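import Cfsg.Agent.Lib.Helper49.JC.ModS3
import Cfsg.Agent.Lib.Helper49.SubnormalJoin1

/-!
# Existence of a `J(T)`-component from local data

`ExistCfg T C₀ A d b`: `T` a 2-group, `C₀ ⊴ T`, `d` of order 3 normalizing `C₀` and inverted by `b ∈ A ∈ 𝒜(T)`,
`T` normalizes `P₀ = C₀⟨d⟩`, `d` does not centralize `Ω₁Z(C₀)` and `J(S) = J(T)` for the 2-subgroups
`J(T) ≤ S ≤ P₀J(T)`. Then `K = O²(P₀)` is a `J(T)`-component.
-/

set_option autoImplicit false
set_option linter.unusedSectionVars false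
set_option maxHeartbeats 1000000

namespace Cfsg.Agent.Lib.Helper49.JC

open Cfsg Cfsg.Agent.Lib.Helper49 Cfsg.Agent.Lib.Helper97 Cfsg.Agent.Lib.Helper33
  Cfsg.Agent.Lib.Helper47 Cfsg.Agent.Lib.Helper72
open scoped commutatorElement

universe u

variable {G : Type u} [Group G] [Finite G]

/-- in a finite group, `g K g⁻¹ ⊆ K` implies `g ∈ N(K)`. -/
theorem mem_normalizer_of_forall_conj_mem_fin {K : Subgroup G} {g : G}
    (h : ∀ k ∈ K, g * k * g⁻¹ ∈ K) : g ∈ Subgroup.normalizer (K : Set G) := by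
  have hle : cj g K ≤ K := by
    rintro _ ⟨k, hk, rfl⟩
    exact h k hk
  have heq : cj g K = K := Subgroup.eq_of_le_of_card_ge hle (by rw [card_cj])
  apply mem_normalizer_of_conj_mem h
  intro x hx
  have : x ∈ cj g K := by rw [heq]; exact hx
  exact mem_cj.mp this

/-- the local data. -/
structure ExistCfg (T C₀ A : Subgroup G) (d b : G) : Prop where
  hT : IsPGroup 2 T
  hA : A ∈ maxEAOf 2 T
  hbA : b ∈ A
  hC₀T : C₀ ≤ T
  hTC₀ : T ≤ Subgroup.normalizer (C₀ : Set G)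
  hdC₀ : d ∈ Subgroup.normalizer (C₀ : Set G)
  hd3 : d ^ 3 = 1
  hd1 : d ≠ 1
  hbd : b * d * b⁻¹ = d⁻¹
  hTP : ∀ t ∈ thompsonSubgroupOf 2 T, t * d * t⁻¹ ∈ C₀ ⊔ Subgroup.zpowers d
  hw : ∃ w ∈ C₀, w ∈ Subgroup.centralizer (C₀ : Set G) ∧ w * w = 1 ∧ d * w * d⁻¹ ≠ w
  hJ : ∀ S : Subgroup G, IsPGroup 2 S → thompsonSubgroupOf 2 T ≤ S →
    S ≤ (C₀ ⊔ Subgroup.zpowers d) ⊔ thompsonSubgroupOf 2 T →
      thompsonSubgroupOf 2 S = thompsonSubgroupOf 2 T

/-- the candidate component `O²(C₀⟨d⟩)`. -/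
def comp (C₀ : Subgroup G) (d : G) : Subgroup G :=
  Subgroup.closure {x | x ∈ C₀ ⊔ Subgroup.zpowers d ∧ Odd (orderOf x)}

namespace ExistCfg

variable {T C₀ A : Subgroup G} {d b : G}

theorem orderOf_d (h : ExistCfg T C₀ A d b) : orderOf d = 3 := by
  have : Fact (Nat.Prime 3) := ⟨by norm_num⟩
  exact orderOf_eq_prime h.hd3 h.hd1

theorem inv_d (h : ExistCfg T C₀ A d b) : d⁻¹ = d * d := by
  have := h.hd3
  rw [pow_three'] at this
  exact inv_eq_of_mul_eq_one_left this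

theorem zpowers_cases (h : ExistCfg T C₀ A d b) {s : G} (hs : s ∈ Subgroup.zpowers d) :
    s = 1 ∨ s = d ∨ s = d⁻¹ := by
  obtain ⟨i, rfl⟩ := Subgroup.mem_zpowers_iff.mp hs
  have h1 := zpow_mod_orderOf d i
  rw [h.orderOf_d] at h1
  have h0 : 0 ≤ i % 3 := Int.emod_nonneg _ (by norm_num)
  have h3 : i % 3 < 3 := Int.emod_lt_of_pos _ (by norm_num)
  rw [← h1]
  generalize i % 3 = r at h0 h3
  interval_cases r
  · left; simp
  · right; left; simp
  · right; right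
    rw [h.inv_d]
    exact zpow_two d

theorem not_mem_of_isPGroup (h : ExistCfg T C₀ A d b) {Q : Subgroup G} (hQ : IsPGroup 2 Q) : d ∉ Q := by
  intro hd
  obtain ⟨k, hk⟩ := hQ ⟨d, hd⟩
  have h1 : d ^ (2 ^ k) = 1 := congrArg Subtype.val hk
  have h2 := orderOf_dvd_of_pow_eq_one h1
  rw [h.orderOf_d] at h2
  have h3 : 3 ∣ 2 := Nat.Prime.dvd_of_dvd_pow (by norm_num) h2
  norm_num at h3

theorem isPGroup_C₀ (h : ExistCfg T C₀ A d b) : IsPGroup 2 C₀ := h.hT.to_le h.hC₀T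

theorem zpowers_le_normalizer (h : ExistCfg T C₀ A d b) :
    Subgroup.zpowers d ≤ Subgroup.normalizer (C₀ : Set G) := by
  rw [Subgroup.zpowers_le]; exact h.hdC₀

theorem P₀_le_normalizer (h : ExistCfg T C₀ A d b) :
    C₀ ⊔ Subgroup.zpowers d ≤ Subgroup.normalizer (C₀ : Set G) :=
  sup_le Subgroup.le_normalizer h.zpowers_le_normalizer

theorem mem_P₀_cases (h : ExistCfg T C₀ A d b) {x : G} (hx : x ∈ C₀ ⊔ Subgroup.zpowers d) :
    x ∈ C₀ ∨ d⁻¹ * x ∈ C₀ ∨ d * x ∈ C₀ := by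
  rw [sup_comm] at hx
  obtain ⟨s, hs, c, hc, rfl⟩ := exists_mul_of_mem_sup h.zpowers_le_normalizer hx
  rcases h.zpowers_cases hs with rfl | rfl | rfl
  · left; simpa using hc
  · right; left; simpa using hc
  · right; right; simpa using hc

theorem d_mem_comp (h : ExistCfg T C₀ A d b) : d ∈ comp C₀ d := by
  apply Subgroup.subset_closure
  refine ⟨Subgroup.mem_sup_right (Subgroup.mem_zpowers d), ?_⟩
  rw [h.orderOf_d]; decide

theorem comp_le (C₀ : Subgroup G) (d : G) : comp C₀ d ≤ C₀ ⊔ Subgroup.zpowers d := by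
  unfold comp
  rw [Subgroup.closure_le]
  rintro x ⟨hx, -⟩
  exact hx

theorem normalizer_le_normalizer_comp (C₀ : Subgroup G) (d : G) :
    Subgroup.normalizer ((C₀ ⊔ Subgroup.zpowers d : Subgroup G) : Set G) ≤
      Subgroup.normalizer ((comp C₀ d : Subgroup G) : Set G) := by
  intro g hg
  apply mem_normalizer_of_forall_conj_mem_fin
  have hle : comp C₀ d ≤ (comp C₀ d).comap (MulAut.conj g).toMonoidHom := by
    unfold comp
    rw [Subgroup.closure_le]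
    rintro x ⟨hx, hxo⟩
    rw [SetLike.mem_coe, Subgroup.mem_comap]
    apply Subgroup.subset_closure
    refine ⟨conj_mem_of_mem_normalizer hg hx, ?_⟩
    have : orderOf (g * x * g⁻¹) = orderOf x := by
      simpa [MulAut.conj_apply] using MulEquiv.orderOf_eq (MulAut.conj g) x
    show Odd (orderOf (g * x * g⁻¹))
    rw [this]; exact hxo
  intro k hk
  exact hle hk

theorem J_le_normalizer_P₀ (h : ExistCfg T C₀ A d b) :
    thompsonSubgroupOf 2 T ≤ Subgroup.normalizer ((C₀ ⊔ Subgroup.zpowers d : Subgroup G) : Set G) := by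
  intro t ht
  have htT : t ∈ T := thompsonSubgroupOf_le 2 T ht
  apply mem_normalizer_of_forall_conj_mem_fin
  have hle : C₀ ⊔ Subgroup.zpowers d ≤ (C₀ ⊔ Subgroup.zpowers d).comap (MulAut.conj t).toMonoidHom := by
    apply sup_le
    · intro c hc
      rw [Subgroup.mem_comap]
      exact Subgroup.mem_sup_left (conj_mem_of_mem_normalizer (h.hTC₀ htT) hc)
    · rw [Subgroup.zpowers_le, Subgroup.mem_comap]
      exact h.hTP t ht
  intro x hx
  exact hle hx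

theorem J_le_normalizer_comp (h : ExistCfg T C₀ A d b) :
    thompsonSubgroupOf 2 T ≤ Subgroup.normalizer ((comp C₀ d : Subgroup G) : Set G) :=
  h.J_le_normalizer_P₀.trans (normalizer_le_normalizer_comp C₀ d)

theorem P₀_le_normalizer_comp (C₀ : Subgroup G) (d : G) :
    C₀ ⊔ Subgroup.zpowers d ≤ Subgroup.normalizer ((comp C₀ d : Subgroup G) : Set G) :=
  Subgroup.le_normalizer.trans (normalizer_le_normalizer_comp C₀ d)

theorem comp_le_normalizer_C₀ (h : ExistCfg T C₀ A d b) :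
    comp C₀ d ≤ Subgroup.normalizer (C₀ : Set G) :=
  (comp_le C₀ d).trans h.P₀_le_normalizer

/-- `O₂(K) = K ∩ C₀`. -/
theorem pCoreOf_comp (h : ExistCfg T C₀ A d b) : pCoreOf 2 (comp C₀ d) = comp C₀ d ⊓ C₀ := by
  have hle : comp C₀ d ⊓ C₀ ≤ pCoreOf 2 (comp C₀ d) := by
    apply le_pCoreOf inf_le_left
    · intro k hk
      apply mem_normalizer_of_forall_conj_mem_fin
      rintro x ⟨hx1, hx2⟩
      exact ⟨(comp C₀ d).mul_mem ((comp C₀ d).mul_mem hk hx1) ((comp C₀ d).inv_mem hk),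
        conj_mem_of_mem_normalizer (h.comp_le_normalizer_C₀ hk) hx2⟩
    · exact h.isPGroup_C₀.to_le inf_le_right
  apply le_antisymm _ hle
  intro x hx
  have hxK : x ∈ comp C₀ d := pCoreOf_le 2 _ hx
  refine ⟨hxK, ?_⟩
  have hdn : d ∉ pCoreOf 2 (comp C₀ d) := h.not_mem_of_isPGroup (pCoreOf_isPGroup 2 _)
  rcases h.mem_P₀_cases (comp_le C₀ d hxK) with h1 | h1 | h1
  · exact h1
  · exfalso
    apply hdn
    have h2 : d⁻¹ * x ∈ pCoreOf 2 (comp C₀ d) :=
      hle ⟨(comp C₀ d).mul_mem ((comp C₀ d).inv_mem h.d_mem_comp) hxK, h1⟩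
    have h3 : d⁻¹ ∈ pCoreOf 2 (comp C₀ d) := by
      have := (pCoreOf 2 (comp C₀ d)).mul_mem h2 ((pCoreOf 2 (comp C₀ d)).inv_mem hx)
      simpa using this
    simpa using (pCoreOf 2 (comp C₀ d)).inv_mem h3
  · exfalso
    apply hdn
    have h2 : d * x ∈ pCoreOf 2 (comp C₀ d) :=
      hle ⟨(comp C₀ d).mul_mem h.d_mem_comp hxK, h1⟩
    have := (pCoreOf 2 (comp C₀ d)).mul_mem h2 ((pCoreOf 2 (comp C₀ d)).inv_mem hx)
    simpa using this

theorem mem_comp_cases (h : ExistCfg T C₀ A d b) {k : G} (hk : k ∈ comp C₀ d) :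
    k ∈ pCoreOf 2 (comp C₀ d) ∨ d⁻¹ * k ∈ pCoreOf 2 (comp C₀ d) ∨ d * k ∈ pCoreOf 2 (comp C₀ d) := by
  rw [h.pCoreOf_comp]
  rcases h.mem_P₀_cases (comp_le C₀ d hk) with h1 | h1 | h1
  · left; exact ⟨hk, h1⟩
  · right; left; exact ⟨(comp C₀ d).mul_mem ((comp C₀ d).inv_mem h.d_mem_comp) hk, h1⟩
  · right; right; exact ⟨(comp C₀ d).mul_mem h.d_mem_comp hk, h1⟩

theorem comp_sup_C₀ (h : ExistCfg T C₀ A d b) : comp C₀ d ⊔ C₀ = C₀ ⊔ Subgroup.zpowers d := by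
  apply le_antisymm
  · exact sup_le (comp_le C₀ d) le_sup_left
  · refine sup_le le_sup_right ?_
    rw [Subgroup.zpowers_le]
    exact Subgroup.mem_sup_left h.d_mem_comp

theorem card_P₀ (h : ExistCfg T C₀ A d b) :
    Nat.card (C₀ ⊔ Subgroup.zpowers d : Subgroup G) = 3 * Nat.card C₀ := by
  have h1 := card_sup_mul_card_inf_of_le_normalizer h.zpowers_le_normalizer
  have h2 : Subgroup.zpowers d ⊓ C₀ = ⊥ := by
    rw [eq_bot_iff]
    rintro x ⟨hx1, hx2⟩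
    rcases h.zpowers_cases hx1 with rfl | rfl | rfl
    · exact Subgroup.mem_bot.mpr rfl
    · exact absurd hx2 (h.not_mem_of_isPGroup h.isPGroup_C₀)
    · exfalso
      apply h.not_mem_of_isPGroup h.isPGroup_C₀
      simpa using C₀.inv_mem hx2
  rw [h2, Subgroup.card_bot, mul_one, Nat.card_zpowers, h.orderOf_d, sup_comm] at h1
  exact h1

/-- `|K : O₂(K)| = 3`. -/
theorem relIndex_comp (h : ExistCfg T C₀ A d b) :
    (pCoreOf 2 (comp C₀ d)).relIndex (comp C₀ d) = 3 := by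
  have h1 := card_sup_mul_card_inf_of_le_normalizer h.comp_le_normalizer_C₀
  rw [h.comp_sup_C₀, h.card_P₀, ← h.pCoreOf_comp] at h1
  have h2 := card_mul_relIndex_of_le (pCoreOf_le 2 (comp C₀ d))
  have hpos : 0 < Nat.card C₀ := Nat.card_pos
  have hpos' : 0 < Nat.card (pCoreOf 2 (comp C₀ d)) := Nat.card_pos
  have h3 : Nat.card (comp C₀ d) = 3 * Nat.card (pCoreOf 2 (comp C₀ d)) := by
    have : Nat.card C₀ * (3 * Nat.card (pCoreOf 2 (comp C₀ d))) = Nat.card C₀ * Nat.card (comp C₀ d) := by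
      linarith
    exact (Nat.eq_of_mul_eq_mul_left hpos this).symm
  rw [h3] at h2
  have : Nat.card (pCoreOf 2 (comp C₀ d)) * (pCoreOf 2 (comp C₀ d)).relIndex (comp C₀ d) =
      Nat.card (pCoreOf 2 (comp C₀ d)) * 3 := by rw [h2]; ring
  exact Nat.eq_of_mul_eq_mul_left hpos' this

theorem closure_odd_comp (C₀ : Subgroup G) (d : G) :
    Subgroup.closure {g : G | g ∈ comp C₀ d ∧ Odd (orderOf g)} = comp C₀ d := by
  apply le_antisymm
  · rw [Subgroup.closure_le]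
    rintro x ⟨hx, -⟩
    exact hx
  · nth_rewrite 1 [comp]
    apply Subgroup.closure_mono
    rintro x ⟨hx, hxo⟩
    exact ⟨Subgroup.subset_closure ⟨hx, hxo⟩, hxo⟩

/-- `[K, J(T)] = K`. -/
theorem commutator_comp (h : ExistCfg T C₀ A d b) :
    ⁅comp C₀ d, thompsonSubgroupOf 2 T⁆ = comp C₀ d := by
  have : Fact (Nat.Prime 2) := ⟨Nat.prime_two⟩
  set K := comp C₀ d with hK
  set J := thompsonSubgroupOf 2 T with hJ
  have hJT : J ≤ T := thompsonSubgroupOf_le 2 T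
  have hJK : J ≤ Subgroup.normalizer (K : Set G) := h.J_le_normalizer_comp
  have hle : ⁅K, J⁆ ≤ K := Subgroup.le_normalizer_iff_commutator_le_left.mp hJK
  apply le_antisymm hle
  set N := ⁅K, J⁆ with hN
  have hbJ : b ∈ J := le_thompsonSubgroupOf h.hA h.hbA
  -- `d ∈ N`
  have hdN : d ∈ N := by
    have h1 : ⁅d, b⁆ ∈ N := Subgroup.commutator_mem_commutator h.d_mem_comp hbJ
    have e : ⁅d, b⁆ = d * d := by
      rw [commutatorElement_def]
      have : b * d⁻¹ * b⁻¹ = d := by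
        have := congrArg (·⁻¹) h.hbd
        simp only [mul_inv_rev, inv_inv] at this
        rw [← mul_assoc] at this
        exact this
      calc d * b * d⁻¹ * b⁻¹ = d * (b * d⁻¹ * b⁻¹) := by group
        _ = d * d := by rw [this]
    rw [e, ← h.inv_d] at h1
    simpa using N.inv_mem h1
  -- `P₀` normalizes `N`
  have hP₀N : C₀ ⊔ Subgroup.zpowers d ≤ Subgroup.normalizer (N : Set G) := by
    apply sup_le
    · intro c hc
      apply mem_normalizer_commutator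
      · exact P₀_le_normalizer_comp C₀ d (Subgroup.mem_sup_left hc)
      · exact normalizer_le_normalizer_thompsonSubgroupOf 2 T (Subgroup.le_normalizer (h.hC₀T hc))
    · rw [Subgroup.zpowers_le]
      exact (le_sup_left.trans (sup_le_normalizer_commutator K J)) h.d_mem_comp
  have hNP₀ : N ≤ C₀ ⊔ Subgroup.zpowers d := hle.trans (comp_le C₀ d)
  have hsn : RelSN N (C₀ ⊔ Subgroup.zpowers d) := RelSN.step _ _ _ hNP₀ (RelSN.refl _) hP₀N
  have hsup : C₀ ⊔ Subgroup.zpowers d ≤ N ⊔ C₀ := by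
    refine sup_le le_sup_right ?_
    rw [Subgroup.zpowers_le]
    exact Subgroup.mem_sup_left hdN
  rw [hK]
  nth_rewrite 1 [comp]
  rw [Subgroup.closure_le]
  rintro x ⟨hx, hxo⟩
  exact relSN_mem_of_coprime (p := 2) hsn C₀ le_sup_left h.P₀_le_normalizer h.isPGroup_C₀ x (hsup hx)
    (Nat.coprime_two_right.mpr hxo)

/-- property (2). -/
theorem sylow_comp (h : ExistCfg T C₀ A d b) (S : Subgroup G)
    (hS : IsSylowTwoIn S (comp C₀ d ⊔ thompsonSubgroupOf 2 T)) (hJS : thompsonSubgroupOf 2 T ≤ S) :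
    thompsonSubgroupOf 2 S = thompsonSubgroupOf 2 T :=
  h.hJ S hS.2.1 hJS (hS.1.trans (sup_le_sup_right (comp_le C₀ d) _))

end ExistCfg

/-- the elements of `N(C₀)` centralizing `d` modulo `C₀`. -/
def stabMod (C₀ : Subgroup G) (d : G) : Subgroup G where
  carrier := {a | a ∈ Subgroup.normalizer (C₀ : Set G) ∧ a * d * a⁻¹ * d⁻¹ ∈ C₀}
  one_mem' := ⟨Subgroup.one_mem _, by simp⟩
  mul_mem' := by
    rintro a a' ⟨ha, ha'⟩ ⟨hb, hb'⟩
    refine ⟨Subgroup.mul_mem _ ha hb, ?_⟩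
    have e : a * a' * d * (a * a')⁻¹ * d⁻¹ = a * (a' * d * a'⁻¹ * d⁻¹) * a⁻¹ * (a * d * a⁻¹ * d⁻¹) := by
      group
    rw [e]
    exact C₀.mul_mem (conj_mem_of_mem_normalizer ha hb') ha'
  inv_mem' := by
    rintro a ⟨ha, ha'⟩
    refine ⟨Subgroup.inv_mem _ ha, ?_⟩
    have e : a⁻¹ * d * a⁻¹⁻¹ * d⁻¹ = a⁻¹ * (a * d * a⁻¹ * d⁻¹)⁻¹ * a := by group
    rw [e]
    exact conj_inv_mem_of_mem_normalizer ha (C₀.inv_mem ha')

theorem mem_stabMod {C₀ : Subgroup G} {d a : G} :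
    a ∈ stabMod C₀ d ↔ a ∈ Subgroup.normalizer (C₀ : Set G) ∧ a * d * a⁻¹ * d⁻¹ ∈ C₀ := Iff.rfl

/-- the kernel of the norm map `z ↦ z z^d z^{d²}` on an elementary abelian subgroup normalized by `d`. -/
def normKer (Z : Subgroup G) (hZ : IsElementaryAbelian 2 Z) (d : G)
    (hd : d ∈ Subgroup.normalizer (Z : Set G)) : Subgroup G where
  carrier := {z | z ∈ Z ∧ z * (d * z * d⁻¹) * (d * (d * z * d⁻¹) * d⁻¹) = 1}
  one_mem' := ⟨Z.one_mem, by simp⟩
  mul_mem' := by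
    rintro z z' ⟨hz, hz'⟩ ⟨hw, hw'⟩
    refine ⟨Z.mul_mem hz hw, ?_⟩
    have h1 : d * z * d⁻¹ ∈ Z := conj_mem_of_mem_normalizer hd hz
    have h2 : d * (d * z * d⁻¹) * d⁻¹ ∈ Z := conj_mem_of_mem_normalizer hd h1
    have h1' : d * z' * d⁻¹ ∈ Z := conj_mem_of_mem_normalizer hd hw
    have c1 : z' * (d * z * d⁻¹) = (d * z * d⁻¹) * z' := IsElementaryAbelian_comm hZ hw h1
    have c2 : z' * (d * (d * z * d⁻¹) * d⁻¹) = (d * (d * z * d⁻¹) * d⁻¹) * z' :=
      IsElementaryAbelian_comm hZ hw h2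
    have c3 : (d * z' * d⁻¹) * (d * (d * z * d⁻¹) * d⁻¹) = (d * (d * z * d⁻¹) * d⁻¹) * (d * z' * d⁻¹) :=
      IsElementaryAbelian_comm hZ h1' h2
    have e : z * z' * (d * (z * z') * d⁻¹) * (d * (d * (z * z') * d⁻¹) * d⁻¹) =
        (z * (d * z * d⁻¹) * (d * (d * z * d⁻¹) * d⁻¹)) *
          (z' * (d * z' * d⁻¹) * (d * (d * z' * d⁻¹) * d⁻¹)) := by
      calc z * z' * (d * (z * z') * d⁻¹) * (d * (d * (z * z') * d⁻¹) * d⁻¹)
          = z * (z' * (d * z * d⁻¹)) * (d * z' * d⁻¹) * (d * (d * z * d⁻¹) * d⁻¹) *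
              (d * (d * z' * d⁻¹) * d⁻¹) := by group
        _ = z * ((d * z * d⁻¹) * z') * (d * z' * d⁻¹) * (d * (d * z * d⁻¹) * d⁻¹) *
              (d * (d * z' * d⁻¹) * d⁻¹) := by rw [c1]
        _ = z * (d * z * d⁻¹) * z' * ((d * z' * d⁻¹) * (d * (d * z * d⁻¹) * d⁻¹)) *
              (d * (d * z' * d⁻¹) * d⁻¹) := by group
        _ = z * (d * z * d⁻¹) * z' * ((d * (d * z * d⁻¹) * d⁻¹) * (d * z' * d⁻¹)) *
              (d * (d * z' * d⁻¹) * d⁻¹) := by rw [c3]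
        _ = z * (d * z * d⁻¹) * (z' * (d * (d * z * d⁻¹) * d⁻¹)) * (d * z' * d⁻¹) *
              (d * (d * z' * d⁻¹) * d⁻¹) := by group
        _ = z * (d * z * d⁻¹) * ((d * (d * z * d⁻¹) * d⁻¹) * z') * (d * z' * d⁻¹) *
              (d * (d * z' * d⁻¹) * d⁻¹) := by rw [c2]
        _ = _ := by group
    show z * z' * (d * (z * z') * d⁻¹) * (d * (d * (z * z') * d⁻¹) * d⁻¹) = 1
    rw [e, hz', hw', one_mul]
  inv_mem' := by
    rintro z ⟨hz, hz'⟩
    have hzz : z * z = 1 := by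
      have := hZ.2 z hz
      rwa [pow_two] at this
    have e : z⁻¹ = z := inv_eq_of_mul_eq_one_left hzz
    show z⁻¹ ∈ Z ∧ z⁻¹ * (d * z⁻¹ * d⁻¹) * (d * (d * z⁻¹ * d⁻¹) * d⁻¹) = 1
    rw [e]
    exact ⟨hz, hz'⟩

namespace ExistCfg

variable {T C₀ A : Subgroup G} {d b : G}

theorem comp_le_normalizer_omega (C₀ : Subgroup G) (d : G) :
    comp C₀ d ≤ Subgroup.normalizer ((omegaCenterOf (pCoreOf 2 (comp C₀ d)) : Subgroup G) : Set G) :=
  (Subgroup.le_normalizer.trans (normalizer_le_normalizer_pCoreOf 2 _)).trans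
    (normalizer_le_normalizer_omegaCenterOf _)

/-- the norm vanishes on `W_K`. -/
theorem norm_wOf (h : ExistCfg T C₀ A d b) :
    ∀ y ∈ wOf (comp C₀ d), y * (d * y * d⁻¹) * (d * (d * y * d⁻¹) * d⁻¹) = 1 := by
  set K := comp C₀ d with hK
  set R := pCoreOf 2 K with hR
  set Z := omegaCenterOf R with hZ
  have hZel : IsElementaryAbelian 2 Z := isElementaryAbelian_omegaCenterOf R
  have hdZ : d ∈ Subgroup.normalizer (Z : Set G) := comp_le_normalizer_omega C₀ d h.d_mem_comp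
  have hsq : ∀ z ∈ Z, z * z = 1 := fun z hz => by
    have := hZel.2 z hz
    rwa [pow_two] at this
  have hd3 : ∀ z : G, d * (d * (d * z * d⁻¹) * d⁻¹) * d⁻¹ = z := by
    intro z
    have := h.hd3
    rw [pow_three'] at this
    calc d * (d * (d * z * d⁻¹) * d⁻¹) * d⁻¹ = (d * d * d) * z * (d * d * d)⁻¹ := by group
      _ = z := by rw [this]; group
  -- the basic computation
  have hbasic : ∀ z ∈ Z, z * (d * z * d⁻¹) ∈ normKer Z hZel d hdZ := by
    intro z hz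
    have h1 : d * z * d⁻¹ ∈ Z := conj_mem_of_mem_normalizer hdZ hz
    have h2 : d * (d * z * d⁻¹) * d⁻¹ ∈ Z := conj_mem_of_mem_normalizer hdZ h1
    refine ⟨Z.mul_mem hz h1, ?_⟩
    calc z * (d * z * d⁻¹) * (d * (z * (d * z * d⁻¹)) * d⁻¹) * (d * (d * (z * (d * z * d⁻¹)) * d⁻¹) * d⁻¹)
        = z * ((d * z * d⁻¹) * (d * z * d⁻¹)) * ((d * (d * z * d⁻¹) * d⁻¹) * (d * (d * z * d⁻¹) * d⁻¹)) *
            (d * (d * (d * z * d⁻¹) * d⁻¹) * d⁻¹) := by group
      _ = 1 := by rw [hsq _ h1, hsq _ h2, hd3 z, mul_one, mul_one, hsq z hz]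
  have hle : wOf K ≤ normKer Z hZel d hdZ := by
    unfold wOf
    rw [Subgroup.commutator_le]
    intro z hz k hk
    have hzz : z⁻¹ = z := inv_eq_of_mul_eq_one_left (hsq z hz)
    have hcen : ∀ r ∈ R, ∀ x ∈ Z, r * x * r⁻¹ = x := by
      intro r hr x hx
      have := Subgroup.mem_centralizer_iff.mp (omegaCenterOf_le_centralizer R hx) r hr
      rw [this]; group
    rw [commutatorElement_def]
    rcases h.mem_comp_cases hk with h1 | h1 | h1
    · have e : z * k * z⁻¹ * k⁻¹ = 1 := by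
        have := hcen k h1 z⁻¹ (Z.inv_mem hz)
        calc z * k * z⁻¹ * k⁻¹ = z * (k * z⁻¹ * k⁻¹) := by group
          _ = 1 := by rw [this]; group
      rw [e]; exact Subgroup.one_mem _
    · have e : z * k * z⁻¹ * k⁻¹ = z * (d * z * d⁻¹) := by
        have := hcen _ h1 z⁻¹ (Z.inv_mem hz)
        calc z * k * z⁻¹ * k⁻¹ = z * (d * ((d⁻¹ * k) * z⁻¹ * (d⁻¹ * k)⁻¹) * d⁻¹) := by group
          _ = z * (d * z * d⁻¹) := by rw [this, hzz]
      rw [e]; exact hbasic z hz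
    · have h2 : d * (d * z * d⁻¹) * d⁻¹ ∈ Z :=
        conj_mem_of_mem_normalizer hdZ (conj_mem_of_mem_normalizer hdZ hz)
      have e : z * k * z⁻¹ * k⁻¹ = (d * (d * z * d⁻¹) * d⁻¹) * (d * (d * (d * z * d⁻¹) * d⁻¹) * d⁻¹) := by
        have := hcen _ h1 z⁻¹ (Z.inv_mem hz)
        have e1 : d⁻¹ * z * d = d * (d * z * d⁻¹) * d⁻¹ := by
          have := h.inv_d
          calc d⁻¹ * z * d = d⁻¹ * z * d⁻¹⁻¹ := by rw [inv_inv]
            _ = (d * d) * z * (d * d)⁻¹ := by rw [this]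
            _ = _ := by group
        calc z * k * z⁻¹ * k⁻¹ = z * (d⁻¹ * ((d * k) * z⁻¹ * (d * k)⁻¹) * d) := by group
          _ = z * (d⁻¹ * z * d) := by rw [this, hzz]
          _ = z * (d * (d * z * d⁻¹) * d⁻¹) := by rw [e1]
          _ = (d * (d * z * d⁻¹) * d⁻¹) * z := IsElementaryAbelian_comm hZel hz h2
          _ = _ := by rw [hd3 z]
      rw [e]; exact hbasic _ h2
  intro y hy
  exact (hle hy).2

theorem mem_stab_cases (h : ExistCfg T C₀ A d b) : ∀ a ∈ A, a ∈ A ⊓ stabMod C₀ d ∨ b * a ∈ A ⊓ stabMod C₀ d := by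
  intro a ha
  have haT : a ∈ T := h.hA.1 ha
  have haN := h.hTC₀ haT
  have hbT : b ∈ T := h.hA.1 h.hbA
  have hbN := h.hTC₀ hbT
  rcases h.mem_P₀_cases (h.hTP a (le_thompsonSubgroupOf h.hA ha)) with h1 | h1 | h1
  · exfalso
    apply h.not_mem_of_isPGroup h.isPGroup_C₀
    have := conj_inv_mem_of_mem_normalizer haN h1
    have e : a⁻¹ * (a * d * a⁻¹) * a = d := by group
    rwa [e] at this
  · left
    refine ⟨ha, haN, ?_⟩
    have := conj_mem_of_mem_normalizer h.hdC₀ h1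
    have e : d * (d⁻¹ * (a * d * a⁻¹)) * d⁻¹ = a * d * a⁻¹ * d⁻¹ := by group
    rwa [e] at this
  · right
    refine ⟨A.mul_mem h.hbA ha, Subgroup.mul_mem _ hbN haN, ?_⟩
    have h2 := conj_mem_of_mem_normalizer h.hdC₀ (conj_mem_of_mem_normalizer hbN h1)
    have hb' : b * d⁻¹ * b⁻¹ = d := by
      have := congrArg (·⁻¹) h.hbd
      simp only [mul_inv_rev, inv_inv] at this
      rw [← mul_assoc] at this
      exact this
    have e : d * (b * (d * (a * d * a⁻¹)) * b⁻¹) * d⁻¹ = b * a * d * (b * a)⁻¹ * d⁻¹ := by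
      calc d * (b * (d * (a * d * a⁻¹)) * b⁻¹) * d⁻¹
          = d * (b * d * b⁻¹) * (b * a * d * (b * a)⁻¹) * d⁻¹ := by group
        _ = b * a * d * (b * a)⁻¹ * d⁻¹ := by rw [h.hbd]; group
    rwa [e] at h2

/-- the `S₃`-module configuration on `W_K`. -/
theorem s3Mod (h : ExistCfg T C₀ A d b) :
    S3Mod T A (A ⊓ stabMod C₀ d) (wOf (comp C₀ d)) d b := by
  set K := comp C₀ d with hK
  have hKW : Subgroup.normalizer (K : Set G) ≤ Subgroup.normalizer ((wOf K : Subgroup G) : Set G) :=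
    normalizer_le_normalizer_wOf K
  have hdW : d ∈ Subgroup.normalizer ((wOf K : Subgroup G) : Set G) :=
    hKW (Subgroup.le_normalizer h.d_mem_comp)
  refine ⟨h.hA, ?_, ?_, h.hd3, ?_, h.norm_wOf, ?_, h.hbA, h.hbd, inf_le_left, h.mem_stab_cases, ?_⟩
  · refine (wOf_le_pCoreOf K).trans ?_
    rw [h.pCoreOf_comp]
    exact inf_le_right.trans h.hC₀T
  · exact isElementaryAbelian_mono (wOf_le_omegaCenterOf K) (isElementaryAbelian_omegaCenterOf _)
  · intro y hy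
    exact conj_mem_of_mem_normalizer hdW hy
  · intro a ha y hy
    exact conj_mem_of_mem_normalizer (hKW (h.J_le_normalizer_comp (le_thompsonSubgroupOf h.hA ha))) hy
  · rintro a ⟨ha, -, har⟩ y hy
    have haK := h.J_le_normalizer_comp (le_thompsonSubgroupOf h.hA ha)
    have hrK : a * d * a⁻¹ * d⁻¹ ∈ K :=
      K.mul_mem (conj_mem_of_mem_normalizer haK h.d_mem_comp) (K.inv_mem h.d_mem_comp)
    have hrR : a * d * a⁻¹ * d⁻¹ ∈ pCoreOf 2 K := by
      rw [h.pCoreOf_comp]; exact ⟨hrK, har⟩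
    have hy' : d * (a * y * a⁻¹) * d⁻¹ ∈ wOf K :=
      conj_mem_of_mem_normalizer hdW (conj_mem_of_mem_normalizer (hKW haK) hy)
    have hcen := Subgroup.mem_centralizer_iff.mp (pCoreOf_le_centralizer_wOf K hrR) _ hy'
    calc a * (d * y * d⁻¹) * a⁻¹
        = (a * d * a⁻¹ * d⁻¹) * (d * (a * y * a⁻¹) * d⁻¹) * (a * d * a⁻¹ * d⁻¹)⁻¹ := by group
      _ = (d * (a * y * a⁻¹) * d⁻¹) * (a * d * a⁻¹ * d⁻¹) * (a * d * a⁻¹ * d⁻¹)⁻¹ := by rw [hcen]
      _ = d * (a * y * a⁻¹) * d⁻¹ := by group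

/-- `W_K ≠ 1`. -/
theorem wOf_ne_bot (h : ExistCfg T C₀ A d b) : wOf (comp C₀ d) ≠ ⊥ := by
  set K := comp C₀ d with hK
  obtain ⟨w, hwC, hwc, hww, hwd⟩ := h.hw
  have hw' : d * w * d⁻¹ ∈ C₀ := conj_mem_of_mem_normalizer h.hdC₀ hwC
  have hcomm : w * (d * w * d⁻¹) = (d * w * d⁻¹) * w :=
    (Subgroup.mem_centralizer_iff.mp hwc _ hw').symm
  have hwinv : w⁻¹ = w := inv_eq_of_mul_eq_one_left hww
  obtain ⟨z, hz⟩ : ∃ z, z = w * (d * w * d⁻¹) := ⟨_, rfl⟩
  -- `z ∈ K`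
  have hzK : z ∈ K := by
    have h1 : w * d * w⁻¹ ∈ K := by
      have := P₀_le_normalizer_comp C₀ d (Subgroup.mem_sup_left hwC)
      exact conj_mem_of_mem_normalizer this h.d_mem_comp
    have e : z = (w * d * w⁻¹) * d⁻¹ := by rw [hz, hwinv]; group
    rw [e]
    exact K.mul_mem h1 (K.inv_mem h.d_mem_comp)
  have hzC : z ∈ C₀ := by rw [hz]; exact C₀.mul_mem hwC hw'
  have hzR : z ∈ pCoreOf 2 K := by rw [h.pCoreOf_comp]; exact ⟨hzK, hzC⟩
  have hw'c : d * w * d⁻¹ ∈ Subgroup.centralizer (C₀ : Set G) := by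
    apply Subgroup.mem_centralizer_iff.mpr
    intro c hc
    have h1 : d⁻¹ * c * d ∈ C₀ := conj_inv_mem_of_mem_normalizer h.hdC₀ hc
    have h2 := Subgroup.mem_centralizer_iff.mp hwc _ h1
    calc c * (d * w * d⁻¹) = d * ((d⁻¹ * c * d) * w) * d⁻¹ := by group
      _ = d * (w * (d⁻¹ * c * d)) * d⁻¹ := by rw [h2]
      _ = d * w * d⁻¹ * c := by group
  have hzc : z ∈ Subgroup.centralizer (C₀ : Set G) := by rw [hz]; exact Subgroup.mul_mem _ hwc hw'c
  have hzz : z ^ 2 = 1 := by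
    rw [pow_two, hz]
    calc w * (d * w * d⁻¹) * (w * (d * w * d⁻¹)) = w * ((d * w * d⁻¹) * w) * (d * w * d⁻¹) := by group
      _ = w * (w * (d * w * d⁻¹)) * (d * w * d⁻¹) := by rw [hcomm]
      _ = (w * w) * (d * (w * w) * d⁻¹) := by group
      _ = 1 := by rw [hww]; group
  have hzZ : z ∈ omegaCenterOf (pCoreOf 2 K) := by
    refine mem_omegaCenterOf_iff.mpr ⟨hzR, ?_, hzz⟩
    apply Subgroup.centralizer_le _ hzc
    rw [h.pCoreOf_comp]
    exact inf_le_right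
  have hmem : ⁅z, d⁆ ∈ wOf K := Subgroup.commutator_mem_commutator hzZ h.d_mem_comp
  intro hbot
  rw [hbot, Subgroup.mem_bot, commutatorElement_def] at hmem
  -- `z = d z d⁻¹`
  have e1 : d * z * d⁻¹ = z := by
    calc d * z * d⁻¹ = (z * d * z⁻¹ * d⁻¹)⁻¹ * z := by group
      _ = z := by rw [hmem]; group
  -- so `w = d² w d⁻²`
  have e2 : d * (d * w * d⁻¹) * d⁻¹ = w := by
    have : d * z * d⁻¹ = (d * w * d⁻¹) * (d * (d * w * d⁻¹) * d⁻¹) := by rw [hz]; group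
    rw [e1, hz] at this
    have h3 : (d * w * d⁻¹)⁻¹ * (w * (d * w * d⁻¹)) = d * (d * w * d⁻¹) * d⁻¹ := by
      rw [this]; group
    rw [hcomm] at h3
    rw [← h3]; group
  apply hwd
  have hd3 := h.hd3
  rw [pow_three'] at hd3
  calc d * w * d⁻¹ = d * (d * (d * w * d⁻¹) * d⁻¹) * d⁻¹ := by rw [e2]
    _ = (d * d * d) * w * (d * d * d)⁻¹ := by group
    _ = w := by rw [hd3]; group

/-- `|W_K| = 4`. -/
theorem card_wOf (h : ExistCfg T C₀ A d b) : Nat.card (wOf (comp C₀ d)) = 4 := by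
  have : Fact (Nat.Prime 2) := ⟨Nat.prime_two⟩
  set K := comp C₀ d with hK
  have hs := h.s3Mod
  have hle : Nat.card (wOf K) ≤ 4 := hs.card_le
  have hne := h.wOf_ne_bot
  have hp : IsPGroup 2 (wOf K) := h.hT.to_le hs.hYT
  obtain ⟨n, hn⟩ := hp.exists_card_eq
  have h1 : 1 < Nat.card (wOf K) := (Subgroup.one_lt_card_iff_ne_bot _).mpr hne
  rw [hn] at hle h1 ⊢
  have hn2 : n ≤ 2 := by
    by_contra hcon
    have : 2 ^ 3 ≤ 2 ^ n := Nat.pow_le_pow_right (by norm_num) (by omega)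
    omega
  interval_cases n
  · norm_num at h1
  · -- order 2 is impossible
    exfalso
    obtain ⟨y, hy1⟩ := (Subgroup.ne_bot_iff_exists_ne_one).mp hne
    have hy1' : (y : G) ≠ 1 := fun h' => hy1 (Subtype.ext h')
    have hdy : d * (y : G) * d⁻¹ ∈ wOf K := hs.hdY y y.2
    have hdy1 : d * (y : G) * d⁻¹ ≠ 1 := by
      intro h'
      apply hy1'
      calc (y : G) = d⁻¹ * (d * y * d⁻¹) * d := by group
        _ = 1 := by rw [h']; group
    have hc2 : Nat.card (wOf K) ≤ 2 := by rw [hn]; norm_num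
    have heq := eq_of_card_le_two hc2 hdy y.2 hdy1 hy1'
    have hN := hs.hN y y.2
    rw [heq, heq, hs.sq y.2, one_mul] at hN
    exact hy1' hN
  · norm_num

/-- **Existence.** -/
theorem isJComponent_comp (h : ExistCfg T C₀ A d b) : IsJComponent T (comp C₀ d) := by
  refine ⟨closure_odd_comp C₀ d, h.commutator_comp, h.relIndex_comp, h.sylow_comp, h.card_wOf, ?_⟩
  intro w hw
  have := (isElementaryAbelian_omegaCenterOf _).2 w (wOf_le_omegaCenterOf _ hw)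
  rwa [pow_two] at this

end ExistCfg

end Cfsg.Agent.Lib.Helper49.JC
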