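import Cfsg.Agent.Lib.Helper49.JC.Exist
import Cfsg.Agent.Lib.Helper49.JC.Interface

/-!
# Existence of `J(T)`-components in `L ∈ 𝓛(T)`

For a block `E` of `J(L)C_L(W)/C_L(W)` met by `b ∈ A ∈ 𝒜(T)` there is `d ∈ L` of order 3 mapping into `E`,
inverted by `b`, such that `(T, C_L(W) ∩ O₂(L), A, d, b)` is an `ExistCfg`; hence `O²(C₀⟨d⟩)` is a
`J(T)`-component contained in `L`.
-/

set_option autoImplicit false
set_option linter.unusedSectionVars false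
set_option maxHeartbeats 1000000

namespace Cfsg.Agent.Lib.Helper49.JC

open Cfsg Cfsg.Agent.Lib.Helper49 Cfsg.Agent.Lib.Helper97 Cfsg.Agent.Lib.Helper33
  Cfsg.Agent.Lib.Helper47 Cfsg.Agent.Lib.Helper49.FF620 Cfsg.Agent.Lib.Helper49.FFB
open scoped commutatorElement

universe u

set_option maxRecDepth 100000 in
theorem sl22_invert : ∀ t s : Matrix.SpecialLinearGroup (Fin 2) (ZMod 2),
    t * t = 1 → t ≠ 1 → s ^ 3 = 1 → t * s * t⁻¹ = s⁻¹ := by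
  decide

section Blk

variable {Γ : Type*} [Group Γ] {E : Subgroup Γ}

theorem blk_cube_cases (e : ↥E ≃* Matrix.SpecialLinearGroup (Fin 2) (ZMod 2)) {a x : Γ}
    (ha : a ∈ E) (ha3 : a ^ 3 = 1) (ha1 : a ≠ 1) (hx : x ∈ E) (hx3 : x ^ 3 = 1) :
    x = 1 ∨ x = a ∨ x = a * a := by
  have ha3' : e ⟨a, ha⟩ ^ 3 = 1 := by
    rw [← map_pow]
    have : (⟨a, ha⟩ : ↥E) ^ 3 = 1 := Subtype.ext (by simpa using ha3)
    rw [this, map_one]
  have ha1' : e ⟨a, ha⟩ ≠ 1 := by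
    intro h
    apply ha1
    have := e.injective (h.trans (map_one e).symm)
    exact congrArg Subtype.val this
  have hx3' : e ⟨x, hx⟩ ^ 3 = 1 := by
    rw [← map_pow]
    have : (⟨x, hx⟩ : ↥E) ^ 3 = 1 := Subtype.ext (by simpa using hx3)
    rw [this, map_one]
  rcases sl22_cube_cases _ _ ha3' ha1' hx3' with h | h | h
  · left
    have := e.injective (h.trans (map_one e).symm)
    exact congrArg Subtype.val this
  · right; left
    have := e.injective h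
    exact congrArg Subtype.val this
  · right; right
    rw [← map_mul] at h
    have := e.injective h
    exact congrArg Subtype.val this

theorem blk_invert (e : ↥E ≃* Matrix.SpecialLinearGroup (Fin 2) (ZMod 2)) {t s : Γ}
    (ht : t ∈ E) (htt : t * t = 1) (ht1 : t ≠ 1) (hs : s ∈ E) (hs3 : s ^ 3 = 1) :
    t * s * t⁻¹ = s⁻¹ := by
  have htt' : e ⟨t, ht⟩ * e ⟨t, ht⟩ = 1 := by
    rw [← map_mul]
    have : (⟨t, ht⟩ : ↥E) * ⟨t, ht⟩ = 1 := Subtype.ext (by simpa using htt)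
    rw [this, map_one]
  have ht1' : e ⟨t, ht⟩ ≠ 1 := by
    intro h
    apply ht1
    have := e.injective (h.trans (map_one e).symm)
    exact congrArg Subtype.val this
  have hs3' : e ⟨s, hs⟩ ^ 3 = 1 := by
    rw [← map_pow]
    have : (⟨s, hs⟩ : ↥E) ^ 3 = 1 := Subtype.ext (by simpa using hs3)
    rw [this, map_one]
  have h := sl22_invert _ _ htt' ht1' hs3'
  rw [← map_inv, ← map_mul, ← map_mul, ← map_inv] at h
  have := e.injective h
  exact congrArg Subtype.val this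

theorem blk_exists_order_three (e : ↥E ≃* Matrix.SpecialLinearGroup (Fin 2) (ZMod 2)) :
    ∃ s ∈ E, s ^ 3 = 1 ∧ s ≠ 1 := by
  refine ⟨(e.symm m2b : ↥E), (e.symm m2b).2, ?_, ?_⟩
  · have h1 : m2b ^ 3 = 1 := by
      have := orderOf_m2b
      rw [← this]; exact pow_orderOf_eq_one _
    have : (e.symm m2b) ^ 3 = 1 := by rw [← map_pow, h1, map_one]
    simpa using congrArg Subtype.val this
  · intro h
    have h1 : e.symm m2b = 1 := Subtype.ext h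
    have h2 : m2b = 1 := by
      have := congrArg e h1
      simpa using this
    have := orderOf_m2b
    rw [h2, orderOf_one] at this
    norm_num at this

end Blk

section Stab

variable {G : Type u} [Group G]

/-- the stability argument: `j d j⁻¹ = d c` with `[T, C] ≤ C₀` gives `jⁿ d j⁻ⁿ ∈ d cⁿ C₀`. -/
theorem exists_conj_pow_eq {C C₀ T : Subgroup G} {j d c : G}
    (hcomm : ∀ t ∈ T, ∀ x ∈ C, t * x * t⁻¹ * x⁻¹ ∈ C₀)
    (hCn : C ≤ Subgroup.normalizer (C₀ : Set G)) (hTn : T ≤ Subgroup.normalizer (C₀ : Set G))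
    (hj : j ∈ T) (hc : c ∈ C) (hjd : j * d * j⁻¹ = d * c) (n : ℕ) :
    ∃ c₀ ∈ C₀, j ^ n * d * (j ^ n)⁻¹ = d * c ^ n * c₀ := by
  induction n with
  | zero => exact ⟨1, C₀.one_mem, by simp⟩
  | succ n ih =>
    obtain ⟨c₀, hc₀, h⟩ := ih
    have hcn : c ^ n ∈ C := C.pow_mem hc n
    have hq := hcomm j hj _ hcn
    refine ⟨(c ^ n)⁻¹ * (j * c ^ n * j⁻¹ * (c ^ n)⁻¹) * c ^ n * (j * c₀ * j⁻¹), ?_, ?_⟩
    · apply C₀.mul_mem
      · exact Cfsg.Agent.Lib.Helper49.JC.conj_inv_mem_of_mem_normalizer (hCn hcn) hq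
      · exact Cfsg.Agent.Lib.Helper49.JC.conj_mem_of_mem_normalizer (hTn hj) hc₀
    · calc j ^ (n + 1) * d * (j ^ (n + 1))⁻¹ = j * (j ^ n * d * (j ^ n)⁻¹) * j⁻¹ := by
            rw [pow_succ']; group
        _ = j * (d * c ^ n * c₀) * j⁻¹ := by rw [h]
        _ = (j * d * j⁻¹) * (j * c ^ n * j⁻¹) * (j * c₀ * j⁻¹) := by group
        _ = (d * c) * (j * c ^ n * j⁻¹) * (j * c₀ * j⁻¹) := by rw [hjd]
        _ = d * (c * c ^ n) * ((c ^ n)⁻¹ * (j * c ^ n * j⁻¹ * (c ^ n)⁻¹) * c ^ n * (j * c₀ * j⁻¹)) := by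
            group
        _ = _ := by rw [← pow_succ']

end Stab

section Main

variable {G : Type u} [Group G] [Finite G] {T L : Subgroup G}

attribute [local instance] bigW_characteristic Jk_characteristic

theorem isPGroup_zpowers_of_pow_mem {Q : Subgroup G} (hQ : IsPGroup 2 Q) {x : G} {n : ℕ}
    (h : x ^ 2 ^ n ∈ Q) : IsPGroup 2 (Subgroup.zpowers x) := by
  obtain ⟨m, hm⟩ := hQ ⟨_, h⟩
  have h1 : (x ^ 2 ^ n) ^ 2 ^ m = 1 := congrArg Subtype.val hm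
  rintro ⟨y, hy⟩
  obtain ⟨i, rfl⟩ := Subgroup.mem_zpowers_iff.mp hy
  refine ⟨n + m, Subtype.ext ?_⟩
  show (x ^ i) ^ 2 ^ (n + m) = 1
  rw [← zpow_natCast, ← zpow_mul, mul_comm, zpow_mul, zpow_natCast, pow_add, pow_mul, h1, one_zpow]

/-- the local data attached to a block met by `b ∈ A ∈ 𝒜(T)`. -/
theorem exists_existCfg_of_block (hN : ∀ N : Subgroup G, IsTwoLocal N → Group.IsSolvable ↥N)
    (hZ : ∀ S : Sylow 2 G, Subgroup.centralizer (omegaCenterOf (S : Subgroup G) : Set G) ≤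
      Subgroup.normalizer ((S : Subgroup G) : Set G))
    (hT : IsPGroup 2 ↥T) (hT1 : T ≠ ⊥) (hLT : L ∈ jOvergroups T) {A : Subgroup G}
    (hA : A ∈ maxEAOf 2 T) :
    ∀ (E : Blk 2 (holV (Wk 2 ↥L)) ((Jk 2 ↥L).map (holHom (Wk 2 ↥L)))) (b : ↥L), (b : G) ∈ A →
      holHom (Wk 2 ↥L) b ∈ (E : Subgroup (Hol (Wk 2 ↥L))) → holHom (Wk 2 ↥L) b ≠ 1 →
    ∃ d : ↥L, ExistCfg T (CW L ⊓ pCoreOf 2 L) A (d : G) (b : G) ∧
      holHom (Wk 2 ↥L) d ∈ (E : Subgroup (Hol (Wk 2 ↥L))) ∧ holHom (Wk 2 ↥L) d ≠ 1 := by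
  have : Fact (Nat.Prime 2) := ⟨Nat.prime_two⟩
  have : Fact (Nat.Prime 3) := ⟨by norm_num⟩
  have hsyl := sylIn_of_mem hLT
  have hsep := isPSolvable_of_mem hN hLT hT1
  have hO := pPrimeCore_eq_bot_of_mem hLT
  have hJC := not_Jk_le_centralizer hZ hLT
  have hnf : ¬ IsThompsonFactorizable 2 ↥L := fun h => hJC ((Cfsg.Agent.S0608.result hO).mp h)
  obtain ⟨c, -⟩ := blockCfg_of (p := 2) (fun V H => Cfsg.Agent.S0617.result V H) hsep hO hnf
  set W := Wk 2 ↥L with hW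
  set φ := holHom W with hφ
  intro E b hbA hbE hb1
  obtain ⟨e⟩ := (c.hE E).2.1
  have hHE : (Jk 2 ↥L).map φ ≤ Subgroup.normalizer (((E : Subgroup (Hol W)) : Subgroup (Hol W)) : Set (Hol W)) :=
    (c.hE E).1
  -- `b² = 1`
  have hbbG : (b : G) * (b : G) = 1 := by
    have := hA.2.1.2 _ hbA
    rwa [pow_two] at this
  have hbb : b * b = 1 := Subtype.ext (by simpa using hbbG)
  have hbinv : b⁻¹ = b := inv_eq_of_mul_eq_one_left hbb
  have hββ : φ b * φ b = 1 := by rw [← map_mul, hbb, map_one]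
  have hbT : (b : G) ∈ T := hA.1 hbA
  -- an element of order three of `E`
  obtain ⟨δ, hδE, hδ3, hδ1⟩ := blk_exists_order_three e
  have hinv : φ b * δ * (φ b)⁻¹ = δ⁻¹ := blk_invert e hbE hββ hb1 hδE hδ3
  obtain ⟨d₀, -, hd₀⟩ := c.le_H E hδE
  change φ d₀ = δ at hd₀
  have hδδ : δ⁻¹ * δ⁻¹ = δ := by
    have : δ * δ * δ = 1 := by rw [← hδ3, pow_three']
    calc δ⁻¹ * δ⁻¹ = δ⁻¹ * δ⁻¹ * (δ * δ * δ) := by rw [this, mul_one]
      _ = δ := by group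
  -- the element `x₀`
  obtain ⟨x₀, hx₀⟩ : ∃ x₀ : ↥L, x₀ = d₀⁻¹ * b * d₀ * b⁻¹ := ⟨_, rfl⟩
  have hφx₀ : φ x₀ = δ := by
    rw [hx₀, map_mul, map_mul, map_mul, map_inv, map_inv, hd₀]
    calc δ⁻¹ * φ b * δ * (φ b)⁻¹ = δ⁻¹ * (φ b * δ * (φ b)⁻¹) := by group
      _ = δ := by rw [hinv, hδδ]
  have hbx₀ : b * x₀ * b⁻¹ = x₀⁻¹ := by
    rw [hx₀, hbinv]
    have e1 : (d₀⁻¹ * b * d₀ * b)⁻¹ = b⁻¹ * d₀⁻¹ * b⁻¹ * d₀ := by group
    rw [e1, hbinv]
    calc b * (d₀⁻¹ * b * d₀ * b) * b = b * d₀⁻¹ * b * d₀ * (b * b) := by group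
      _ = b * d₀⁻¹ * b * d₀ := by rw [hbb, mul_one]
  -- `C` and `C₀`
  set C := CW L with hC
  set C₀ := C ⊓ pCoreOf 2 L with hC₀
  have hCL : C ≤ L := CW_le L
  have hLC : L ≤ Subgroup.normalizer (C : Set G) := le_normalizer_CW L
  have hCT : C ≤ Subgroup.normalizer (T : Set G) := centralizer_Wk_le_normalizer hZ hLT
  have hLC₀ : L ≤ Subgroup.normalizer (C₀ : Set G) :=
    le_trans (le_inf hLC (Subgroup.le_normalizer.trans (normalizer_le_normalizer_pCoreOf 2 L)))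
      (normalizer_inf_le_normalizer_inf _ _)
  have hC₀T : C₀ ≤ T := inf_le_right.trans (pCoreOf_le_of_sylIn hsyl)
  have hC₀p : IsPGroup 2 C₀ := hT.to_le hC₀T
  have hcommTC : ∀ t ∈ T, ∀ x ∈ C, t * x * t⁻¹ * x⁻¹ ∈ C₀ := by
    intro t ht x hx
    have h1 : t * x * t⁻¹ * x⁻¹ ∈ C :=
      C.mul_mem (conj_mem_of_mem_normalizer (hLC (hsyl.le ht)) hx) (C.inv_mem hx)
    have h2 : t * x * t⁻¹ * x⁻¹ ∈ T := by
      have : t * x * t⁻¹ * x⁻¹ = t * (x * t⁻¹ * x⁻¹) := by group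
      rw [this]
      exact T.mul_mem ht (conj_mem_of_mem_normalizer (hCT hx) (T.inv_mem ht))
    exact ⟨h1, CW_inf_le_pCoreOf hZ hLT ⟨h1, h2⟩⟩
  -- `x₀³ ∈ C`
  have hx₀3 : ((x₀ ^ 3 : ↥L) : G) ∈ C := by
    apply (holHom_eq_one_iff (x₀ ^ 3)).mp
    show φ (x₀ ^ 3) = 1
    rw [map_pow, hφx₀, hδ3]
  have hb3 : b * x₀ ^ 3 * b⁻¹ = (x₀ ^ 3)⁻¹ := by
    rw [← conj_pow, hbx₀, inv_pow]
  have hx₀6 : ((x₀ ^ 6 : ↥L) : G) ∈ C₀ := by
    have h1 := hcommTC (b : G) hbT _ hx₀3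
    have e1 : (b : G) * ((x₀ ^ 3 : ↥L) : G) * (b : G)⁻¹ * ((x₀ ^ 3 : ↥L) : G)⁻¹ =
        (((x₀ ^ 6 : ↥L) : G))⁻¹ := by
      have h2 : ((b * x₀ ^ 3 * b⁻¹ : ↥L) : G) = (((x₀ ^ 3)⁻¹ : ↥L) : G) := congrArg Subtype.val hb3
      have h3 : (b : G) * ((x₀ ^ 3 : ↥L) : G) * (b : G)⁻¹ = ((x₀ ^ 3 : ↥L) : G)⁻¹ := by
        simpa using h2
      rw [h3, ← mul_inv_rev]
      congr 1
      have : (x₀ ^ 6 : ↥L) = x₀ ^ 3 * x₀ ^ 3 := by rw [← pow_add]
      rw [this]; rfl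
    rw [e1] at h1
    simpa using C₀.inv_mem h1
  obtain ⟨k, hk⟩ := hC₀p ⟨_, hx₀6⟩
  have hk' : (x₀ ^ 6) ^ 2 ^ k = 1 := by
    apply Subtype.ext
    have := congrArg Subtype.val hk
    simpa using this
  -- the element `d`
  obtain ⟨d, hd⟩ : ∃ d : ↥L, d = x₀ ^ 2 ^ (k + 1) := ⟨_, rfl⟩
  have hd3 : d ^ 3 = 1 := by
    rw [hd, ← pow_mul]
    have : 2 ^ (k + 1) * 3 = 6 * 2 ^ k := by rw [pow_succ]; ring
    rw [this, pow_mul, hk']
  have hφd : φ d = δ ^ 2 ^ (k + 1) := by rw [hd, map_pow, hφx₀]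
  have hφdE : φ d ∈ (E : Subgroup (Hol W)) := by rw [hφd]; exact Subgroup.pow_mem _ hδE _
  have hδord : orderOf δ = 3 := orderOf_eq_prime hδ3 hδ1
  have hφd1 : φ d ≠ 1 := by
    rw [hφd]
    intro h
    have h2 := orderOf_dvd_of_pow_eq_one h
    rw [hδord] at h2
    have h3 : 3 ∣ 2 := Nat.Prime.dvd_of_dvd_pow (by norm_num) h2
    norm_num at h3
  have hφd3 : φ d ^ 3 = 1 := by rw [← map_pow, hd3, map_one]
  have hbd : b * d * b⁻¹ = d⁻¹ := by rw [hd, ← conj_pow, hbx₀, inv_pow]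
  have hβd : φ b * φ d * (φ b)⁻¹ = (φ d)⁻¹ := by
    rw [← map_inv, ← map_mul, ← map_mul, hbd, map_inv]
  have hdC : (d : G) ∉ C := fun h => hφd1 ((holHom_eq_one_iff d).mpr h)
  have hbdG : (b : G) * (d : G) * (b : G)⁻¹ = (d : G)⁻¹ := by
    have := congrArg Subtype.val hbd
    simpa using this
  -- elements of `T` centralizing `d` modulo `C`
  have hcase2 : ∀ t : ↥L, (t : G) ∈ T → φ t * φ d * (φ t)⁻¹ = φ d →
      (d : G)⁻¹ * ((t : G) * d * (t : G)⁻¹) ∈ C₀ := by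
    intro t ht hcomm
    obtain ⟨cc, hcc⟩ : ∃ cc : G, cc = (d : G)⁻¹ * ((t : G) * d * (t : G)⁻¹) := ⟨_, rfl⟩
    have hccC : cc ∈ C := by
      have h1 : φ (d⁻¹ * (t * d * t⁻¹)) = 1 := by
        rw [map_mul, map_inv, map_mul, map_mul, map_inv, hcomm]; group
      have h2 : ((d⁻¹ * (t * d * t⁻¹) : ↥L) : G) ∈ C := (holHom_eq_one_iff _).mp h1
      rw [hcc]
      exact h2
    have htd : (t : G) * d * (t : G)⁻¹ = d * cc := by rw [hcc]; group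
    obtain ⟨a, ha⟩ := hT ⟨(t : G), ht⟩
    have hta : (t : G) ^ 2 ^ a = 1 := congrArg Subtype.val ha
    obtain ⟨c₀, hc₀, h1⟩ := exists_conj_pow_eq hcommTC (hCL.trans hLC₀) (hsyl.le.trans hLC₀) ht hccC htd
      (2 ^ a)
    rw [hta] at h1
    have h3 : cc ^ 2 ^ a * c₀ = 1 := by
      have h4 : (d : G) * 1 = d * (cc ^ 2 ^ a * c₀) := by
        rw [mul_one, ← mul_assoc]
        simpa using h1
      exact (mul_left_cancel h4).symm
    have h2 : cc ^ 2 ^ a = c₀⁻¹ := eq_inv_of_mul_eq_one_left h3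
    have h4 : cc ^ 2 ^ a ∈ C₀ := by rw [h2]; exact C₀.inv_mem hc₀
    have h5 := isPGroup_zpowers_of_pow_mem hC₀p h4
    have h6 : cc ∈ T := mem_of_two_elt hsyl (hCL hccC) (hCT hccC) h5
    rw [← hcc]
    exact ⟨hccC, CW_inf_le_pCoreOf hZ hLT ⟨hccC, h6⟩⟩
  have hdd : φ d * φ d = (φ d)⁻¹ := by
    have : φ d * φ d * φ d = 1 := by rw [← hφd3, pow_three']
    calc φ d * φ d = (φ d * φ d * φ d) * (φ d)⁻¹ := by group
      _ = (φ d)⁻¹ := by rw [this, one_mul]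
  have hTP : ∀ t ∈ thompsonSubgroupOf 2 T, t * (d : G) * t⁻¹ ∈ C₀ ⊔ Subgroup.zpowers (d : G) := by
    intro t ht
    have htT : t ∈ T := thompsonSubgroupOf_le 2 T ht
    obtain ⟨t', ht'J, rfl⟩ := thompsonSubgroupOf_le_map_Jk hsyl ht
    have ht'T : (t' : G) ∈ T := htT
    show (t' : G) * (d : G) * (t' : G)⁻¹ ∈ C₀ ⊔ Subgroup.zpowers (d : G)
    have hφt : φ t' ∈ (Jk 2 ↥L).map φ := ⟨t', ht'J, rfl⟩
    have hconjE : φ t' * φ d * (φ t')⁻¹ ∈ (E : Subgroup (Hol W)) :=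
      conj_mem_of_mem_normalizer (hHE hφt) hφdE
    have hconj3 : (φ t' * φ d * (φ t')⁻¹) ^ 3 = 1 := by rw [conj_pow, hφd3]; group
    rcases blk_cube_cases e hφdE hφd3 hφd1 hconjE hconj3 with h1 | h1 | h1
    · exfalso; apply hφd1
      calc φ d = (φ t')⁻¹ * (φ t' * φ d * (φ t')⁻¹) * φ t' := by group
        _ = 1 := by rw [h1]; group
    · have h2 := hcase2 t' ht'T h1
      have e1 : (t' : G) * d * (t' : G)⁻¹ = d * ((d : G)⁻¹ * ((t' : G) * d * (t' : G)⁻¹)) := by group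
      rw [e1]
      exact Subgroup.mul_mem _ (Subgroup.mem_sup_right (Subgroup.mem_zpowers _)) (Subgroup.mem_sup_left h2)
    · have hbt : ((b * t' : ↥L) : G) ∈ T := T.mul_mem hbT ht'T
      have h2 : φ (b * t') * φ d * (φ (b * t'))⁻¹ = φ d := by
        rw [map_mul]
        calc φ b * φ t' * φ d * (φ b * φ t')⁻¹ = φ b * (φ t' * φ d * (φ t')⁻¹) * (φ b)⁻¹ := by group
          _ = φ b * (φ d * φ d) * (φ b)⁻¹ := by rw [h1]
          _ = (φ b * φ d * (φ b)⁻¹) * (φ b * φ d * (φ b)⁻¹) := by group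
          _ = (φ d)⁻¹ * (φ d)⁻¹ := by rw [hβd]
          _ = (φ d * φ d)⁻¹ := by group
          _ = φ d := by rw [hdd, inv_inv]
      have h3 := hcase2 (b * t') hbt h2
      have hbN : (b : G) ∈ Subgroup.normalizer (C₀ : Set G) := hLC₀ b.2
      have h4 := conj_inv_mem_of_mem_normalizer hbN h3
      have hbinvG : (b : G)⁻¹ = (b : G) := inv_eq_of_mul_eq_one_left hbbG
      have hbd' : (b : G)⁻¹ * (d : G)⁻¹ * (b : G) = d := by
        have := congrArg (·⁻¹) hbdG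
        simp only [mul_inv_rev, inv_inv] at this
        rw [← mul_assoc] at this
        rw [hbinvG] at this ⊢
        exact this
      have e1 : (t' : G) * d * (t' : G)⁻¹ = (d : G)⁻¹ *
          ((b : G)⁻¹ * ((d : G)⁻¹ * (((b * t' : ↥L) : G) * d * ((b * t' : ↥L) : G)⁻¹)) * b) := by
        have e2 : ((b * t' : ↥L) : G) = (b : G) * (t' : G) := rfl
        rw [e2]
        calc (t' : G) * d * (t' : G)⁻¹
            = ((b : G)⁻¹ * (d : G)⁻¹ * b)⁻¹ * ((b : G)⁻¹ * ((d : G)⁻¹ * ((b : G) * t' * d * ((b : G) * t')⁻¹)) * b) := by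
              group
          _ = _ := by rw [hbd']
      rw [e1]
      exact Subgroup.mul_mem _ (Subgroup.mem_sup_right (Subgroup.inv_mem _ (Subgroup.mem_zpowers _)))
        (Subgroup.mem_sup_left h4)
  -- a witness in `W`
  have hc' := centralizer_pCore_le_of hsep hO
  obtain ⟨-, hWe, -⟩ := Cfsg.Agent.S0601.result (p := 2) hc'
  change IsElementaryAbelian 2 W at hWe
  have hw : ∃ w ∈ C₀, w ∈ Subgroup.centralizer (C₀ : Set G) ∧ w * w = 1 ∧ (d : G) * w * (d : G)⁻¹ ≠ w := by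
    have hdn : d ∉ Subgroup.centralizer ((W : Subgroup ↥L) : Set ↥L) := fun h => hdC ⟨d, h, rfl⟩
    rw [Subgroup.mem_centralizer_iff] at hdn
    push Not at hdn
    obtain ⟨w, hwW, hwd⟩ := hdn
    have hwG : (w : G) ∈ (Wk 2 ↥L).map L.subtype := ⟨w, hwW, rfl⟩
    obtain ⟨h1, h2, h3⟩ := map_Wk_le hLT hN hT1 hwG
    have hwC : (w : G) ∈ C := by
      refine ⟨w, ?_, rfl⟩
      apply Subgroup.mem_centralizer_iff.mpr
      intro v hv
      exact IsElementaryAbelian_comm hWe hv hwW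
    refine ⟨(w : G), ⟨hwC, h1⟩, Subgroup.centralizer_le inf_le_right h2, h3, ?_⟩
    intro h
    apply hwd
    apply Subtype.ext
    show (w : G) * (d : G) = (d : G) * (w : G)
    calc (w : G) * d = ((d : G) * w * (d : G)⁻¹) * d := by rw [h]
      _ = d * w := by group
  refine ⟨d, ⟨hT, hA, hbA, hC₀T, hsyl.le.trans hLC₀, hLC₀ d.2, ?_, ?_, hbdG, hTP, hw, ?_⟩, hφdE, hφd1⟩
  · have := congrArg Subtype.val hd3
    simpa using this
  · intro h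
    apply hφd1
    have : d = 1 := Subtype.ext h
    rw [this, map_one]
  · intro S hS hJS hSle
    apply thompsonSubgroupOf_eq_of_sylIn hsyl _ hS hJS
    refine hSle.trans (sup_le (sup_le (hC₀T.trans hsyl.le) ?_) ((thompsonSubgroupOf_le 2 T).trans hsyl.le))
    rw [Subgroup.zpowers_le]
    exact d.2

/-- some block is met by a member of `𝒜(T)`. -/
theorem exists_block_hit (hN : ∀ N : Subgroup G, IsTwoLocal N → Group.IsSolvable ↥N)
    (hZ : ∀ S : Sylow 2 G, Subgroup.centralizer (omegaCenterOf (S : Subgroup G) : Set G) ≤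
      Subgroup.normalizer ((S : Subgroup G) : Set G))
    (hT : IsPGroup 2 ↥T) (hT1 : T ≠ ⊥) (hLT : L ∈ jOvergroups T) :
    ∃ (E : Blk 2 (holV (Wk 2 ↥L)) ((Jk 2 ↥L).map (holHom (Wk 2 ↥L)))) (A : Subgroup G) (b : ↥L),
      A ∈ maxEAOf 2 T ∧ (b : G) ∈ A ∧ holHom (Wk 2 ↥L) b ∈ (E : Subgroup (Hol (Wk 2 ↥L))) ∧
        holHom (Wk 2 ↥L) b ≠ 1 := by
  have : Fact (Nat.Prime 2) := ⟨Nat.prime_two⟩
  have hsyl := sylIn_of_mem hLT
  have hsep := isPSolvable_of_mem hN hLT hT1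
  have hO := pPrimeCore_eq_bot_of_mem hLT
  have hJC := not_Jk_le_centralizer hZ hLT
  obtain ⟨hV, hHV, hf, hS1, hS3, hH1⟩ := hyps_of (p := 2) hsep hO hJC
  -- a member of `𝒜(T)` outside `C_L(W)`
  have hex : ∃ A ∈ maxEAOf 2 T, ¬ A ≤ CW L := by
    by_contra hcon
    push Not at hcon
    apply hLT.2.1
    refine le_trans (le_inf ?_ (thompsonSubgroupOf_le 2 T)) (CW_inf_le_pCoreOf hZ hLT)
    exact thompsonSubgroupOf_le_of_forall hcon
  obtain ⟨A, hA, hAC⟩ := hex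
  obtain ⟨a, haA, haC⟩ := SetLike.not_le_iff_exists.mp hAC
  have hAL : A ≤ L := hA.1.trans hsyl.le
  have hAmax := subgroupOf_mem_maxElementaryAbelianSubgroups hsyl hA
  have hc' := centralizer_pCore_le_of hsep hO
  obtain ⟨-, hWe, -⟩ := Cfsg.Agent.S0601.result (p := 2) hc'
  have hbo : IsBestOffenderOn 2 (Wk 2 ↥L) (A.subgroupOf L) := Cfsg.Agent.S0606.result (Wk 2 ↥L) hWe _ hAmax
  have hbo' := isBestOffenderOn_map_holHom (Wk 2 ↥L) hbo
  have hAH : (A.subgroupOf L).map (holHom (Wk 2 ↥L)) ≤ (Jk 2 ↥L).map (holHom (Wk 2 ↥L)) :=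
    Subgroup.map_mono (le_sSup hAmax)
  have hA1 : (A.subgroupOf L).map (holHom (Wk 2 ↥L)) ≠ ⊥ := by
    intro hbot
    apply haC
    have h1 : holHom (Wk 2 ↥L) ⟨a, hAL haA⟩ ∈ (A.subgroupOf L).map (holHom (Wk 2 ↥L)) :=
      ⟨⟨a, hAL haA⟩, Subgroup.mem_subgroupOf.mpr haA, rfl⟩
    rw [hbot, Subgroup.mem_bot] at h1
    exact (holHom_eq_one_iff _).mp h1
  obtain ⟨k, B, hB, -, hsup⟩ := Cfsg.Agent.S0612.result (p := 2) _ _ hV hHV hf hS1 hS3 hH1 _ hAH hbo' hA1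
  have hk : 0 < k := by
    rcases Nat.eq_zero_or_pos k with rfl | h
    · exfalso
      apply hA1
      rw [← hsup]
      simp
    · exact h
  obtain ⟨hBA, hBbo, hBne, hBmin⟩ := hB ⟨0, hk⟩
  have hB1 : B ⟨0, hk⟩ ≠ ⊥ := by
    intro h
    apply hBne
    rw [h]
    exact Subgroup.commutator_bot_right _
  obtain ⟨β, hβ1⟩ := (Subgroup.ne_bot_iff_exists_ne_one).mp hB1
  have hβ1' : (β : Hol (Wk 2 ↥L)) ≠ 1 := fun h => hβ1 (Subtype.ext h)
  obtain ⟨b, hb, hbβ⟩ := hBA β.2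
  refine ⟨⟨⁅((Cfsg.pPrimeCore 2 ↥((Jk 2 ↥L).map (holHom (Wk 2 ↥L)))).map
      ((Jk 2 ↥L).map (holHom (Wk 2 ↥L))).subtype), B ⟨0, hk⟩⁆ ⊔ B ⟨0, hk⟩, B ⟨0, hk⟩, hBA.trans hAH, hBbo, hBne,
    hBmin, rfl⟩, A, b, hA, Subgroup.mem_subgroupOf.mp hb, ?_, ?_⟩
  · rw [hbβ]
    exact Subgroup.mem_sup_right β.2
  · rw [hbβ]
    exact hβ1'

/-- **Existence of `J(T)`-components** in `L ∈ 𝓛(T)`. -/
theorem exists_isJComponent_le (hN : ∀ N : Subgroup G, IsTwoLocal N → Group.IsSolvable ↥N)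
    (hZ : ∀ S : Sylow 2 G, Subgroup.centralizer (omegaCenterOf (S : Subgroup G) : Set G) ≤
      Subgroup.normalizer ((S : Subgroup G) : Set G))
    (hT : IsPGroup 2 ↥T) (hT1 : T ≠ ⊥) (hLT : L ∈ jOvergroups T) :
    ∃ K : Subgroup G, IsJComponent T K ∧ K ≤ L := by
  obtain ⟨E, A, b, hA, hbA, hbE, hb1⟩ := exists_block_hit hN hZ hT hT1 hLT
  obtain ⟨d, hcfg, -, -⟩ := exists_existCfg_of_block hN hZ hT hT1 hLT hA E b hbA hbE hb1
  refine ⟨comp (CW L ⊓ pCoreOf 2 L) (d : G), hcfg.isJComponent_comp, ?_⟩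
  refine (ExistCfg.comp_le _ _).trans (sup_le (inf_le_left.trans (CW_le L)) ?_)
  rw [Subgroup.zpowers_le]
  exact d.2

end Main

end Cfsg.Agent.Lib.Helper49.JC
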