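import Mathlib
import Cfsg.Agent.Lib.Helper48.Coprime

/-!
# Four-groups inside a group, and 2-groups acting on them

`IsFour W`: `W` is a subgroup of order 4 all of whose elements square to 1.  Elementwise lemmas on the
conjugation action of elements normalizing `W`.
-/

set_option autoImplicit false

namespace Cfsg.Agent.Lib.Helper49.JC

variable {G : Type*} [Group G]

/-- a four-group: order 4, exponent 2. -/
structure IsFour (W : Subgroup G) : Prop where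
  card : Nat.card W = 4
  sq : ∀ w ∈ W, w * w = 1

namespace IsFour

variable {W : Subgroup G}

theorem finite (h : IsFour W) : Finite W := by
  apply Nat.finite_of_card_ne_zero
  rw [h.card]; norm_num

theorem inv_eq (h : IsFour W) {w : G} (hw : w ∈ W) : w⁻¹ = w :=
  inv_eq_of_mul_eq_one_left (h.sq w hw)

theorem comm (h : IsFour W) {u v : G} (hu : u ∈ W) (hv : v ∈ W) : u * v = v * u := by
  have h1 := h.sq (u * v) (W.mul_mem hu hv)
  have h2 : u * v = (u * v)⁻¹ := (h.inv_eq (W.mul_mem hu hv)).symm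
  rw [h2, mul_inv_rev, h.inv_eq hu, h.inv_eq hv]

theorem mem_zpowers_of_sq {w₀ v : G} (h0 : w₀ * w₀ = 1) (hv : v ∈ Subgroup.zpowers w₀) :
    v = 1 ∨ v = w₀ := by
  obtain ⟨k, rfl⟩ := Subgroup.mem_zpowers_iff.mp hv
  have h2 : w₀ ^ (2 : ℤ) = 1 := by
    rw [zpow_ofNat, pow_two, h0]
  rcases Int.emod_two_eq_zero_or_one k with hk | hk
  · left
    have : k = 2 * (k / 2) := by omega
    rw [this, zpow_mul, h2, one_zpow]
  · right
    have : k = 2 * (k / 2) + 1 := by omega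
    rw [this, zpow_add, zpow_mul, h2, one_zpow, one_mul, zpow_one]

theorem orderOf_eq_two (h : IsFour W) {w₀ : G} (hw₀ : w₀ ∈ W) (hne : w₀ ≠ 1) : orderOf w₀ = 2 := by
  apply orderOf_eq_prime
  · rw [pow_two]; exact h.sq w₀ hw₀
  · exact hne

theorem index_zpowers (h : IsFour W) {w₀ : G} (hw₀ : w₀ ∈ W) (hne : w₀ ≠ 1) :
    ((Subgroup.zpowers w₀).subgroupOf W).index = 2 := by
  have hle : Subgroup.zpowers w₀ ≤ W := by
    rw [Subgroup.zpowers_le]; exact hw₀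
  have h1 := Subgroup.card_mul_index ((Subgroup.zpowers w₀).subgroupOf W)
  have h2 : Nat.card ((Subgroup.zpowers w₀).subgroupOf W) = 2 := by
    rw [Nat.card_congr (Subgroup.subgroupOfEquivOfLe hle).toEquiv, Nat.card_zpowers,
      h.orderOf_eq_two hw₀ hne]
  rw [h2, h.card] at h1
  omega

/-- two elements of `W` outside `⟨w₀⟩` have product in `⟨w₀⟩`. -/
theorem mul_mem_zpowers (h : IsFour W) {w₀ u v : G} (hw₀ : w₀ ∈ W) (hne : w₀ ≠ 1)
    (hu : u ∈ W) (hv : v ∈ W) (hu' : u ∉ Subgroup.zpowers w₀) (hv' : v ∉ Subgroup.zpowers w₀) :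
    u * v ∈ Subgroup.zpowers w₀ := by
  have hidx := h.index_zpowers hw₀ hne
  have := Subgroup.mul_mem_iff_of_index_two hidx (a := (⟨u, hu⟩ : W)) (b := ⟨v, hv⟩)
  have h3 : (⟨u, hu⟩ : W) * ⟨v, hv⟩ ∈ (Subgroup.zpowers w₀).subgroupOf W := by
    rw [this]
    constructor
    · intro h4; exact absurd (Subgroup.mem_subgroupOf.mp h4) hu'
    · intro h4; exact absurd (Subgroup.mem_subgroupOf.mp h4) hv'
  exact Subgroup.mem_subgroupOf.mp h3

/-- the four elements of `W`. -/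
theorem cases (h : IsFour W) {w₀ w₁ : G} (hw₀ : w₀ ∈ W) (h0 : w₀ ≠ 1) (hw₁ : w₁ ∈ W)
    (h1 : w₁ ≠ 1) (h01 : w₁ ≠ w₀) {w : G} (hw : w ∈ W) :
    w = 1 ∨ w = w₀ ∨ w = w₁ ∨ w = w₁ * w₀ := by
  have hw₁' : w₁ ∉ Subgroup.zpowers w₀ := by
    intro hmem
    rcases mem_zpowers_of_sq (h.sq w₀ hw₀) hmem with h2 | h2
    · exact h1 h2
    · exact h01 h2
  by_cases hwz : w ∈ Subgroup.zpowers w₀
  · rcases mem_zpowers_of_sq (h.sq w₀ hw₀) hwz with h2 | h2
    · left; exact h2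
    · right; left; exact h2
  · have h3 := h.mul_mem_zpowers hw₀ h0 hw₁ hw hw₁' hwz
    rcases mem_zpowers_of_sq (h.sq w₀ hw₀) h3 with h2 | h2
    · right; right; left
      have : w = w₁⁻¹ := (inv_eq_of_mul_eq_one_right h2).symm
      rw [this, h.inv_eq hw₁]
    · right; right; right
      have : w = w₁⁻¹ * w₀ := by rw [← h2]; group
      rw [this, h.inv_eq hw₁]

/-- an element fixing `w₀ ≠ 1` moves every `w ∈ W` at most by `w₀`. -/
theorem conj_eq_or (h : IsFour W) {w₀ g : G} (hw₀ : w₀ ∈ W) (h0 : w₀ ≠ 1)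
    (hg : ∀ w ∈ W, g * w * g⁻¹ ∈ W) (hfix : g * w₀ * g⁻¹ = w₀) {w : G} (hw : w ∈ W) :
    g * w * g⁻¹ = w ∨ g * w * g⁻¹ = w * w₀ := by
  by_cases hwz : w ∈ Subgroup.zpowers w₀
  · left
    rcases mem_zpowers_of_sq (h.sq w₀ hw₀) hwz with h2 | h2
    · rw [h2]; group
    · rw [h2]; exact hfix
  · have hw' : g * w * g⁻¹ ∉ Subgroup.zpowers w₀ := by
      intro hmem
      apply hwz
      have hfix' : g⁻¹ * w₀ * g = w₀ := by
        calc g⁻¹ * w₀ * g = g⁻¹ * (g * w₀ * g⁻¹) * g := by rw [hfix]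
          _ = w₀ := by group
      rcases mem_zpowers_of_sq (h.sq w₀ hw₀) hmem with h2 | h2
      · have : w = 1 := by
          calc w = g⁻¹ * (g * w * g⁻¹) * g := by group
            _ = 1 := by rw [h2]; group
        rw [this]; exact Subgroup.one_mem _
      · have : w = w₀ := by
          calc w = g⁻¹ * (g * w * g⁻¹) * g := by group
            _ = w₀ := by rw [h2, hfix']
        rw [this]; exact Subgroup.mem_zpowers _
    have h3 := h.mul_mem_zpowers hw₀ h0 hw (hg w hw) hwz hw'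
    rcases mem_zpowers_of_sq (h.sq w₀ hw₀) h3 with h2 | h2
    · left
      have : g * w * g⁻¹ = w⁻¹ := (inv_eq_of_mul_eq_one_right h2).symm
      rw [this, h.inv_eq hw]
    · right
      have : g * w * g⁻¹ = w⁻¹ * w₀ := by rw [← h2]; group
      rw [this, h.inv_eq hw]

/-- the square of an element fixing some `w₀ ≠ 1` centralizes `W`. -/
theorem sq_centralizes (h : IsFour W) {w₀ g : G} (hw₀ : w₀ ∈ W) (h0 : w₀ ≠ 1)
    (hg : ∀ w ∈ W, g * w * g⁻¹ ∈ W) (hfix : g * w₀ * g⁻¹ = w₀) {w : G} (hw : w ∈ W) :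
    (g * g) * w * (g * g)⁻¹ = w := by
  have h1 : (g * g) * w * (g * g)⁻¹ = g * (g * w * g⁻¹) * g⁻¹ := by group
  rw [h1]
  rcases h.conj_eq_or hw₀ h0 hg hfix hw with h2 | h2
  · rw [h2, h2]
  · rw [h2]
    have h3 : g * (w * w₀) * g⁻¹ = (g * w * g⁻¹) * (g * w₀ * g⁻¹) := by group
    rw [h3, h2, hfix, mul_assoc, h.sq w₀ hw₀, mul_one]

/-- two elements fixing `w₀ ≠ 1`, neither centralizing `W`: their product centralizes `W`. -/
theorem mul_centralizes (h : IsFour W) {w₀ x y : G} (hw₀ : w₀ ∈ W) (h0 : w₀ ≠ 1)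
    (hx : ∀ w ∈ W, x * w * x⁻¹ ∈ W) (hxfix : x * w₀ * x⁻¹ = w₀)
    (hy : ∀ w ∈ W, y * w * y⁻¹ ∈ W) (hyfix : y * w₀ * y⁻¹ = w₀)
    (hxn : ∃ w ∈ W, x * w * x⁻¹ ≠ w) (hyn : ∃ w ∈ W, y * w * y⁻¹ ≠ w) {w : G} (hw : w ∈ W) :
    (x * y) * w * (x * y)⁻¹ = w := by
  obtain ⟨u, hu, hxu⟩ := hxn
  obtain ⟨v, hv, hyv⟩ := hyn
  have hxu' : x * u * x⁻¹ = u * w₀ := by
    rcases h.conj_eq_or hw₀ h0 hx hxfix hu with h2 | h2
    · exact absurd h2 hxu
    · exact h2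
  have hyv' : y * v * y⁻¹ = v * w₀ := by
    rcases h.conj_eq_or hw₀ h0 hy hyfix hv with h2 | h2
    · exact absurd h2 hyv
    · exact h2
  -- u, v are outside ⟨w₀⟩
  have hu1 : u ≠ 1 := by
    rintro rfl
    apply hxu; group
  have hu0 : u ≠ w₀ := by
    rintro rfl
    exact hxu hxfix
  have hv1 : v ≠ 1 := by
    rintro rfl
    apply hyv; group
  have hv0 : v ≠ w₀ := by
    rintro rfl
    exact hyv hyfix
  -- y moves u as well
  have hyu' : y * u * y⁻¹ = u * w₀ := by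
    rcases h.cases hw₀ h0 hv hv1 hv0 hu with h2 | h2 | h2 | h2
    · exact absurd h2 hu1
    · exact absurd h2 hu0
    · rw [h2]; exact hyv'
    · rw [h2]
      have h3 : y * (v * w₀) * y⁻¹ = (y * v * y⁻¹) * (y * w₀ * y⁻¹) := by group
      rw [h3, hyv', hyfix]
  have hxy : ∀ t ∈ W, (t = 1 ∨ t = w₀ ∨ t = u ∨ t = u * w₀) → (x * y) * t * (x * y)⁻¹ = t := by
    intro t _ ht
    have e1 : (x * y) * t * (x * y)⁻¹ = x * (y * t * y⁻¹) * x⁻¹ := by group
    rw [e1]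
    have hxuw : x * (u * w₀) * x⁻¹ = u := by
      have h3 : x * (u * w₀) * x⁻¹ = (x * u * x⁻¹) * (x * w₀ * x⁻¹) := by group
      rw [h3, hxu', hxfix, mul_assoc, h.sq w₀ hw₀, mul_one]
    have hyuw : y * (u * w₀) * y⁻¹ = u := by
      have h3 : y * (u * w₀) * y⁻¹ = (y * u * y⁻¹) * (y * w₀ * y⁻¹) := by group
      rw [h3, hyu', hyfix, mul_assoc, h.sq w₀ hw₀, mul_one]
    rcases ht with rfl | rfl | rfl | rfl
    · group
    · rw [hyfix, hxfix]
    · rw [hyu', hxuw]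
    · rw [hyuw, hxu']
  exact hxy w hw (h.cases hw₀ h0 hu hu1 hu0 hw)

/-- an element fixing two independent elements centralizes `W`. -/
theorem centralizes_of_fix (h : IsFour W) {w₀ w₁ g : G} (hw₀ : w₀ ∈ W) (h0 : w₀ ≠ 1) (hw₁ : w₁ ∈ W)
    (h1 : w₁ ≠ 1) (h01 : w₁ ≠ w₀) (hf0 : g * w₀ * g⁻¹ = w₀) (hf1 : g * w₁ * g⁻¹ = w₁) {w : G}
    (hw : w ∈ W) : g * w * g⁻¹ = w := by
  rcases h.cases hw₀ h0 hw₁ h1 h01 hw with rfl | rfl | rfl | rfl
  · group
  · exact hf0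
  · exact hf1
  · have h3 : g * (w₁ * w₀) * g⁻¹ = (g * w₁ * g⁻¹) * (g * w₀ * g⁻¹) := by group
    rw [h3, hf0, hf1]

/-- a 2-subgroup normalizing `W` fixes a non-identity element of `W`. -/
theorem exists_fixed (h : IsFour W) (P : Subgroup G) (hP : IsPGroup 2 P)
    (hPW : ∀ x ∈ P, ∀ w ∈ W, x * w * x⁻¹ ∈ W) :
    ∃ w₀ ∈ W, w₀ ≠ 1 ∧ ∀ x ∈ P, x * w₀ * x⁻¹ = w₀ := by
  have : Fact (Nat.Prime 2) := ⟨Nat.prime_two⟩
  have hfin := h.finite
  have hS : ∀ b ∈ P, ∀ y ∈ ((W : Set G) \ {1}), b * y * b⁻¹ ∈ ((W : Set G) \ {1}) := by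
    rintro b hb y ⟨hy, hy1⟩
    refine ⟨hPW b hb y hy, ?_⟩
    intro h1
    apply hy1
    have h2 : b * y * b⁻¹ = 1 := h1
    have : y = b⁻¹ * (b * y * b⁻¹) * b := by group
    rw [this, h2]
    simp
  have hcard : ¬ 2 ∣ Nat.card ((W : Set G) \ {1} : Set G) := by
    have hWfin : (W : Set G).Finite := Set.toFinite _
    have h1 : ((W : Set G) \ {1}).ncard = 3 := by
      rw [Set.ncard_sdiff_singleton_of_mem (Subgroup.one_mem W) ]
      have : (W : Set G).ncard = 4 := by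
        rw [← Nat.card_coe_set_eq]; exact h.card
      rw [this]
    rw [Nat.card_coe_set_eq, h1]
    norm_num
  obtain ⟨y, ⟨hy, hy1⟩, hfix⟩ :=
    Cfsg.Agent.Lib.Helper48.exists_fixed_of_conj_stable P hP _ hS hcard
  exact ⟨y, hy, hy1, hfix⟩

end IsFour

end Cfsg.Agent.Lib.Helper49.JC
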