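import Cfsg.Agent.Lib.Helper49.JC.MaxStr

/-!
# Generation of `L ∈ 𝓛(T)` by `J(T)`-components, `C_L(W)` and `N_L(J(T))`

`le_of_components_le`: a subgroup `X` containing `T`, `C_L(W)`, `N_L(J(T))` and every `J(T)`-component of
`L` contains `L`.
-/

set_option autoImplicit false
set_option linter.unusedSectionVars false
set_option maxHeartbeats 1000000

namespace Cfsg.Agent.Lib.Helper49.JC

open Cfsg Cfsg.Agent.Lib.Helper49 Cfsg.Agent.Lib.Helper97 Cfsg.Agent.Lib.Helper33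
  Cfsg.Agent.Lib.Helper47 Cfsg.Agent.Lib.Helper49.FF620 Cfsg.Agent.Lib.Helper49.FFB
open scoped commutatorElement

universe u

set_option maxRecDepth 100000 in
theorem sl22_gen : ∀ t s x : Matrix.SpecialLinearGroup (Fin 2) (ZMod 2),
    t * t = 1 → t ≠ 1 → s ^ 3 = 1 → s ≠ 1 →
      x = 1 ∨ x = s ∨ x = s * s ∨ x = t ∨ x = s * t ∨ x = s * s * t := by
  decide

theorem blk_gen_cases {Γ : Type*} [Group Γ] {E : Subgroup Γ}
    (e : ↥E ≃* Matrix.SpecialLinearGroup (Fin 2) (ZMod 2)) {t s x : Γ}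
    (ht : t ∈ E) (htt : t * t = 1) (ht1 : t ≠ 1) (hs : s ∈ E) (hs3 : s ^ 3 = 1) (hs1 : s ≠ 1)
    (hx : x ∈ E) : x = 1 ∨ x = s ∨ x = s * s ∨ x = t ∨ x = s * t ∨ x = s * s * t := by
  have htt' : e ⟨t, ht⟩ * e ⟨t, ht⟩ = 1 := by
    rw [← map_mul]
    have : (⟨t, ht⟩ : ↥E) * ⟨t, ht⟩ = 1 := Subtype.ext (by simpa using htt)
    rw [this, map_one]
  have ht1' : e ⟨t, ht⟩ ≠ 1 := by
    intro h
    apply ht1
    have := e.injective (h.trans (map_one e).symm)
    exact congrArg Subtype.val this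
  have hs3' : e ⟨s, hs⟩ ^ 3 = 1 := by
    rw [← map_pow]
    have : (⟨s, hs⟩ : ↥E) ^ 3 = 1 := Subtype.ext (by simpa using hs3)
    rw [this, map_one]
  have hs1' : e ⟨s, hs⟩ ≠ 1 := by
    intro h
    apply hs1
    have := e.injective (h.trans (map_one e).symm)
    exact congrArg Subtype.val this
  rcases sl22_gen _ _ (e ⟨x, hx⟩) htt' ht1' hs3' hs1' with h | h | h | h | h | h
  · left
    have := e.injective (h.trans (map_one e).symm)
    exact congrArg Subtype.val this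
  · right; left
    exact congrArg Subtype.val (e.injective h)
  · right; right; left
    rw [← map_mul] at h
    exact congrArg Subtype.val (e.injective h)
  · right; right; right; left
    exact congrArg Subtype.val (e.injective h)
  · right; right; right; right; left
    rw [← map_mul] at h
    exact congrArg Subtype.val (e.injective h)
  · right; right; right; right; right
    rw [← map_mul, ← map_mul] at h
    exact congrArg Subtype.val (e.injective h)

section Gen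

variable {G : Type u} [Group G] [Finite G] {T L : Subgroup G}

attribute [local instance] bigW_characteristic Jk_characteristic

theorem coe_mem_normalizer_map {Q : Subgroup ↥L} {x : ↥L}
    (hx : x ∈ Subgroup.normalizer (Q : Set ↥L)) :
    (x : G) ∈ Subgroup.normalizer ((Q.map L.subtype : Subgroup G) : Set G) := by
  apply mem_normalizer_of_conj_mem
  · rintro _ ⟨q, hq, rfl⟩
    exact ⟨x * q * x⁻¹, conj_mem_of_mem_normalizer hx hq, rfl⟩
  · rintro _ ⟨q, hq, rfl⟩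
    exact ⟨x⁻¹ * q * x, conj_inv_mem_of_mem_normalizer hx hq, rfl⟩

/-- **Generation.** -/
theorem le_of_components_le (hN : ∀ N : Subgroup G, IsTwoLocal N → Group.IsSolvable ↥N)
    (hZ : ∀ S : Sylow 2 G, Subgroup.centralizer (omegaCenterOf (S : Subgroup G) : Set G) ≤
      Subgroup.normalizer ((S : Subgroup G) : Set G))
    (hT : IsPGroup 2 ↥T) (hT1 : T ≠ ⊥) (hLT : L ∈ jOvergroups T) {X : Subgroup G}
    (hTX : T ≤ X) (hCX : CW L ≤ X)
    (hNX : L ⊓ Subgroup.normalizer (thompsonSubgroupOf 2 T : Set G) ≤ X)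
    (hK : ∀ K : Subgroup G, IsJComponent T K → K ≤ L → K ≤ X) : L ≤ X := by
  have : Fact (Nat.Prime 2) := ⟨Nat.prime_two⟩
  have hsyl := sylIn_of_mem hLT
  have hsep := isPSolvable_of_mem hN hLT hT1
  have hO := pPrimeCore_eq_bot_of_mem hLT
  have hJC := not_Jk_le_centralizer hZ hLT
  have hnf : ¬ IsThompsonFactorizable 2 ↥L := fun h => hJC ((Cfsg.Agent.S0608.result hO).mp h)
  obtain ⟨c, -⟩ := blockCfg_of (p := 2) (fun V H => Cfsg.Agent.S0617.result V H) hsep hO hnf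
  obtain ⟨hV, hHV, hf, hS1, hS3, hH1⟩ := hyps_of (p := 2) hsep hO hJC
  have hc' := centralizer_pCore_le_of hsep hO
  obtain ⟨-, hWe, -⟩ := Cfsg.Agent.S0601.result (p := 2) hc'
  set W := Wk 2 ↥L with hW
  set φ := holHom W with hφ
  -- the blocks met by `𝒜(T)`
  obtain ⟨hit, hhit⟩ : ∃ hit : Blk 2 (holV W) ((Jk 2 ↥L).map φ) → Prop, ∀ E, hit E ↔
      ∃ A ∈ maxEAOf 2 T, ∃ b : ↥L, (b : G) ∈ A ∧ φ b ∈ (E : Subgroup (Hol W)) ∧ φ b ≠ 1 :=
    ⟨fun E => ∃ A ∈ maxEAOf 2 T, ∃ b : ↥L, (b : G) ∈ A ∧ φ b ∈ (E : Subgroup (Hol W)) ∧ φ b ≠ 1,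
      fun E => Iff.rfl⟩
  -- (a) blocks met by `𝒜(T)` lie in the image of `X`
  have ha : ∀ E, hit E → (E : Subgroup (Hol W)) ≤ (X.subgroupOf L).map φ := by
    intro E hE
    obtain ⟨A, hA, b, hbA, hbE, hb1⟩ := (hhit E).mp hE
    obtain ⟨d, hcfg, hdE, hd1⟩ := exists_existCfg_of_block hN hZ hT hT1 hLT hA E b hbA hbE hb1
    have hKL : comp (CW L ⊓ pCoreOf 2 L) (d : G) ≤ L := by
      refine (ExistCfg.comp_le _ _).trans (sup_le (inf_le_left.trans (CW_le L)) ?_)
      rw [Subgroup.zpowers_le]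
      exact d.2
    have hdX : (d : G) ∈ X := hK _ hcfg.isJComponent_comp hKL hcfg.d_mem_comp
    have hbX : (b : G) ∈ X := hTX (hA.1 hbA)
    have hφd : φ d ∈ (X.subgroupOf L).map φ := ⟨d, Subgroup.mem_subgroupOf.mpr hdX, rfl⟩
    have hφb : φ b ∈ (X.subgroupOf L).map φ := ⟨b, Subgroup.mem_subgroupOf.mpr hbX, rfl⟩
    have hbb : b * b = 1 := by
      apply Subtype.ext
      have := hA.2.1.2 _ hbA
      simpa [pow_two] using this
    have hββ : φ b * φ b = 1 := by rw [← map_mul, hbb, map_one]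
    have hd3 : φ d ^ 3 = 1 := by
      have h1 : d ^ 3 = 1 := Subtype.ext (by simpa using hcfg.hd3)
      rw [← map_pow, h1, map_one]
    obtain ⟨e⟩ := (c.hE E).2.1
    intro x hx
    rcases blk_gen_cases e hbE hββ hb1 hdE hd3 hd1 hx with h | h | h | h | h | h <;> rw [h]
    · exact Subgroup.one_mem _
    · exact hφd
    · exact Subgroup.mul_mem _ hφd hφd
    · exact hφb
    · exact Subgroup.mul_mem _ hφd hφb
    · exact Subgroup.mul_mem _ (Subgroup.mul_mem _ hφd hφd) hφb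
  -- the product of these blocks
  obtain ⟨HI, hHI⟩ : ∃ HI : Subgroup (Hol W),
      HI = ⨆ E : {E : Blk 2 (holV W) ((Jk 2 ↥L).map φ) // hit E}, ((E : Blk 2 (holV W) ((Jk 2 ↥L).map φ)) : Subgroup (Hol W)) :=
    ⟨_, rfl⟩
  have hle_HI : ∀ E, hit E → (E : Subgroup (Hol W)) ≤ HI := by
    intro E hE
    rw [hHI]
    exact le_iSup (fun E : {E : Blk 2 (holV W) ((Jk 2 ↥L).map φ) // hit E} =>
      ((E : Blk 2 (holV W) ((Jk 2 ↥L).map φ)) : Subgroup (Hol W))) ⟨E, hE⟩
  have hHI_X : HI ≤ (X.subgroupOf L).map φ := by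
    rw [hHI]
    exact iSup_le fun E => ha E.1 E.2
  have hH_norm : ∀ η ∈ (Jk 2 ↥L).map φ, ∀ x ∈ HI, η * x * η⁻¹ ∈ HI := by
    intro η hη
    have hle : HI ≤ HI.comap (MulAut.conj η).toMonoidHom := by
      nth_rewrite 1 [hHI]
      apply iSup_le
      intro E x hx
      rw [Subgroup.mem_comap]
      apply hle_HI E.1 E.2
      exact conj_mem_of_mem_normalizer ((c.hE E.1).1 hη) hx
    intro x hx
    exact hle hx
  -- (b) members of `𝒜(T)` map into `HI`
  have hA''_le : ∀ A'' ∈ maxEAOf 2 T, (A''.subgroupOf L).map φ ≤ HI := by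
    intro A'' hA''
    by_cases hbot : (A''.subgroupOf L).map φ = ⊥
    · rw [hbot]; exact bot_le
    have hAmax := subgroupOf_mem_maxElementaryAbelianSubgroups hsyl hA''
    have hbo : IsBestOffenderOn 2 W (A''.subgroupOf L) := Cfsg.Agent.S0606.result W hWe _ hAmax
    have hbo' := isBestOffenderOn_map_holHom W hbo
    have hAH : (A''.subgroupOf L).map φ ≤ (Jk 2 ↥L).map φ := Subgroup.map_mono (le_sSup hAmax)
    obtain ⟨k, B, hB, -, hsup⟩ :=
      Cfsg.Agent.S0612.result (p := 2) _ _ hV hHV hf hS1 hS3 hH1 _ hAH hbo' hbot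
    rw [← hsup]
    apply iSup_le
    intro i
    obtain ⟨hBA, hBbo, hBne, hBmin⟩ := hB i
    have hB1 : B i ≠ ⊥ := by
      intro h
      apply hBne
      rw [h]
      exact Subgroup.commutator_bot_right _
    obtain ⟨β, hβ1⟩ := (Subgroup.ne_bot_iff_exists_ne_one).mp hB1
    have hβ1' : (β : Hol W) ≠ 1 := fun h => hβ1 (Subtype.ext h)
    obtain ⟨b, hb, hbβ⟩ := hBA β.2
    have hEhit : hit ⟨⁅((Cfsg.pPrimeCore 2 ↥((Jk 2 ↥L).map φ)).map ((Jk 2 ↥L).map φ).subtype), B i⁆ ⊔ B i,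
        B i, hBA.trans hAH, hBbo, hBne, hBmin, rfl⟩ := by
      rw [hhit]
      refine ⟨A'', hA'', b, Subgroup.mem_subgroupOf.mp hb, ?_, ?_⟩
      · change φ b ∈ ⁅((Cfsg.pPrimeCore 2 ↥((Jk 2 ↥L).map φ)).map ((Jk 2 ↥L).map φ).subtype), B i⁆ ⊔ B i
        have : φ b = (β : Hol W) := hbβ
        rw [this]
        exact Subgroup.mem_sup_right β.2
      · have : φ b = (β : Hol W) := hbβ
        rw [this]; exact hβ1'
    exact le_trans le_sup_right (hle_HI _ hEhit)
  -- members of `𝒜(L)` map into `HI`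
  have hA'_le : ∀ A' ∈ maxElementaryAbelianSubgroups 2 ↥L, A'.map φ ≤ HI := by
    intro A' hA'
    have hA'J : A' ≤ Jk 2 ↥L := le_sSup hA'
    have hA'p : IsPGroup 2 A' := isPGroup_of_isElementaryAbelian hA'.1
    have hsylJ : SylIn 2 ((hsyl.toSylow : Subgroup ↥L) ⊓ Jk 2 ↥L) (Jk 2 ↥L) :=
      sylIn_inf_of_normal' hsyl.toSylow (Jk 2 ↥L)
    obtain ⟨h, hhJ, hle⟩ := hsylJ.exists_cj_le hA'J hA'p
    have hle' : ∀ x ∈ cj h A', (x : G) ∈ T := by
      intro x hx
      have := (hle hx).1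
      rw [SylIn.coe_toSylow] at this
      exact Subgroup.mem_subgroupOf.mp this
    have hcjel : IsElementaryAbelian 2 (cj h A') := isElementaryAbelian_map _ hA'.1
    have hA''mem : (cj h A').map L.subtype ∈ maxEAOf 2 T := by
      refine ⟨?_, isElementaryAbelian_map _ hcjel, ?_⟩
      · rintro _ ⟨x, hx, rfl⟩
        exact hle' x hx
      · intro B hBT hBel
        rw [Subgroup.card_map_of_injective L.subtype_injective, card_cj]
        have h1 := hA'.2 (B.subgroupOf L) (isElementaryAbelian_subgroupOf L hBel)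
        rwa [card_subgroupOf_of_le (hBT.trans hsyl.le)] at h1
    have h2 := hA''_le _ hA''mem
    have h3 : ((cj h A').map L.subtype).subgroupOf L = cj h A' :=
      Subgroup.comap_map_eq_self_of_injective L.subtype_injective _
    rw [h3] at h2
    rintro _ ⟨x, hx, rfl⟩
    have h4 : φ (h * x * h⁻¹) ∈ HI := h2 ⟨h * x * h⁻¹, conj_mem_cj hx, rfl⟩
    have hη : (φ h)⁻¹ ∈ (Jk 2 ↥L).map φ := Subgroup.inv_mem _ ⟨h, hhJ, rfl⟩
    have h5 := hH_norm _ hη _ h4
    have e1 : (φ h)⁻¹ * φ (h * x * h⁻¹) * (φ h)⁻¹⁻¹ = φ x := by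
      rw [map_mul, map_mul, map_inv]; group
    rw [e1] at h5
    exact h5
  have hH_le : (Jk 2 ↥L).map φ ≤ HI := by
    rw [Subgroup.map_le_iff_le_comap]
    apply sSup_le
    intro A' hA'
    rw [← Subgroup.map_le_iff_le_comap]
    exact hA'_le A' hA'
  -- (c) `J(L) ≤ X`
  have hJX : ∀ j ∈ Jk 2 ↥L, (j : G) ∈ X := by
    intro j hj
    obtain ⟨x, hx, hxj⟩ := hHI_X (hH_le ⟨j, hj, rfl⟩)
    have h1 : φ (x⁻¹ * j) = 1 := by
      have : φ x = φ j := hxj
      rw [map_mul, map_inv, this]; group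
    have h2 : ((x⁻¹ * j : ↥L) : G) ∈ X := hCX ((holHom_eq_one_iff _).mp h1)
    have h3 : (x : G) ∈ X := Subgroup.mem_subgroupOf.mp hx
    have e1 : (j : G) = (x : G) * ((x⁻¹ * j : ↥L) : G) := by
      simp
    rw [e1]
    exact X.mul_mem h3 h2
  -- (d) Frattini
  have hmap : thompsonSubgroupOf 2 T = (thompsonSubgroupOf 2 (T.subgroupOf L)).map L.subtype := by
    have := thompsonSubgroupOf_map_of_injOn 2 L.subtype (T.subgroupOf L)
      (fun x _ hx => Subtype.ext (by simpa using hx))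
    rwa [Subgroup.subgroupOf_map_subtype, inf_of_le_left hsyl.le] at this
  have hJT' : thompsonSubgroupOf 2 ((hsyl.toSylow : Sylow 2 ↥L) : Subgroup ↥L) ≤ Jk 2 ↥L := by
    rw [SylIn.coe_toSylow]
    have h1 := thompsonSubgroupOf_le_map_Jk hsyl
    rw [hmap] at h1
    exact (Subgroup.map_le_map_iff_of_injective L.subtype_injective).mp h1
  intro g hg
  obtain ⟨m, hm, hmg⟩ := frattini_thompson hsyl.toSylow (Jk 2 ↥L) hJT' ⟨g, hg⟩
  rw [SylIn.coe_toSylow] at hmg
  have h1 := coe_mem_normalizer_map hmg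
  rw [← hmap] at h1
  have h2 : ((m * ⟨g, hg⟩ : ↥L) : G) ∈ X := hNX ⟨(m * ⟨g, hg⟩ : ↥L).2, h1⟩
  have h3 : (m : G) ∈ X := hJX m hm
  have e1 : g = (m : G)⁻¹ * ((m * ⟨g, hg⟩ : ↥L) : G) := by simp
  rw [e1]
  exact X.mul_mem (X.inv_mem h3) h2

/-- **S2949.** -/
theorem exists_component_outside {M : Subgroup G} (hL : IsCharacteristicTwoType G)
    (hN : ∀ N : Subgroup G, IsTwoLocal N → Group.IsSolvable ↥N)
    (hZ : ∀ S : Sylow 2 G, Subgroup.centralizer (omegaCenterOf (S : Subgroup G) : Set G) ≤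
      Subgroup.normalizer ((S : Subgroup G) : Set G))
    (S : Sylow 2 G)
    (hMJ : Subgroup.normalizer (thompsonSubgroupOf 2 (S : Subgroup G) : Set G) ≤ M)
    (hT : T ∈ maxStraddlingTwoSubgroups M) : (jComponentsOutside M T).Nonempty := by
  have : Fact (Nat.Prime 2) := ⟨Nat.prime_two⟩
  obtain ⟨hTp, hT1, hTM, L₁, hL₁, hTL₁, hL₁M⟩ := hT.1
  obtain ⟨T₀, hsyl₀, hTT₀⟩ := exists_sylIn_ge hTp hTL₁
  obtain ⟨-, -, -, h4⟩ := max_straddling_overgroup hL hN hZ S hMJ hT hL₁ hL₁M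
    (isSylowTwoIn_iff_sylIn.mpr hsyl₀) ((thompsonSubgroupOf_le 2 T).trans hTT₀)
  obtain ⟨hLT, -⟩ := h4 hTL₁
  have hNJ := normalizer_thompson_le S hMJ hT
  have hex : ∃ K, IsJComponent T K ∧ K ≤ L₁ ∧ ¬ K ≤ M := by
    by_contra hcon
    push Not at hcon
    apply hL₁M
    apply le_of_components_le hN hZ hTp hT1 hLT hTM ?_ (inf_le_right.trans hNJ)
      (fun K hK hKL => hcon K hK hKL)
    exact (centralizer_Wk_le_normalizer hZ hLT).trans
      ((normalizer_le_normalizer_thompsonSubgroupOf 2 T).trans hNJ)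
  obtain ⟨K, hK, hKL, hKM⟩ := hex
  refine ⟨K, ⟨hK, ?_⟩, hKM, ?_⟩
  · intro S' hJS' hS'
    have hW := isFour_wOf hK
    have hWp : IsPGroup 2 (wOf K) := isPGroup_of_isElementaryAbelian hW.isElementaryAbelian
    have hW1 : wOf K ≠ ⊥ := by
      intro h
      have := hW.card
      rw [h, Subgroup.card_bot] at this
      norm_num at this
    have hNW2 : IsTwoLocal (Subgroup.normalizer ((wOf K : Subgroup G) : Set G)) :=
      ⟨wOf K, hWp, hW1, rfl⟩
    have hNWM : ¬ Subgroup.normalizer ((wOf K : Subgroup G) : Set G) ≤ M := fun h =>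
      hKM ((Subgroup.le_normalizer.trans (normalizer_le_normalizer_wOf K)).trans h)
    exact (max_straddling_core hL S hMJ hT hNW2 hNWM hS' hJS').1.symm
  · have hQ1 := pCoreOf_ne_bot hLT hT1
    have hQT := pCoreOf_le_of_sylIn (sylIn_of_mem hLT)
    have hle : pCoreOf 2 L₁ ≤ pCoreOf 2 (K ⊔ T) :=
      le_pCoreOf (hQT.trans le_sup_right)
        ((sup_le hKL hTL₁).trans (Subgroup.le_normalizer.trans (normalizer_le_normalizer_pCoreOf 2 L₁)))
        (pCoreOf_isPGroup 2 L₁)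
    exact ne_bot_of_le_ne_bot hQ1 hle

end Gen

end Cfsg.Agent.Lib.Helper49.JC
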