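import Mathlib
import Cfsg.Prelude.Def_JComponents
import Cfsg.Agent.Lib.Helper97.Thompson3
import Cfsg.Agent.Lib.Helper97.ThompsonMap

/-!
# Elementary abelian subgroups of largest order of a subgroup `S ≤ G`, inside `G`

`maxEAOf p S` is the family `𝒜(S)` as subgroups of the ambient group;
`thompsonSubgroupOf p S = sSup (maxEAOf p S)`.  Also the elements of `Ω₁(Z(J))`.
-/

set_option autoImplicit false

namespace Cfsg.Agent.Lib.Helper49.JC

open Cfsg Cfsg.Agent.Lib.Helper97

universe u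

variable {G : Type u} [Group G]

/-- `𝒜(S)` inside the ambient group. -/
def maxEAOf (p : ℕ) (S : Subgroup G) : Set (Subgroup G) :=
  {A | A ≤ S ∧ IsElementaryAbelian p A ∧
    ∀ B : Subgroup G, B ≤ S → IsElementaryAbelian p B → Nat.card B ≤ Nat.card A}

theorem mem_maxEAOf_iff {p : ℕ} {S A : Subgroup G} :
    A ∈ maxEAOf p S ↔ A ≤ S ∧ A.subgroupOf S ∈ maxElementaryAbelianSubgroups p ↥S := by
  constructor
  · rintro ⟨hAS, hA, hmax⟩
    refine ⟨hAS, isElementaryAbelian_subgroupOf S hA, fun C hC => ?_⟩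
    have h1 := hmax (C.map S.subtype) (Subgroup.map_subtype_le C) (isElementaryAbelian_map _ hC)
    rw [card_map_of_injective' _ S.subtype_injective C] at h1
    rw [card_subgroupOf_of_le hAS]
    exact h1
  · rintro ⟨hAS, hA, hmax⟩
    have hAeq : (A.subgroupOf S).map S.subtype = A := by
      rw [Subgroup.subgroupOf_map_subtype]
      exact inf_of_le_left hAS
    refine ⟨hAS, ?_, fun B hBS hB => ?_⟩
    · rw [← hAeq]; exact isElementaryAbelian_map _ hA
    · have h1 := hmax (B.subgroupOf S) (isElementaryAbelian_subgroupOf S hB)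
      rw [card_subgroupOf_of_le hBS, card_subgroupOf_of_le hAS] at h1
      exact h1

theorem thompsonSubgroupOf_eq_sSup_maxEAOf (p : ℕ) (S : Subgroup G) :
    thompsonSubgroupOf p S = sSup (maxEAOf p S) := by
  unfold thompsonSubgroupOf thompsonSubgroup
  rw [(Subgroup.gc_map_comap S.subtype).l_sSup]
  apply le_antisymm
  · refine iSup₂_le fun B hB => ?_
    apply le_sSup
    rw [mem_maxEAOf_iff]
    refine ⟨Subgroup.map_subtype_le B, ?_⟩
    have : (B.map S.subtype).subgroupOf S = B := by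
      ext x
      rw [Subgroup.mem_subgroupOf]
      constructor
      · rintro ⟨y, hy, hxy⟩
        have : y = x := Subtype.ext hxy
        rw [← this]; exact hy
      · intro hx
        exact ⟨x, hx, rfl⟩
    rw [this]; exact hB
  · refine sSup_le fun A hA => ?_
    obtain ⟨hAS, hA'⟩ := mem_maxEAOf_iff.mp hA
    have hAeq : (A.subgroupOf S).map S.subtype = A := by
      rw [Subgroup.subgroupOf_map_subtype]
      exact inf_of_le_left hAS
    calc A = (A.subgroupOf S).map S.subtype := hAeq.symm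
      _ ≤ _ := le_iSup₂ (f := fun B (_ : B ∈ maxElementaryAbelianSubgroups p S) => B.map S.subtype) _ hA'

theorem le_thompsonSubgroupOf {p : ℕ} {S A : Subgroup G} (hA : A ∈ maxEAOf p S) :
    A ≤ thompsonSubgroupOf p S := by
  rw [thompsonSubgroupOf_eq_sSup_maxEAOf]
  exact le_sSup hA

theorem thompsonSubgroupOf_le_of_forall {p : ℕ} {S H : Subgroup G}
    (h : ∀ A ∈ maxEAOf p S, A ≤ H) : thompsonSubgroupOf p S ≤ H := by
  rw [thompsonSubgroupOf_eq_sSup_maxEAOf]
  exact sSup_le h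

theorem maxEAOf_nonempty [Finite G] (p : ℕ) (S : Subgroup G) : (maxEAOf p S).Nonempty := by
  obtain ⟨B, hB⟩ := maxElementaryAbelian_nonempty (G := ↥S) p
  refine ⟨B.map S.subtype, ?_⟩
  rw [mem_maxEAOf_iff]
  refine ⟨Subgroup.map_subtype_le B, ?_⟩
  have : (B.map S.subtype).subgroupOf S = B := by
    ext x
    rw [Subgroup.mem_subgroupOf]
    constructor
    · rintro ⟨y, hy, hxy⟩
      have : y = x := Subtype.ext hxy
      rw [← this]; exact hy
    · intro hx
      exact ⟨x, hx, rfl⟩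
  rw [this]; exact hB

/-- a member of `𝒜(S)` absorbs every elementary abelian subgroup of `S` commuting with it. -/
theorem le_of_mem_maxEAOf_of_commute [Finite G] {p : ℕ} {S A B : Subgroup G}
    (hA : A ∈ maxEAOf p S) (hB : IsElementaryAbelian p B) (hBS : B ≤ S)
    (hAB : ∀ a ∈ A, ∀ b ∈ B, a * b = b * a) : B ≤ A := by
  have hsup : IsElementaryAbelian p (A ⊔ B) := isElementaryAbelian_sup hA.2.1 hB hAB
  have hcard := hA.2.2 _ (sup_le hA.1 hBS) hsup
  have : A = A ⊔ B := Subgroup.eq_of_le_of_card_ge le_sup_left hcard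
  rw [this]
  exact le_sup_right

theorem mem_maxEAOf_of_card_ge {p : ℕ} {S A B : Subgroup G} (hA : A ∈ maxEAOf p S)
    (hB : IsElementaryAbelian p B) (hBS : B ≤ S) (hcard : Nat.card A ≤ Nat.card B) :
    B ∈ maxEAOf p S :=
  ⟨hBS, hB, fun C hCS hC => (hA.2.2 C hCS hC).trans hcard⟩

theorem card_eq_of_mem_maxEAOf {p : ℕ} {S A B : Subgroup G} (hA : A ∈ maxEAOf p S)
    (hB : B ∈ maxEAOf p S) : Nat.card A = Nat.card B :=
  le_antisymm (hB.2.2 A hA.1 hA.2.1) (hA.2.2 B hB.1 hB.2.1)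

/-- conjugates of members of `𝒜(S)` that stay in `S` are members. -/
theorem map_conj_mem_maxEAOf {p : ℕ} {S A : Subgroup G} (hA : A ∈ maxEAOf p S) (x : G)
    (hx : A.map (MulAut.conj x).toMonoidHom ≤ S) :
    A.map (MulAut.conj x).toMonoidHom ∈ maxEAOf p S := by
  refine mem_maxEAOf_of_card_ge hA (isElementaryAbelian_map _ hA.2.1) hx ?_
  rw [Subgroup.card_map_of_injective (MulAut.conj x).injective]

/-! ### `Ω₁(Z(J))` -/

theorem mem_omegaCenterOf_iff {J : Subgroup G} {x : G} :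
    x ∈ omegaCenterOf J ↔ x ∈ J ∧ x ∈ Subgroup.centralizer (J : Set G) ∧ x ^ 2 = 1 := by
  unfold omegaCenterOf omegaOne
  constructor
  · intro hx
    induction hx using Subgroup.closure_induction with
    | mem y hy => exact ⟨hy.1.1, hy.1.2, hy.2⟩
    | one => exact ⟨Subgroup.one_mem _, Subgroup.one_mem _, one_pow _⟩
    | mul y z _ _ ihy ihz =>
      refine ⟨Subgroup.mul_mem _ ihy.1 ihz.1, Subgroup.mul_mem _ ihy.2.1 ihz.2.1, ?_⟩
      have hc : Commute y z := (Subgroup.mem_centralizer_iff.mp ihy.2.1 z ihz.1).symm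
      rw [hc.mul_pow, ihy.2.2, ihz.2.2, one_mul]
    | inv y _ ih =>
      exact ⟨Subgroup.inv_mem _ ih.1, Subgroup.inv_mem _ ih.2.1, by rw [inv_pow, ih.2.2, inv_one]⟩
  · rintro ⟨h1, h2, h3⟩
    exact Subgroup.subset_closure ⟨⟨h1, h2⟩, h3⟩

theorem omegaCenterOf_le (J : Subgroup G) : omegaCenterOf J ≤ J :=
  fun _ hx => (mem_omegaCenterOf_iff.mp hx).1

theorem omegaCenterOf_le_centralizer (J : Subgroup G) :
    omegaCenterOf J ≤ Subgroup.centralizer (J : Set G) :=
  fun _ hx => (mem_omegaCenterOf_iff.mp hx).2.1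

theorem isElementaryAbelian_omegaCenterOf (J : Subgroup G) :
    IsElementaryAbelian 2 (omegaCenterOf J) := by
  refine ⟨⟨⟨?_⟩⟩, fun a ha => (mem_omegaCenterOf_iff.mp ha).2.2⟩
  rintro ⟨a, ha⟩ ⟨b, hb⟩
  apply Subtype.ext
  show a * b = b * a
  exact (Subgroup.mem_centralizer_iff.mp (mem_omegaCenterOf_iff.mp ha).2.1 b
    (mem_omegaCenterOf_iff.mp hb).1).symm

/-- `Ω₁(Z(J))` is normalized by `N(J)`. -/
theorem conj_mem_omegaCenterOf {J : Subgroup G} {g : G}
    (hg : g ∈ Subgroup.normalizer (J : Set G)) {z : G} (hz : z ∈ omegaCenterOf J) :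
    g * z * g⁻¹ ∈ omegaCenterOf J := by
  obtain ⟨h1, h2, h3⟩ := mem_omegaCenterOf_iff.mp hz
  refine mem_omegaCenterOf_iff.mpr ⟨(Subgroup.mem_normalizer_iff.mp hg z).mp h1, ?_, ?_⟩
  · apply Subgroup.mem_centralizer_iff.mpr
    intro y hy
    have hy' : g⁻¹ * y * g ∈ J := by
      have := (Subgroup.mem_normalizer_iff.mp (Subgroup.inv_mem _ hg) y).mp hy
      simpa using this
    have hc := Subgroup.mem_centralizer_iff.mp h2 _ hy'
    calc y * (g * z * g⁻¹) = g * ((g⁻¹ * y * g) * z) * g⁻¹ := by group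
      _ = g * (z * (g⁻¹ * y * g)) * g⁻¹ := by rw [hc]
      _ = g * z * g⁻¹ * y := by group
  · rw [conj_pow, h3]; group

/-- `Ω₁(Z(J(S)))` lies in every member of `𝒜(S)`. -/
theorem omegaCenterOf_le_of_mem_maxEAOf [Finite G] {S A : Subgroup G} (hA : A ∈ maxEAOf 2 S) :
    omegaCenterOf (thompsonSubgroupOf 2 S) ≤ A := by
  apply le_of_mem_maxEAOf_of_commute hA (isElementaryAbelian_omegaCenterOf _)
  · exact (omegaCenterOf_le _).trans (thompsonSubgroupOf_le 2 S)
  · intro a ha b hb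
    exact Subgroup.mem_centralizer_iff.mp (omegaCenterOf_le_centralizer _ hb) a
      (le_thompsonSubgroupOf hA ha)

end Cfsg.Agent.Lib.Helper49.JC
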