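import Cfsg.Agent.Lib.Helper49.JC.NormT

/-!
# `𝒦₀(T)`: `N_G(K) = N_G(W_K)` (S2944)
-/

set_option autoImplicit false
set_option linter.unusedSectionVars false

namespace Cfsg.Agent.Lib.Helper49.JC

open Cfsg Cfsg.Agent.Lib.Helper49 Cfsg.Agent.Lib.Helper97 Cfsg.Agent.Lib.Helper33
  Cfsg.Agent.Lib.Helper47 Cfsg.Agent.Lib.Helper49.FF620
open scoped commutatorElement

universe u

variable {G : Type u} [Group G] [Finite G] {T L K : Subgroup G}

/-- being a `J(T)`-component depends only on `J(T)`. -/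
theorem isJComponent_of_thompson_eq {S : Subgroup G}
    (h : thompsonSubgroupOf 2 S = thompsonSubgroupOf 2 T) (hK : IsJComponent T K) : IsJComponent S K := by
  unfold IsJComponent at hK ⊢
  rw [h]
  exact hK

/-- `J(Q) = J(S)` for `J(S) ≤ Q ≤ S`. -/
theorem thompsonSubgroupOf_eq_of_le {p : ℕ} {Q S : Subgroup G} (hQS : Q ≤ S)
    (hJ : thompsonSubgroupOf p S ≤ Q) : thompsonSubgroupOf p Q = thompsonSubgroupOf p S := by
  rw [thompsonSubgroupOf_eq_sSup_maxEAOf, thompsonSubgroupOf_eq_sSup_maxEAOf]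
  congr 1
  ext A
  constructor
  · intro hA
    obtain ⟨A₀, hA₀⟩ := maxEAOf_nonempty p S
    have hA₀Q : A₀ ≤ Q := (le_thompsonSubgroupOf hA₀).trans hJ
    refine ⟨hA.1.trans hQS, hA.2.1, fun C hC hCe => ?_⟩
    exact (hA₀.2.2 C hC hCe).trans (hA.2.2 A₀ hA₀Q hA₀.2.1)
  · intro hA
    exact ⟨(le_thompsonSubgroupOf hA).trans hJ, hA.2.1, fun B hB hBe => hA.2.2 B (hB.trans hQS) hBe⟩

/-- a Sylow 2-subgroup of `N` containing a given 2-subgroup. -/
theorem exists_sylIn_ge {P N : Subgroup G} (hP : IsPGroup 2 ↥P) (hPN : P ≤ N) :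
    ∃ S : Subgroup G, SylIn 2 S N ∧ P ≤ S := by
  have : Fact (Nat.Prime 2) := ⟨Nat.prime_two⟩
  obtain ⟨Q, hQ⟩ := (hP.comap_subtype (K := N)).exists_le_sylow
  refine ⟨(Q : Subgroup N).map N.subtype, sylIn_of_sylow Q, ?_⟩
  intro j hj
  exact ⟨⟨j, hPN hj⟩, hQ hj, rfl⟩

/-- 2-locals of a group of characteristic 2 type contain the centralizer of their 2-core. -/
theorem centralizer_pCoreOf_normalizer_le (hL : IsCharacteristicTwoType G) {W : Subgroup G}
    (hW : IsPGroup 2 ↥W) (hW1 : W ≠ ⊥) :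
    Subgroup.centralizer ((pCoreOf 2 (Subgroup.normalizer (W : Set G)) : Subgroup G) : Set G) ≤
      pCoreOf 2 (Subgroup.normalizer (W : Set G)) := by
  set N := Subgroup.normalizer (W : Set G) with hN
  have hchar : Subgroup.centralizer (pCore 2 ↥N : Set ↥N) ≤ pCore 2 ↥N := hL.2 W hW hW1
  have hWQ : W ≤ pCoreOf 2 N := le_pCoreOf Subgroup.le_normalizer le_rfl hW
  intro x hx
  have hxN : x ∈ N := by
    apply Subgroup.centralizer_le_normalizer
    exact Subgroup.centralizer_le hWQ hx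
  have h1 : (⟨x, hxN⟩ : ↥N) ∈ Subgroup.centralizer (pCore 2 ↥N : Set ↥N) := by
    apply Subgroup.mem_centralizer_iff.mpr
    intro y hy
    apply Subtype.ext
    exact Subgroup.mem_centralizer_iff.mp hx y ⟨y, hy, rfl⟩
  exact ⟨⟨x, hxN⟩, hchar h1, rfl⟩

/-- **S2944**, first part. -/
theorem normalizer_eq_normalizer_wOf (hL : IsCharacteristicTwoType G)
    (hN : ∀ N : Subgroup G, IsTwoLocal N → Group.IsSolvable ↥N)
    (hZ : ∀ S : Sylow 2 G, Subgroup.centralizer (omegaCenterOf (S : Subgroup G) : Set G) ≤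
      Subgroup.normalizer ((S : Subgroup G) : Set G))
    (hT : IsPGroup 2 ↥T) (hT1 : T ≠ ⊥) (hK : K ∈ jComponentsZero T) :
    Subgroup.normalizer (K : Set G) = Subgroup.normalizer ((wOf K : Subgroup G) : Set G) := by
  have : Fact (Nat.Prime 2) := ⟨Nat.prime_two⟩
  obtain ⟨hKc, hK0⟩ := hK
  apply le_antisymm (normalizer_le_normalizer_wOf K)
  set N := Subgroup.normalizer ((wOf K : Subgroup G) : Set G) with hNdef
  set J := thompsonSubgroupOf 2 T with hJ
  have hW := isFour_wOf hKc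
  have hXN : K ⊔ J ≤ N := sup_le_normalizer_wOf hKc
  obtain ⟨S, hS, hJS⟩ := exists_sylIn_ge (isPGroup_J hT) (le_sup_right.trans hXN)
  have hJeq : thompsonSubgroupOf 2 S = J := hK0 S hJS (isSylowTwoIn_iff_sylIn.mpr hS)
  have hKS : IsJComponent S K := isJComponent_of_thompson_eq hJeq hKc
  by_cases hcase : thompsonSubgroupOf 2 S ≤ pCoreOf 2 N
  · -- `N` normalizes `J(T)`
    have hQS : pCoreOf 2 N ≤ S := pCoreOf_le_of_sylIn hS
    have h1 := thompsonSubgroupOf_eq_of_le hQS hcase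
    have h2 : N ≤ Subgroup.normalizer ((J : Subgroup G) : Set G) := by
      rw [← hJeq, ← h1]
      exact (Subgroup.le_normalizer.trans (normalizer_le_normalizer_pCoreOf 2 N)).trans
        (normalizer_le_normalizer_thompsonSubgroupOf 2 _)
    exact Cfsg.Agent.S2941.result hL hN hZ T hT hT1 K hKc N (hXN.trans Subgroup.le_normalizer) h2
  · have hWp : IsPGroup 2 ↥(wOf K) := by
      apply IsPGroup.of_card (n := 2)
      rw [hW.card]
      norm_num
    have hW1 : wOf K ≠ ⊥ := by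
      intro h
      have := hW.card
      rw [h, Subgroup.card_bot] at this
      norm_num at this
    have hNS : N ∈ jOvergroups S :=
      ⟨isSylowTwoIn_iff_sylIn.mpr hS, hcase, centralizer_pCoreOf_normalizer_le hL hWp hW1⟩
    have hS1 : S ≠ ⊥ := by
      rintro rfl
      have hJbot : J = ⊥ := le_bot_iff.mp hJS
      have hKbot : K = ⊥ := by
        rw [← hKc.2.1]
        show ⁅K, J⁆ = ⊥
        rw [hJbot]
        exact Subgroup.commutator_bot_right K
      have := hKc.2.2.1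
      rw [hKbot] at this
      have h2 : (pCoreOf 2 (⊥ : Subgroup G)).relIndex ⊥ = 1 := by
        rw [Subgroup.relIndex_bot_right]
      rw [h2] at this
      norm_num at this
    have := inf_normalizer_wOf_le_normalizer hL hN hZ hS.isPGroup hS1 hNS hKS (le_sup_left.trans hXN)
    rwa [inf_idem] at this

/-- conjugates of `J = J(S)` inside `S` equal `J` (when `J = J(T)` too). -/
theorem cj_thompson_eq_of_le {T S : Subgroup G} {h : G}
    (hJeq : thompsonSubgroupOf 2 S = thompsonSubgroupOf 2 T)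
    (hle : cj h (thompsonSubgroupOf 2 T) ≤ S) :
    cj h (thompsonSubgroupOf 2 T) = thompsonSubgroupOf 2 T := by
  set J := thompsonSubgroupOf 2 T with hJ
  obtain ⟨A, hA⟩ := maxEAOf_nonempty 2 S
  have hAT : A ≤ T := by
    have := le_thompsonSubgroupOf hA
    rw [hJeq] at this
    exact this.trans (thompsonSubgroupOf_le 2 T)
  have h1 : J ≤ cj h⁻¹ J := by
    apply thompsonSubgroupOf_le_of_forall
    intro A₁ hA₁
    rw [← cj_le_iff]
    have hA₁S : cj h A₁ ≤ S := (cj_mono (le_thompsonSubgroupOf hA₁)).trans hle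
    have hmem : cj h A₁ ∈ maxEAOf 2 S := by
      refine mem_maxEAOf_of_card_ge hA (isElementaryAbelian_map _ hA₁.2.1) hA₁S ?_
      rw [card_cj]
      exact hA₁.2.2 A hAT hA.2.1
    have := le_thompsonSubgroupOf hmem
    rwa [hJeq] at this
  have h2 : cj h J ≤ J := cj_le_iff.mpr h1
  exact Subgroup.eq_of_le_of_card_ge h2 (by rw [card_cj])

/-- **S2944**, second part. -/
theorem isJComponent_cj_of_le (hL : IsCharacteristicTwoType G)
    (hN : ∀ N : Subgroup G, IsTwoLocal N → Group.IsSolvable ↥N)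
    (hZ : ∀ S : Sylow 2 G, Subgroup.centralizer (omegaCenterOf (S : Subgroup G) : Set G) ≤
      Subgroup.normalizer ((S : Subgroup G) : Set G))
    (hT : IsPGroup 2 ↥T) (hT1 : T ≠ ⊥) (hK : K ∈ jComponentsZero T) (g : G)
    (hg : thompsonSubgroupOf 2 (cj g T) ≤ Subgroup.normalizer ((wOf K : Subgroup G) : Set G)) :
    IsJComponent (cj g T) K := by
  have : Fact (Nat.Prime 2) := ⟨Nat.prime_two⟩
  have hNK := normalizer_eq_normalizer_wOf hL hN hZ hT hT1 hK
  obtain ⟨hKc, hK0⟩ := hK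
  set N := Subgroup.normalizer ((wOf K : Subgroup G) : Set G) with hNdef
  set J := thompsonSubgroupOf 2 T with hJ
  have hXN : K ⊔ J ≤ N := sup_le_normalizer_wOf hKc
  obtain ⟨S, hS, hJS⟩ := exists_sylIn_ge (isPGroup_J hT) (le_sup_right.trans hXN)
  have hJeq : thompsonSubgroupOf 2 S = J := hK0 S hJS (isSylowTwoIn_iff_sylIn.mpr hS)
  rw [thompsonSubgroupOf_cj] at hg
  have hJgp : IsPGroup 2 ↥(cj g J) := (isPGroup_J hT).map _
  obtain ⟨S', hS', hJS'⟩ := exists_sylIn_ge hJgp hg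
  obtain ⟨n, hn, hnS⟩ := hS.exists_cj_eq hS'
  have h1 : cj (n * g) J ≤ S := by
    rw [cj_mul, ← hnS]
    exact cj_mono hJS'
  have h2 : cj (n * g) J = J := cj_thompson_eq_of_le hJeq h1
  have h3 : cj g J = cj n⁻¹ J := by
    rw [cj_mul] at h2
    calc cj g J = cj n⁻¹ (cj n (cj g J)) := (cj_inv_cj n _).symm
      _ = cj n⁻¹ J := by rw [h2]
  have hnK : n⁻¹ ∈ Subgroup.normalizer (K : Set G) := by
    rw [hNK]
    exact Subgroup.inv_mem _ hn
  have h4 : IsJComponent (cj n⁻¹ T) (cj n⁻¹ K) := isJComponent_cj n⁻¹ hKc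
  rw [cj_eq_self_of_mem_normalizer hnK] at h4
  apply isJComponent_of_thompson_eq _ h4
  rw [thompsonSubgroupOf_cj, thompsonSubgroupOf_cj]
  exact h3

end Cfsg.Agent.Lib.Helper49.JC
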