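import Cfsg.Agent.Lib.Helper49.JC.ExistL
import Cfsg.Agent.Lib.Helper49.JC.Zero

/-!
# Maximal members of `𝒯(M)` (S2948)

For `T ∈ 𝒯*(M)`: `N_G(J(T)) ≤ M`; if `L` is a 2-local not in `M` with a Sylow 2-subgroup `T₀ ≥ J(T)` then
`J(T₀) = J(T)`, `T₀ ∈ 𝒯(M)` and `L ∈ 𝓛(T₀)`.
-/

set_option autoImplicit false
set_option linter.unusedSectionVars false
set_option maxHeartbeats 1000000

namespace Cfsg.Agent.Lib.Helper49.JC

open Cfsg Cfsg.Agent.Lib.Helper49 Cfsg.Agent.Lib.Helper97 Cfsg.Agent.Lib.Helper33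
  Cfsg.Agent.Lib.Helper47
open scoped commutatorElement

universe u

variable {G : Type u} [Group G] [Finite G]

/-- `a(T) = |A|` for `A ∈ 𝒜(T)`. -/
theorem maxElemAbelianOrder_eq {T A : Subgroup G} (hA : A ∈ maxEAOf 2 T) :
    maxElemAbelianOrder T = Nat.card A := by
  unfold maxElemAbelianOrder
  have hA' := (mem_maxEAOf_iff.mp hA).2
  have hset : (fun B : Subgroup ↥T => Nat.card ↥B) '' maxElementaryAbelianSubgroups 2 ↥T =
      {Nat.card A} := by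
    ext n
    constructor
    · rintro ⟨B, hB, rfl⟩
      rw [Set.mem_singleton_iff]
      have h1 := hB.2 _ hA'.1
      have h2 := hA'.2 _ hB.1
      rw [card_subgroupOf_of_le hA.1] at h1 h2
      exact le_antisymm h2 h1
    · intro hn
      rw [Set.mem_singleton_iff] at hn
      subst hn
      exact ⟨A.subgroupOf T, hA', card_subgroupOf_of_le hA.1⟩
  rw [hset, csSup_singleton]

/-- `a(T) ≤ a(T')` if some member of `𝒜(T)` lies in `T'`. -/
theorem maxElemAbelianOrder_le {T T' A : Subgroup G} (hA : A ∈ maxEAOf 2 T) (hAT' : A ≤ T') :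
    maxElemAbelianOrder T ≤ maxElemAbelianOrder T' := by
  obtain ⟨A', hA'⟩ := maxEAOf_nonempty 2 T'
  rw [maxElemAbelianOrder_eq hA, maxElemAbelianOrder_eq hA']
  exact hA'.2.2 A hAT' hA.2.1

/-- `J(T) ≤ J(T')` if `a(T) = a(T')` and `J(T) ≤ T'`. -/
theorem thompsonSubgroupOf_le_of_eq {T T' : Subgroup G}
    (h : maxElemAbelianOrder T' = maxElemAbelianOrder T) (hJ : thompsonSubgroupOf 2 T ≤ T') :
    thompsonSubgroupOf 2 T ≤ thompsonSubgroupOf 2 T' := by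
  obtain ⟨A', hA'⟩ := maxEAOf_nonempty 2 T'
  apply thompsonSubgroupOf_le_of_forall
  intro A hA
  apply le_thompsonSubgroupOf
  apply mem_maxEAOf_of_card_ge hA' hA.2.1 ((le_thompsonSubgroupOf hA).trans hJ)
  rw [← maxElemAbelianOrder_eq hA, ← maxElemAbelianOrder_eq hA', h]

theorem thompsonSubgroupOf_ne_bot {T : Subgroup G} (hT : IsPGroup 2 T) (hT1 : T ≠ ⊥) :
    thompsonSubgroupOf 2 T ≠ ⊥ := by
  have : Fact (Nat.Prime 2) := ⟨Nat.prime_two⟩
  have hcard : 2 ∣ Nat.card T := by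
    rcases hT.card_eq_or_dvd with h | h
    · exact absurd (Subgroup.card_eq_one.mp h) hT1
    · exact h
  obtain ⟨x, hx⟩ := exists_prime_orderOf_dvd_card' 2 hcard
  have hx2 : (x : G) ^ 2 = 1 := by
    have := pow_orderOf_eq_one x
    rw [hx] at this
    simpa using congrArg Subtype.val this
  have hx1 : (x : G) ≠ 1 := by
    intro h
    have : x = 1 := Subtype.ext h
    rw [this, orderOf_one] at hx
    norm_num at hx
  set B := Subgroup.closure ({(x : G)} : Set G) with hB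
  have hBel : IsElementaryAbelian 2 B := by
    apply isElementaryAbelian_closure
    · intro a ha b hb
      rw [Set.mem_singleton_iff] at ha hb
      rw [ha, hb]
    · intro a ha
      rw [Set.mem_singleton_iff] at ha
      rw [ha]; exact hx2
  have hBT : B ≤ T := by
    rw [hB, Subgroup.closure_le]
    intro y hy
    rw [Set.mem_singleton_iff] at hy
    rw [hy]; exact x.2
  have hxB : (x : G) ∈ B := Subgroup.subset_closure (Set.mem_singleton _)
  obtain ⟨A, hA⟩ := maxEAOf_nonempty 2 T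
  intro hbot
  have hA1 : A = ⊥ := by
    rw [eq_bot_iff, ← hbot]
    exact le_thompsonSubgroupOf hA
  have h1 := hA.2.2 B hBT hBel
  rw [hA1, Subgroup.card_bot] at h1
  have hB1 : B = ⊥ := B.card_le_one_iff_eq_bot.mp h1
  rw [hB1, Subgroup.mem_bot] at hxB
  exact hx1 hxB

section Max

variable {M T : Subgroup G}

/-- comparison with the maximal member. -/
theorem thompson_eq_of_mem_max (hT : T ∈ maxStraddlingTwoSubgroups M) {T' : Subgroup G}
    (hT' : T' ∈ straddlingTwoSubgroups M) (hJ : thompsonSubgroupOf 2 T ≤ T') :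
    thompsonSubgroupOf 2 T' = thompsonSubgroupOf 2 T ∧ Nat.card T' ≤ Nat.card T := by
  obtain ⟨h1, h2⟩ := hT.2 T' hT'
  obtain ⟨A, hA⟩ := maxEAOf_nonempty 2 T
  have h3 : maxElemAbelianOrder T ≤ maxElemAbelianOrder T' :=
    maxElemAbelianOrder_le hA ((le_thompsonSubgroupOf hA).trans hJ)
  have h4 : maxElemAbelianOrder T' = maxElemAbelianOrder T := le_antisymm h1 h3
  obtain ⟨h5, h6⟩ := h2 h4
  have h7 : thompsonSubgroupOf 2 T ≤ thompsonSubgroupOf 2 T' := thompsonSubgroupOf_le_of_eq h4 hJ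
  have h8 : thompsonSubgroupOf 2 T = thompsonSubgroupOf 2 T' := Subgroup.eq_of_le_of_card_ge h7 h5
  exact ⟨h8.symm, h6 (by rw [h8])⟩

/-- `N_G(J(T)) ≤ M` for `T ∈ 𝒯*(M)`. -/
theorem normalizer_thompson_le (S : Sylow 2 G)
    (hMJ : Subgroup.normalizer (thompsonSubgroupOf 2 (S : Subgroup G) : Set G) ≤ M)
    (hT : T ∈ maxStraddlingTwoSubgroups M) :
    Subgroup.normalizer (thompsonSubgroupOf 2 T : Set G) ≤ M := by
  have : Fact (Nat.Prime 2) := ⟨Nat.prime_two⟩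
  obtain ⟨hTp, hT1, hTM, -⟩ := hT.1
  by_contra hcon
  have hJ1 : thompsonSubgroupOf 2 T ≠ ⊥ := thompsonSubgroupOf_ne_bot hTp hT1
  have hJp : IsPGroup 2 (thompsonSubgroupOf 2 T) := isPGroup_J hTp
  have hSM : (S : Subgroup G) ≤ M :=
    le_trans (Subgroup.le_normalizer.trans (normalizer_le_normalizer_thompsonSubgroupOf 2 _)) hMJ
  have hSsyl : SylIn 2 (S : Subgroup G) M := sylIn_of_sylow_le S hSM
  obtain ⟨S', hS'syl, hTS'⟩ := exists_sylIn_ge hTp hTM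
  obtain ⟨T₁, hT₁⟩ : ∃ T₁ : Subgroup G,
      T₁ = S' ⊓ Subgroup.normalizer (thompsonSubgroupOf 2 T : Set G) := ⟨_, rfl⟩
  have hTT₁ : T ≤ T₁ := by
    rw [hT₁]
    exact le_inf hTS' (Subgroup.le_normalizer.trans (normalizer_le_normalizer_thompsonSubgroupOf 2 T))
  have hT₁str : T₁ ∈ straddlingTwoSubgroups M := by
    refine ⟨?_, ne_bot_of_le_ne_bot hT1 hTT₁, ?_, Subgroup.normalizer (thompsonSubgroupOf 2 T : Set G),
      ⟨thompsonSubgroupOf 2 T, hJp, hJ1, rfl⟩, ?_, hcon⟩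
    · rw [hT₁]; exact hS'syl.isPGroup.to_le inf_le_left
    · rw [hT₁]; exact inf_le_left.trans hS'syl.le
    · rw [hT₁]; exact inf_le_right
  obtain ⟨h1, h2⟩ := thompson_eq_of_mem_max hT hT₁str ((thompsonSubgroupOf_le 2 T).trans hTT₁)
  have hTeq : T = T₁ := Subgroup.eq_of_le_of_card_ge hTT₁ h2
  have hTS'eq : T = S' := by
    apply Cfsg.Agent.Lib.Helper54.eq_of_inf_normalizer_le S' T hS'syl.isPGroup hTS'
    intro x hx
    have hx₁ : x ∈ T₁ := by
      rw [hT₁]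
      exact ⟨hx.1, normalizer_le_normalizer_thompsonSubgroupOf 2 T hx.2⟩
    rw [hTeq]; exact hx₁
  obtain ⟨m, hm, hmS⟩ := hS'syl.exists_cj_eq hSsyl
  apply hcon
  have hJeq : thompsonSubgroupOf 2 T = cj m (thompsonSubgroupOf 2 (S : Subgroup G)) := by
    rw [hTS'eq, ← hmS, thompsonSubgroupOf_cj]
  rw [hJeq, ← cj_normalizer]
  exact (cj_mono hMJ).trans (cj_eq_self_of_mem hm).le

/-- the core of S2948. -/
theorem max_straddling_core (hL : IsCharacteristicTwoType G) (S : Sylow 2 G)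
    (hMJ : Subgroup.normalizer (thompsonSubgroupOf 2 (S : Subgroup G) : Set G) ≤ M)
    (hT : T ∈ maxStraddlingTwoSubgroups M) {L T₀ : Subgroup G} (hL2 : IsTwoLocal L) (hLM : ¬ L ≤ M)
    (hT₀ : IsSylowTwoIn T₀ L) (hJT₀ : thompsonSubgroupOf 2 T ≤ T₀) :
    thompsonSubgroupOf 2 T = thompsonSubgroupOf 2 T₀ ∧ T₀ ∈ straddlingTwoSubgroups M ∧
      L ∈ jOvergroups T₀ ∧ Nat.card T₀ ≤ Nat.card T := by
  have : Fact (Nat.Prime 2) := ⟨Nat.prime_two⟩
  have hNJ := normalizer_thompson_le S hMJ hT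
  obtain ⟨hTp, hT1, hTM, -⟩ := hT.1
  have hJ1 : thompsonSubgroupOf 2 T ≠ ⊥ := thompsonSubgroupOf_ne_bot hTp hT1
  have hsyl : SylIn 2 T₀ L := isSylowTwoIn_iff_sylIn.mp hT₀
  obtain ⟨T₂, hT₂⟩ : ∃ T₂ : Subgroup G,
      T₂ = T₀ ⊓ Subgroup.normalizer (thompsonSubgroupOf 2 T : Set G) := ⟨_, rfl⟩
  have hT₂T₀ : T₂ ≤ T₀ := by rw [hT₂]; exact inf_le_left
  have hJT₂ : thompsonSubgroupOf 2 T ≤ T₂ := by rw [hT₂]; exact le_inf hJT₀ Subgroup.le_normalizer
  have hT₂M : T₂ ≤ M := by rw [hT₂]; exact inf_le_right.trans hNJ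
  have hT₂str : T₂ ∈ straddlingTwoSubgroups M :=
    ⟨hsyl.isPGroup.to_le hT₂T₀, ne_bot_of_le_ne_bot hJ1 hJT₂, hT₂M, L, hL2, hT₂T₀.trans hsyl.le, hLM⟩
  obtain ⟨h1, h2⟩ := thompson_eq_of_mem_max hT hT₂str hJT₂
  have hT₂eq : T₂ = T₀ := by
    apply Cfsg.Agent.Lib.Helper54.eq_of_inf_normalizer_le T₀ T₂ hsyl.isPGroup hT₂T₀
    intro x hx
    have := normalizer_le_normalizer_thompsonSubgroupOf 2 T₂ hx.2
    rw [h1] at this
    rw [hT₂]
    exact ⟨hx.1, this⟩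
  rw [hT₂eq] at h1 hT₂str h2
  refine ⟨h1.symm, hT₂str, ⟨hT₀, ?_, ?_⟩, h2⟩
  · intro hle
    apply hLM
    have hQT₀ : pCoreOf 2 L ≤ T₀ := pCoreOf_le_of_sylIn hsyl
    have h3 : thompsonSubgroupOf 2 (pCoreOf 2 L) = thompsonSubgroupOf 2 T₀ :=
      thompsonSubgroupOf_eq_of_le hQT₀ hle
    refine le_trans ?_ hNJ
    rw [← h1, ← h3]
    exact (Subgroup.le_normalizer.trans (normalizer_le_normalizer_pCoreOf 2 L)).trans
      (normalizer_le_normalizer_thompsonSubgroupOf 2 _)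
  · obtain ⟨P, hP, hP1, rfl⟩ := hL2
    exact centralizer_pCoreOf_normalizer_le hL hP hP1

/-- **S2948.** -/
theorem max_straddling_overgroup (hL : IsCharacteristicTwoType G)
    (hN : ∀ N : Subgroup G, IsTwoLocal N → Group.IsSolvable ↥N)
    (hZ : ∀ S : Sylow 2 G, Subgroup.centralizer (omegaCenterOf (S : Subgroup G) : Set G) ≤
      Subgroup.normalizer ((S : Subgroup G) : Set G))
    (S : Sylow 2 G)
    (hMJ : Subgroup.normalizer (thompsonSubgroupOf 2 (S : Subgroup G) : Set G) ≤ M)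
    (hT : T ∈ maxStraddlingTwoSubgroups M) {L T₀ : Subgroup G} (hL2 : IsTwoLocal L) (hLM : ¬ L ≤ M)
    (hT₀ : IsSylowTwoIn T₀ L) (hJT₀ : thompsonSubgroupOf 2 T ≤ T₀) :
    thompsonSubgroupOf 2 T = thompsonSubgroupOf 2 T₀ ∧ T₀ ∈ straddlingTwoSubgroups M ∧
      L ∈ jOvergroups T₀ ∧
      (T ≤ L → L ∈ jOvergroups T ∧ ∃ K : Subgroup G, IsJComponent T K ∧ K ≤ L) := by
  obtain ⟨c1, c2, c3, -⟩ := max_straddling_core hL S hMJ hT hL2 hLM hT₀ hJT₀
  refine ⟨c1, c2, c3, ?_⟩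
  intro hTL
  obtain ⟨T₀', hsyl', hTT₀'⟩ := exists_sylIn_ge hT.1.1 hTL
  have hT₀' : IsSylowTwoIn T₀' L := isSylowTwoIn_iff_sylIn.mpr hsyl'
  obtain ⟨-, -, h3, h4⟩ :=
    max_straddling_core hL S hMJ hT hL2 hLM hT₀' ((thompsonSubgroupOf_le 2 T).trans hTT₀')
  have heq : T = T₀' := Subgroup.eq_of_le_of_card_ge hTT₀' h4
  rw [← heq] at h3
  exact ⟨h3, exists_isJComponent_le hN hZ hT.1.1 hT.1.2.1 h3⟩

end Max

end Cfsg.Agent.Lib.Helper49.JC
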