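import Cfsg.Agent.Lib.Helper49.JC.Plus

/-!
# An `S₃`-module lemma for members of `𝒜(T)`

`S3Mod.card_le`: let `A ∈ 𝒜(T)`, `Y ≤ T` elementary abelian, normalized by `A` and by an element `d` of
order 3 acting fixed-point-freely, `b ∈ A` inverting `d`, and `A₀ ≤ A` of index at most 2 (`A = A₀ ∪ b⁻¹A₀`)
commuting with `d` in its action on `Y`. Then `|Y| ≤ 4`.
-/

set_option autoImplicit false
set_option linter.unusedSectionVars false
set_option maxHeartbeats 1000000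

namespace Cfsg.Agent.Lib.Helper49.JC

open Cfsg Cfsg.Agent.Lib.Helper49 Cfsg.Agent.Lib.Helper97 Cfsg.Agent.Lib.Helper33
  Cfsg.Agent.Lib.Helper47
open scoped commutatorElement

universe u

variable {G : Type u} [Group G] [Finite G]

/-- a subgroup covered by two cosets of a subgroup has at most twice its order. -/
theorem card_le_two_mul_of_cover {A A₀ : Subgroup G} {b : G}
    (h : ∀ a ∈ A, a ∈ A₀ ∨ b * a ∈ A₀) : Nat.card A ≤ 2 * Nat.card A₀ := by
  have hsub : (A : Set G) ⊆ (A₀ : Set G) ∪ (fun x => b⁻¹ * x) '' (A₀ : Set G) := by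
    intro a ha
    rcases h a ha with h1 | h1
    · left; exact h1
    · right; exact ⟨b * a, h1, by group⟩
  have h1 : (A : Set G).ncard ≤ ((A₀ : Set G) ∪ (fun x => b⁻¹ * x) '' (A₀ : Set G)).ncard :=
    Set.ncard_le_ncard hsub (Set.toFinite _)
  have h2 := Set.ncard_union_le (A₀ : Set G) ((fun x => b⁻¹ * x) '' (A₀ : Set G))
  have h3 : ((fun x => b⁻¹ * x) '' (A₀ : Set G)).ncard ≤ (A₀ : Set G).ncard :=
    Set.ncard_image_le (Set.toFinite _)
  have h4 : (A : Set G).ncard = Nat.card A := (Nat.card_coe_set_eq _).symm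
  have h5 : (A₀ : Set G).ncard = Nat.card A₀ := (Nat.card_coe_set_eq _).symm
  omega

/-- in a subgroup of order at most 2 two non-identity elements coincide. -/
theorem eq_of_card_le_two {H : Subgroup G} (h : Nat.card H ≤ 2) {x x' : G} (hx : x ∈ H) (hx' : x' ∈ H)
    (h1 : x ≠ 1) (h1' : x' ≠ 1) : x = x' := by
  by_contra hne
  have hsub : ({1, x, x'} : Set G) ⊆ (H : Set G) := by
    intro z hz
    rcases hz with rfl | rfl | rfl
    · exact H.one_mem
    · exact hx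
    · exact hx'
  have h2 : ({1, x, x'} : Set G).ncard ≤ (H : Set G).ncard := Set.ncard_le_ncard hsub (Set.toFinite _)
  have h3 : ({1, x, x'} : Set G).ncard = 3 := by
    rw [Set.ncard_eq_three]
    exact ⟨1, x, x', h1.symm, h1'.symm, hne, rfl⟩
  have h4 : (H : Set G).ncard = Nat.card H := (Nat.card_coe_set_eq _).symm
  omega

theorem two_mul_card_le_of_lt {H K : Subgroup G} (h : H < K) : 2 * Nat.card H ≤ Nat.card K := by
  obtain ⟨k, hk⟩ := Subgroup.card_dvd_of_le h.le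
  have hlt : Nat.card H < Nat.card K := card_lt_card_of_lt h
  have hpos : 0 < Nat.card H := Nat.card_pos
  rw [hk] at hlt ⊢
  have : 2 ≤ k := by
    by_contra hk2
    have : k = 0 ∨ k = 1 := by omega
    rcases this with rfl | rfl
    · simp at hlt
    · simp at hlt
  nlinarith

/-- a relative fixed point of an elementary abelian 2-group acting on an elementary abelian 2-group. -/
theorem exists_fixed_mod {Y U A : Subgroup G} (hY : IsElementaryAbelian 2 Y)
    (hAc : ∀ a ∈ A, ∀ a' ∈ A, a * a' = a' * a) (hA2 : ∀ a ∈ A, a * a = 1)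
    (hAY : ∀ a ∈ A, ∀ y ∈ Y, a * y * a⁻¹ ∈ Y) (hAU : ∀ a ∈ A, ∀ y ∈ U, a * y * a⁻¹ ∈ U)
    (hne : ¬ Y ≤ U) : ∃ y ∈ Y, y ∉ U ∧ ∀ a ∈ A, y * (a * y * a⁻¹) ∈ U := by
  classical
  have hsq : ∀ y ∈ Y, y * y = 1 := fun y hy => by have := hY.2 y hy; rwa [pow_two] at this
  have key : ∀ s : Finset G, (∀ a ∈ s, a ∈ A) →
      ∃ y ∈ Y, y ∉ U ∧ ∀ a ∈ s, y * (a * y * a⁻¹) ∈ U := by
    intro s
    induction s using Finset.induction_on with
    | empty =>
      intro _
      obtain ⟨y, hy, hyU⟩ := SetLike.not_le_iff_exists.mp hne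
      exact ⟨y, hy, hyU, by simp⟩
    | insert a₀ s ha₀ ih =>
      intro hs
      obtain ⟨y, hy, hyU, hys⟩ := ih (fun a ha => hs a (Finset.mem_insert_of_mem ha))
      have ha₀A : a₀ ∈ A := hs a₀ (Finset.mem_insert_self _ _)
      by_cases hc : y * (a₀ * y * a₀⁻¹) ∈ U
      · refine ⟨y, hy, hyU, fun a ha => ?_⟩
        rcases Finset.mem_insert.mp ha with rfl | ha
        · exact hc
        · exact hys a ha
      · have hy₁ : a₀ * y * a₀⁻¹ ∈ Y := hAY a₀ ha₀A y hy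
        refine ⟨y * (a₀ * y * a₀⁻¹), Y.mul_mem hy hy₁, hc, fun a ha => ?_⟩
        rcases Finset.mem_insert.mp ha with rfl | ha
        · have e1 : a * (a * y * a⁻¹) * a⁻¹ = y := by
            have := hA2 a ha₀A
            calc a * (a * y * a⁻¹) * a⁻¹ = (a * a) * y * (a * a)⁻¹ := by group
              _ = y := by rw [this]; group
          have e2 : a * (y * (a * y * a⁻¹)) * a⁻¹ = (a * y * a⁻¹) * y := by
            calc a * (y * (a * y * a⁻¹)) * a⁻¹ = (a * y * a⁻¹) * (a * (a * y * a⁻¹) * a⁻¹) := by group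
              _ = (a * y * a⁻¹) * y := by rw [e1]
          rw [e2]
          have e3 : y * (a * y * a⁻¹) * ((a * y * a⁻¹) * y) = 1 := by
            calc y * (a * y * a⁻¹) * ((a * y * a⁻¹) * y)
                = y * ((a * y * a⁻¹) * (a * y * a⁻¹)) * y := by group
              _ = 1 := by rw [hsq _ hy₁, mul_one, hsq y hy]
          rw [e3]; exact U.one_mem
        · have haA : a ∈ A := hs a (Finset.mem_insert_of_mem ha)
          have ht := hys a ha
          have hy₂ : a * y * a⁻¹ ∈ Y := hAY a haA y hy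
          have hy₃ : a₀ * (a * y * a⁻¹) * a₀⁻¹ ∈ Y := hAY a₀ ha₀A _ hy₂
          have hcomm := hAc a haA a₀ ha₀A
          have e1 : a * (y * (a₀ * y * a₀⁻¹)) * a⁻¹ = (a * y * a⁻¹) * (a₀ * (a * y * a⁻¹) * a₀⁻¹) := by
            calc a * (y * (a₀ * y * a₀⁻¹)) * a⁻¹ = (a * y * a⁻¹) * ((a * a₀) * y * (a * a₀)⁻¹) := by group
              _ = (a * y * a⁻¹) * ((a₀ * a) * y * (a₀ * a)⁻¹) := by rw [hcomm]
              _ = _ := by group
          rw [e1]
          have e2 : y * (a₀ * y * a₀⁻¹) * ((a * y * a⁻¹) * (a₀ * (a * y * a⁻¹) * a₀⁻¹)) =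
              (y * (a * y * a⁻¹)) * (a₀ * (y * (a * y * a⁻¹)) * a₀⁻¹) := by
            have c1 : (a₀ * y * a₀⁻¹) * (a * y * a⁻¹) = (a * y * a⁻¹) * (a₀ * y * a₀⁻¹) :=
              IsElementaryAbelian_comm hY hy₁ hy₂
            calc y * (a₀ * y * a₀⁻¹) * ((a * y * a⁻¹) * (a₀ * (a * y * a⁻¹) * a₀⁻¹))
                = y * ((a₀ * y * a₀⁻¹) * (a * y * a⁻¹)) * (a₀ * (a * y * a⁻¹) * a₀⁻¹) := by group
              _ = y * ((a * y * a⁻¹) * (a₀ * y * a₀⁻¹)) * (a₀ * (a * y * a⁻¹) * a₀⁻¹) := by rw [c1]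
              _ = _ := by group
          rw [e2]
          exact U.mul_mem ht (hAU a₀ ha₀A _ ht)
  have hfin : (A : Set G).Finite := Set.toFinite _
  obtain ⟨y, hy, hyU, hys⟩ := key hfin.toFinset (fun a ha => by simpa using ha)
  exact ⟨y, hy, hyU, fun a ha => hys a (by simpa using ha)⟩

/-- the hypotheses of the `S₃`-module lemma. -/
structure S3Mod (T A A₀ Y : Subgroup G) (d b : G) : Prop where
  hA : A ∈ maxEAOf 2 T
  hYT : Y ≤ T
  hY : IsElementaryAbelian 2 Y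
  hd3 : d ^ 3 = 1
  hdY : ∀ y ∈ Y, d * y * d⁻¹ ∈ Y
  hN : ∀ y ∈ Y, y * (d * y * d⁻¹) * (d * (d * y * d⁻¹) * d⁻¹) = 1
  hAY : ∀ a ∈ A, ∀ y ∈ Y, a * y * a⁻¹ ∈ Y
  hbA : b ∈ A
  hbd : b * d * b⁻¹ = d⁻¹
  hA₀ : A₀ ≤ A
  hcov : ∀ a ∈ A, a ∈ A₀ ∨ b * a ∈ A₀
  hcomm : ∀ a ∈ A₀, ∀ y ∈ Y, a * (d * y * d⁻¹) * a⁻¹ = d * (a * y * a⁻¹) * d⁻¹

namespace S3Mod

variable {T A A₀ Y : Subgroup G} {d b : G}

theorem sq (h : S3Mod T A A₀ Y d b) {y : G} (hy : y ∈ Y) : y * y = 1 := by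
  have := h.hY.2 y hy
  rwa [pow_two] at this

theorem inv_d (h : S3Mod T A A₀ Y d b) : d⁻¹ = d * d := by
  have := h.hd3
  rw [pow_three'] at this
  exact inv_eq_of_mul_eq_one_left this

theorem offender (h : S3Mod T A A₀ Y d b) {Z B : Subgroup G} (hZ : Z ≤ Y) (hB : B ≤ A)
    (hBZ : ∀ x ∈ B, ∀ z ∈ Z, x * z = z * x) :
    Nat.card B * Nat.card Z ≤ Nat.card A * Nat.card (B ⊓ Z : Subgroup G) := by
  have hel : IsElementaryAbelian 2 (B ⊔ Z) :=
    isElementaryAbelian_sup (isElementaryAbelian_mono hB h.hA.2.1) (isElementaryAbelian_mono hZ h.hY) hBZ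
  have hle : B ⊔ Z ≤ T := sup_le (hB.trans h.hA.1) (hZ.trans h.hYT)
  have h1 := h.hA.2.2 _ hle hel
  have h2 := card_mul_card_le_sup_mul_inf B Z
  exact h2.trans (Nat.mul_le_mul_right _ h1)

theorem card_fix_sq_le (h : S3Mod T A A₀ Y d b) {Z : Subgroup G} (hZ : Z ≤ Y)
    (hdZ : ∀ z ∈ Z, d * z * d⁻¹ ∈ Z) :
    Nat.card (Z ⊓ Subgroup.centralizer ({b} : Set G) : Subgroup G) *
      Nat.card (Z ⊓ Subgroup.centralizer ({b} : Set G) : Subgroup G) ≤ Nat.card Z := by
  set Cb := Z ⊓ Subgroup.centralizer ({b} : Set G) with hCb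
  have hbot : Cb ⊓ cj d Cb = ⊥ := by
    rw [eq_bot_iff]
    rintro x ⟨hx1, hx2⟩
    have hx2' : d⁻¹ * x * d ∈ Cb := mem_cj.mp hx2
    set y := d⁻¹ * x * d with hy
    have hxy : x = d * y * d⁻¹ := by rw [hy]; group
    have hyY : y ∈ Y := hZ hx2'.1
    have hyb : y * b = b * y := Subgroup.mem_centralizer_singleton_iff.mp hx2'.2
    have hxb : x * b = b * x := Subgroup.mem_centralizer_singleton_iff.mp hx1.2
    have e0 : b * y * b⁻¹ = y := by rw [← hyb]; group
    have e1 : b * x * b⁻¹ = d⁻¹ * y * d := by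
      rw [hxy]
      calc b * (d * y * d⁻¹) * b⁻¹ = (b * d * b⁻¹) * (b * y * b⁻¹) * (b * d * b⁻¹)⁻¹ := by group
        _ = d⁻¹ * y * d := by rw [h.hbd, e0, inv_inv]
    have e2 : b * x * b⁻¹ = x := by rw [← hxb]; group
    have e3 : d * y * d⁻¹ = d⁻¹ * y * d := by rw [← hxy, ← e2, e1]
    have e5 : d * (d * y * d⁻¹) * d⁻¹ = d⁻¹ * y * d := by
      have := h.inv_d
      calc d * (d * y * d⁻¹) * d⁻¹ = (d * d) * y * (d * d)⁻¹ := by group
        _ = d⁻¹ * y * d := by rw [← this, inv_inv]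
    have e4 : d * y * d⁻¹ = y := by
      have e6 : d * (d * y * d⁻¹) * d⁻¹ = y := by rw [e3]; group
      rw [e3, ← e5, e6]
    have hN := h.hN y hyY
    rw [e4, e4, h.sq hyY, one_mul] at hN
    rw [Subgroup.mem_bot, hxy, e4, hN]
  have h1 := card_mul_card_le_sup_mul_inf Cb (cj d Cb)
  rw [hbot, Subgroup.card_bot, mul_one, card_cj] at h1
  have h2 : Cb ⊔ cj d Cb ≤ Z := by
    refine sup_le inf_le_left ?_
    rintro _ ⟨y, hy, rfl⟩
    exact hdZ y hy.1
  exact h1.trans (Subgroup.card_le_of_le h2)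

/-- **The `S₃`-module lemma.** -/
theorem card_le (h : S3Mod T A A₀ Y d b) : Nat.card Y ≤ 4 := by
  have hAel := h.hA.2.1
  have hAcomm : ∀ a ∈ A, ∀ a' ∈ A, a * a' = a' * a :=
    fun a ha a' ha' => IsElementaryAbelian_comm hAel ha ha'
  have hA2 : ∀ a ∈ A, a * a = 1 := fun a ha => by
    have := hAel.2 a ha
    rwa [pow_two] at this
  have hYcomm : ∀ y ∈ Y, ∀ y' ∈ Y, y * y' = y' * y :=
    fun y hy y' hy' => IsElementaryAbelian_comm h.hY hy hy'
  set U₁ := Y ⊓ Subgroup.centralizer (A₀ : Set G) with hU₁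
  have hU₁Y : U₁ ≤ Y := inf_le_left
  have hU₁fix : ∀ u ∈ U₁, ∀ a ∈ A₀, a * u * a⁻¹ = u := by
    intro u hu a ha
    have := Subgroup.mem_centralizer_iff.mp hu.2 a ha
    rw [this]; group
  have hU₁mem : ∀ u ∈ Y, (∀ a ∈ A₀, a * u * a⁻¹ = u) → u ∈ U₁ := by
    intro u hu hfix
    refine ⟨hu, Subgroup.mem_centralizer_iff.mpr fun a ha => ?_⟩
    have := hfix a ha
    calc a * u = (a * u * a⁻¹) * a := by group
      _ = u * a := by rw [this]
  have hdU₁ : ∀ u ∈ U₁, d * u * d⁻¹ ∈ U₁ := by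
    intro u hu
    apply hU₁mem _ (h.hdY u (hU₁Y hu))
    intro a ha
    rw [h.hcomm a ha u (hU₁Y hu), hU₁fix u hu a ha]
  have hdinvU₁ : ∀ u ∈ U₁, d⁻¹ * u * d ∈ U₁ := by
    intro u hu
    have h1 := hdU₁ _ (hdU₁ u hu)
    have e : d * (d * u * d⁻¹) * d⁻¹ = d⁻¹ * u * d := by
      have := h.inv_d
      calc d * (d * u * d⁻¹) * d⁻¹ = (d * d) * u * (d * d)⁻¹ := by group
        _ = d⁻¹ * u * d := by rw [← this, inv_inv]
    rwa [e] at h1
  have hAU₁ : ∀ a ∈ A, ∀ u ∈ U₁, a * u * a⁻¹ ∈ U₁ := by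
    intro a ha u hu
    apply hU₁mem _ (h.hAY a ha u (hU₁Y hu))
    intro a' ha'
    have hc := hAcomm a' (h.hA₀ ha') a ha
    calc a' * (a * u * a⁻¹) * a'⁻¹ = (a' * a) * u * (a' * a)⁻¹ := by group
      _ = (a * a') * u * (a * a')⁻¹ := by rw [hc]
      _ = a * (a' * u * a'⁻¹) * a⁻¹ := by group
      _ = a * u * a⁻¹ := by rw [hU₁fix u hu a' ha']
  set Cb := U₁ ⊓ Subgroup.centralizer ({b} : Set G) with hCb
  have hS3 := h.card_fix_sq_le hU₁Y hdU₁
  have hcA : Nat.card A ≤ 2 * Nat.card A₀ := card_le_two_mul_of_cover h.hcov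
  have hA₀pos : 0 < Nat.card A₀ := Nat.card_pos
  have hle1 : A₀ ⊓ U₁ ≤ Cb := by
    intro x hx
    refine ⟨hx.2, ?_⟩
    apply Subgroup.mem_centralizer_singleton_iff.mpr
    exact hAcomm x (h.hA₀ hx.1) b h.hbA
  have hoff1 := h.offender hU₁Y h.hA₀ (fun x hx z hz => by
    have := hU₁fix z hz x hx
    calc x * z = (x * z * x⁻¹) * x := by group
      _ = z * x := by rw [this])
  have hU₁card : Nat.card U₁ ≤ 2 * Nat.card Cb := by
    have h1 : Nat.card A₀ * Nat.card U₁ ≤ Nat.card A₀ * (2 * Nat.card Cb) := by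
      calc Nat.card A₀ * Nat.card U₁ ≤ Nat.card A * Nat.card (A₀ ⊓ U₁ : Subgroup G) := hoff1
        _ ≤ (2 * Nat.card A₀) * Nat.card Cb := Nat.mul_le_mul hcA (Subgroup.card_le_of_le hle1)
        _ = _ := by ring
    exact Nat.le_of_mul_le_mul_left h1 hA₀pos
  have hCb2 : Nat.card Cb ≤ 2 := by nlinarith
  have hU₁4 : Nat.card U₁ ≤ 4 := by omega
  by_cases hYU : Y ≤ U₁
  · exact (Subgroup.card_le_of_le hYU).trans hU₁4
  exfalso
  obtain ⟨y, hyY, hyU, hyA⟩ := exists_fixed_mod h.hY hAcomm hA2 h.hAY hAU₁ hYU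
  have hyy := h.sq hyY
  -- `t_a ∈ C_{U₁}(b)`
  have htb : ∀ a ∈ A₀, y * (a * y * a⁻¹) ∈ Cb := by
    intro a ha
    have haA := h.hA₀ ha
    refine ⟨hyA a haA, ?_⟩
    apply Subgroup.mem_centralizer_singleton_iff.mpr
    set tb := y * (b * y * b⁻¹) with htb
    have htbU : tb ∈ U₁ := hyA b h.hbA
    have e1 : b * y * b⁻¹ = y * tb := by
      rw [htb]
      calc b * y * b⁻¹ = (y * y) * (b * y * b⁻¹) := by rw [hyy, one_mul]
        _ = y * (y * (b * y * b⁻¹)) := by group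
    set y₂ := a * y * a⁻¹ with hy₂
    have hy₂Y : y₂ ∈ Y := h.hAY a haA y hyY
    have hc := hAcomm b h.hbA a haA
    have e2 : b * y₂ * b⁻¹ = y₂ * tb := by
      calc b * y₂ * b⁻¹ = (b * a) * y * (b * a)⁻¹ := by rw [hy₂]; group
        _ = (a * b) * y * (a * b)⁻¹ := by rw [hc]
        _ = a * (b * y * b⁻¹) * a⁻¹ := by group
        _ = a * (y * tb) * a⁻¹ := by rw [e1]
        _ = (a * y * a⁻¹) * (a * tb * a⁻¹) := by group
        _ = y₂ * tb := by rw [hU₁fix tb htbU a ha]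
    have e3 : b * (y * y₂) * b⁻¹ = y * y₂ := by
      have c1 : tb * y₂ = y₂ * tb := hYcomm tb (hU₁Y htbU) y₂ hy₂Y
      have c2 : tb * tb = 1 := h.sq (hU₁Y htbU)
      calc b * (y * y₂) * b⁻¹ = (b * y * b⁻¹) * (b * y₂ * b⁻¹) := by group
        _ = (y * tb) * (y₂ * tb) := by rw [e1, e2]
        _ = y * (tb * y₂) * tb := by group
        _ = y * (y₂ * tb) * tb := by rw [c1]
        _ = y * y₂ * (tb * tb) := by group
        _ = y * y₂ := by rw [c2, mul_one]
    calc y * y₂ * b = (b * (y * y₂) * b⁻¹) * b := by rw [e3]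
      _ = b * (y * y₂) := by group
  -- some `a₁ ∈ A₀` moves `y`
  have hex : ∃ a₁ ∈ A₀, y * (a₁ * y * a₁⁻¹) ≠ 1 := by
    by_contra hcon
    push Not at hcon
    apply hyU
    apply hU₁mem y hyY
    intro a ha
    have := hcon a ha
    calc a * y * a⁻¹ = (y * y) * (a * y * a⁻¹) := by rw [hyy, one_mul]
      _ = y * (y * (a * y * a⁻¹)) := by group
      _ = y := by rw [this, mul_one]
  obtain ⟨a₁, ha₁, hne₁⟩ := hex
  set B := A₀ ⊓ Subgroup.centralizer ({y} : Set G) with hB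
  have hcovB : ∀ a ∈ A₀, a ∈ B ∨ a₁ * a ∈ B := by
    intro a ha
    by_cases hta : y * (a * y * a⁻¹) = 1
    · left
      refine ⟨ha, Subgroup.mem_centralizer_singleton_iff.mpr ?_⟩
      have e : a * y * a⁻¹ = y := by
        calc a * y * a⁻¹ = (y * y) * (a * y * a⁻¹) := by rw [hyy, one_mul]
          _ = y * (y * (a * y * a⁻¹)) := by group
          _ = y := by rw [hta, mul_one]
      calc a * y = (a * y * a⁻¹) * a := by group
        _ = y * a := by rw [e]
    · right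
      have heq := eq_of_card_le_two hCb2 (htb a ha) (htb a₁ ha₁) hta hne₁
      refine ⟨A₀.mul_mem ha₁ ha, Subgroup.mem_centralizer_singleton_iff.mpr ?_⟩
      set u := y * (a * y * a⁻¹) with hu
      have huU : u ∈ U₁ := (htb a ha).1
      have e1 : a * y * a⁻¹ = y * u := by
        rw [hu]
        calc a * y * a⁻¹ = (y * y) * (a * y * a⁻¹) := by rw [hyy, one_mul]
          _ = y * (y * (a * y * a⁻¹)) := by group
      have e2 : a₁ * y * a₁⁻¹ = y * u := by
        rw [heq]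
        calc a₁ * y * a₁⁻¹ = (y * y) * (a₁ * y * a₁⁻¹) := by rw [hyy, one_mul]
          _ = y * (y * (a₁ * y * a₁⁻¹)) := by group
      have e3 : (a₁ * a) * y * (a₁ * a)⁻¹ = y := by
        calc (a₁ * a) * y * (a₁ * a)⁻¹ = a₁ * (a * y * a⁻¹) * a₁⁻¹ := by group
          _ = a₁ * (y * u) * a₁⁻¹ := by rw [e1]
          _ = (a₁ * y * a₁⁻¹) * (a₁ * u * a₁⁻¹) := by group
          _ = (y * u) * u := by rw [e2, hU₁fix u huU a₁ ha₁]
          _ = y * (u * u) := by group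
          _ = y := by rw [h.sq (hU₁Y huU), mul_one]
      calc (a₁ * a) * y = ((a₁ * a) * y * (a₁ * a)⁻¹) * (a₁ * a) := by group
        _ = y * (a₁ * a) := by rw [e3]
  have hcB : Nat.card A₀ ≤ 2 * Nat.card B := card_le_two_mul_of_cover hcovB
  -- the subgroup `Z`
  set y' := d * y * d⁻¹ with hy'
  have hy'Y : y' ∈ Y := h.hdY y hyY
  set Z₁ := U₁ ⊔ Subgroup.zpowers y with hZ₁
  set Z := Z₁ ⊔ Subgroup.zpowers y' with hZ
  have hZ₁Y : Z₁ ≤ Y := sup_le hU₁Y (by rw [Subgroup.zpowers_le]; exact hyY)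
  have hZY : Z ≤ Y := sup_le hZ₁Y (by rw [Subgroup.zpowers_le]; exact hy'Y)
  have hBZ : ∀ x ∈ B, ∀ z ∈ Z, x * z = z * x := by
    intro x hx
    have hxy : x * y = y * x := Subgroup.mem_centralizer_singleton_iff.mp hx.2
    have hle : Z ≤ Subgroup.centralizer ({x} : Set G) := by
      refine sup_le (sup_le ?_ ?_) ?_
      · intro u hu
        apply Subgroup.mem_centralizer_singleton_iff.mpr
        exact (Subgroup.mem_centralizer_iff.mp hu.2 x hx.1).symm
      · rw [Subgroup.zpowers_le]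
        exact Subgroup.mem_centralizer_singleton_iff.mpr hxy.symm
      · rw [Subgroup.zpowers_le]
        apply Subgroup.mem_centralizer_singleton_iff.mpr
        have e0 : x * y * x⁻¹ = y := by rw [hxy]; group
        have e1 : x * y' * x⁻¹ = y' := by rw [hy', h.hcomm x hx.1 y hyY, e0]
        calc y' * x = (x * y' * x⁻¹) * x := by rw [e1]
          _ = x * y' := by group
    intro z hz
    exact (Subgroup.mem_centralizer_singleton_iff.mp (hle hz)).symm
  have hoff2 := h.offender hZY (inf_le_left.trans h.hA₀) hBZ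
  have hle2 : B ⊓ Z ≤ Cb := by
    intro x hx
    have hxA₀ : x ∈ A₀ := hx.1.1
    have hxY : x ∈ Y := hZY hx.2
    refine ⟨⟨hxY, ?_⟩, ?_⟩
    · apply Subgroup.mem_centralizer_iff.mpr
      intro a ha
      exact hAcomm a (h.hA₀ ha) x (h.hA₀ hxA₀)
    · apply Subgroup.mem_centralizer_singleton_iff.mpr
      exact hAcomm x (h.hA₀ hxA₀) b h.hbA
  -- the chain `U₁ < Z₁ < Z`
  have hlt1 : U₁ < Z₁ := by
    refine lt_of_le_of_ne le_sup_left ?_
    intro heq
    apply hyU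
    rw [heq]
    exact Subgroup.mem_sup_right (Subgroup.mem_zpowers y)
  have hmemZ₁ : ∀ z ∈ Z₁, z ∈ U₁ ∨ ∃ u ∈ U₁, z = u * y := by
    intro z hz
    obtain ⟨u, hu, k, hk, rfl⟩ := exists_mul_of_mem_sup_of_commute' (H := U₁) (K := Subgroup.zpowers y)
      (fun u hu k hk => by
        obtain ⟨i, rfl⟩ := Subgroup.mem_zpowers_iff.mp hk
        exact hYcomm u (hU₁Y hu) _ (Y.zpow_mem hyY i)) hz
    obtain ⟨i, rfl⟩ := Subgroup.mem_zpowers_iff.mp hk
    rcases Int.even_or_odd i with ⟨j, rfl⟩ | ⟨j, rfl⟩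
    · left
      have : y ^ (j + j) = 1 := by
        rw [zpow_add, ← (Commute.refl y).mul_zpow, hyy, one_zpow]
      rw [this, mul_one]; exact hu
    · right
      refine ⟨u, hu, ?_⟩
      have : y ^ (2 * j + 1) = y := by
        rw [zpow_add_one, zpow_mul, zpow_two, hyy, one_zpow, one_mul]
      rw [this]
  have hlt2 : Z₁ < Z := by
    refine lt_of_le_of_ne le_sup_left ?_
    intro heq
    have hy'Z₁ : y' ∈ Z₁ := by
      rw [heq]
      exact Subgroup.mem_sup_right (Subgroup.mem_zpowers y')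
    rcases hmemZ₁ y' hy'Z₁ with h1 | ⟨u, hu, h1⟩
    · apply hyU
      have := hdinvU₁ y' h1
      have e : d⁻¹ * y' * d = y := by rw [hy']; group
      rwa [e] at this
    · apply hyU
      have hN := h.hN y hyY
      set u' := d * u * d⁻¹ with hu'
      have hu'U : u' ∈ U₁ := hdU₁ u hu
      have e1 : d * y' * d⁻¹ = u' * (u * y) := by
        calc d * y' * d⁻¹ = d * (u * y) * d⁻¹ := by rw [h1]
          _ = (d * u * d⁻¹) * (d * y * d⁻¹) := by group
          _ = u' * (u * y) := by rw [← hy', h1]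
      rw [← hy', e1, h1] at hN
      have c1 : y * u = u * y := hYcomm y hyY u (hU₁Y hu)
      have c2 : u * u' = u' * u := hYcomm u (hU₁Y hu) u' (hU₁Y hu'U)
      have e2 : y * (u * y) * (u' * (u * y)) = u' * y := by
        calc y * (u * y) * (u' * (u * y)) = (y * u) * y * (u' * (u * y)) := by group
          _ = (u * y) * y * (u' * (u * y)) := by rw [c1]
          _ = u * (y * y) * (u' * (u * y)) := by group
          _ = (u * u') * (u * y) := by rw [hyy, mul_one]; group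
          _ = (u' * u) * (u * y) := by rw [c2]
          _ = u' * (u * u) * y := by group
          _ = u' * y := by rw [h.sq (hU₁Y hu), mul_one]
      rw [e2] at hN
      have : y = u'⁻¹ := by
        calc y = u'⁻¹ * (u' * y) := by group
          _ = u'⁻¹ := by rw [hN, mul_one]
      rw [this]
      exact U₁.inv_mem hu'U
  have hc1 : 2 * Nat.card U₁ ≤ Nat.card Z₁ := two_mul_card_le_of_lt hlt1
  have hc2 : 2 * Nat.card Z₁ ≤ Nat.card Z := two_mul_card_le_of_lt hlt2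
  have hBpos : 0 < Nat.card B := Nat.card_pos
  have h5 : Nat.card Z ≤ 4 * Nat.card Cb := by
    have : Nat.card B * Nat.card Z ≤ Nat.card B * (4 * Nat.card Cb) := by
      calc Nat.card B * Nat.card Z ≤ Nat.card A * Nat.card (B ⊓ Z : Subgroup G) := hoff2
        _ ≤ (2 * (2 * Nat.card B)) * Nat.card Cb :=
          Nat.mul_le_mul (hcA.trans (Nat.mul_le_mul_left 2 hcB)) (Subgroup.card_le_of_le hle2)
        _ = _ := by ring
    exact Nat.le_of_mul_le_mul_left this hBpos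
  have hCbge : 2 ≤ Nat.card Cb := by
    have h1 : Cb ≠ ⊥ := by
      intro hbot
      have := htb a₁ ha₁
      rw [hbot, Subgroup.mem_bot] at this
      exact hne₁ this
    have := (Subgroup.one_lt_card_iff_ne_bot Cb).mpr h1
    omega
  nlinarith

end S3Mod

end Cfsg.Agent.Lib.Helper49.JC
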