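import Cfsg.Agent.Lib.Helper49.JC.Interface

/-!
# `T ≤ N(K)` when `Z(T) ∩ W_K ≠ 1` (S2943), and `N_L(W_K) ≤ N(K)` for `L ∈ 𝓛(T)`
-/

set_option autoImplicit false
set_option linter.unusedSectionVars false

namespace Cfsg.Agent.Lib.Helper49.JC

open Cfsg Cfsg.Agent.Lib.Helper49 Cfsg.Agent.Lib.Helper97 Cfsg.Agent.Lib.Helper33
  Cfsg.Agent.Lib.Helper47 Cfsg.Agent.Lib.Helper49.FF620
open scoped commutatorElement

universe u

variable {G : Type u} [Group G] [Finite G] {T L K : Subgroup G}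

/-- **S2943.** -/
theorem le_normalizer_of_center_meet (hL : IsCharacteristicTwoType G)
    (hN : ∀ N : Subgroup G, IsTwoLocal N → Group.IsSolvable ↥N)
    (hZ : ∀ S : Sylow 2 G, Subgroup.centralizer (omegaCenterOf (S : Subgroup G) : Set G) ≤
      Subgroup.normalizer ((S : Subgroup G) : Set G))
    (hT : IsPGroup 2 ↥T) (hT1 : T ≠ ⊥) (hLT : L ∈ jOvergroups T) (hK : IsJComponent T K)
    (hKL : K ≤ L) (hZW : T ⊓ Subgroup.centralizer (T : Set G) ⊓ wOf K ≠ ⊥) :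
    T ≤ Subgroup.normalizer (K : Set G) := by
  obtain ⟨b, -, -, -, hg⟩ := interface hN hZ hT hT1 hLT hK hKL
  have hsyl := sylIn_of_mem hLT
  apply le_normalizer_of_forall_conj_mem
  intro t ht x hx
  obtain ⟨z, hz1⟩ := (Subgroup.ne_bot_iff_exists_ne_one).mp hZW
  have hzT : (z : G) ∈ T := z.2.1.1
  have hzC : (z : G) ∈ Subgroup.centralizer (T : Set G) := z.2.1.2
  have hzW : (z : G) ∈ wOf K := z.2.2
  have hz1' : (z : G) ≠ 1 := fun h => hz1 (Subtype.ext h)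
  have hmeet : cj t (wOf K) ⊓ wOf K ≠ ⊥ := by
    intro hbot
    apply hz1'
    have h1 : (z : G) ∈ cj t (wOf K) := by
      have := conj_mem_cj (g := t) hzW
      have e : t * (z : G) * t⁻¹ = z := by
        rw [Subgroup.mem_centralizer_iff.mp hzC t ht]; group
      rwa [e] at this
    have : (z : G) ∈ cj t (wOf K) ⊓ wOf K := ⟨h1, hzW⟩
    rwa [hbot, Subgroup.mem_bot] at this
  have h1 := (hg t (hsyl.le ht) hmeet).1
  have h2 : IsJComponent T (cj t K) := by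
    have := isJComponent_cj t hK
    rwa [cj_eq_self_of_mem ht] at this
  have h3 := le_of_le_sup_CW hL hN hZ hT hT1 hLT hK hKL h2 h1
  exact h3 (conj_mem_cj hx)

/-- `N_L(W_K) ≤ N(K)` for a `J(T)`-component `K` of `L ∈ 𝓛(T)`. -/
theorem inf_normalizer_wOf_le_normalizer (hL : IsCharacteristicTwoType G)
    (hN : ∀ N : Subgroup G, IsTwoLocal N → Group.IsSolvable ↥N)
    (hZ : ∀ S : Sylow 2 G, Subgroup.centralizer (omegaCenterOf (S : Subgroup G) : Set G) ≤
      Subgroup.normalizer ((S : Subgroup G) : Set G))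
    (hT : IsPGroup 2 ↥T) (hT1 : T ≠ ⊥) (hLT : L ∈ jOvergroups T) (hK : IsJComponent T K)
    (hKL : K ≤ L) :
    L ⊓ Subgroup.normalizer ((wOf K : Subgroup G) : Set G) ≤ Subgroup.normalizer (K : Set G) := by
  have : Fact (Nat.Prime 2) := ⟨Nat.prime_two⟩
  obtain ⟨b, hbJ, hbb, hKb, hg⟩ := interface hN hZ hT hT1 hLT hK hKL
  have hsyl := sylIn_of_mem hLT
  have hW := isFour_wOf hK
  have hWne : wOf K ≠ ⊥ := by
    intro h
    have := hW.card
    rw [h, Subgroup.card_bot] at this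
    norm_num at this
  have hKW : K ≤ Subgroup.normalizer ((wOf K : Subgroup G) : Set G) :=
    le_sup_left.trans (sup_le_normalizer_wOf hK)
  have hmeet : ∀ g ∈ Subgroup.normalizer ((wOf K : Subgroup G) : Set G), cj g (wOf K) ⊓ wOf K ≠ ⊥ := by
    intro g hg
    rw [cj_eq_self_of_mem_normalizer hg, inf_idem]
    exact hWne
  have hCK := CW_le_normalizer hL hN hZ hT hT1 hLT hK hKL
  have hCT := centralizer_Wk_le_normalizer hZ hLT
  have hJn := J_le_normalizer hK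
  apply le_normalizer_of_forall_conj_mem
  rintro g ⟨hgL, hgW⟩ x hx
  obtain ⟨-, k, hk, hkc⟩ := hg g hgL (hmeet g hgW)
  set g₁ := k⁻¹ * g with hg₁
  have hg₁L : g₁ ∈ L := L.mul_mem (L.inv_mem (hKL hk)) hgL
  have hg₁W : g₁ ∈ Subgroup.normalizer ((wOf K : Subgroup G) : Set G) :=
    Subgroup.mul_mem _ (Subgroup.inv_mem _ (hKW hk)) hgW
  have hle := (hg g₁ hg₁L (hmeet g₁ hg₁W)).1
  set s := g₁ * b * g₁⁻¹ with hs
  have hbT : b ∈ T := thompsonSubgroupOf_le 2 T hbJ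
  have hsdec : s = (g₁ * b * g₁⁻¹ * b⁻¹) * b := by rw [hs]; group
  have hsL : s ∈ L := L.mul_mem (L.mul_mem hg₁L (hsyl.le hbT)) (L.inv_mem hg₁L)
  have hsNT : s ∈ Subgroup.normalizer (T : Set G) := by
    rw [hsdec]
    exact Subgroup.mul_mem _ (hCT hkc) (Subgroup.le_normalizer hbT)
  have hs2 : IsPGroup 2 ↥(Subgroup.zpowers s) := by
    have h2 : Subgroup.zpowers s ≤ cj g₁ T := by
      rw [Subgroup.zpowers_le]; exact conj_mem_cj hbT
    exact (isPGroup_cj hsyl.isPGroup).to_le h2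
  have hsT : s ∈ T := mem_of_two_elt hsyl hsL hsNT hs2
  have hsNK : s ∈ Subgroup.normalizer (K : Set G) := by
    rw [hsdec]
    exact Subgroup.mul_mem _ (hCK hkc) (hJn hbJ)
  have hY : Subgroup.zpowers s ≤ T ⊓ Subgroup.normalizer (K : Set G) := by
    rw [Subgroup.zpowers_le]; exact ⟨hsT, hsNK⟩
  have hgen := (isJComponent_cj g₁ hK).1
  have hK₂ : cj g₁ K ≤ ⁅cj g₁ K, Subgroup.zpowers s⁆ := by
    have h1 : cj g₁ (Subgroup.zpowers b) = Subgroup.zpowers s := by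
      rw [cj_def, MonoidHom.map_zpowers]
      rfl
    rw [← h1, ← cj_commutator]
    exact cj_mono hKb
  have h3 : cj g₁ K ≤ K := le_of_comm_le hL hN hZ hT hT1 hLT hK hKL hY hgen hK₂ hle
  have hgk : g = k * g₁ := by rw [hg₁]; group
  have h4 : g * x * g⁻¹ = k * (g₁ * x * g₁⁻¹) * k⁻¹ := by rw [hgk]; group
  rw [h4]
  exact K.mul_mem (K.mul_mem hk (h3 (conj_mem_cj hx))) (K.inv_mem hk)

end Cfsg.Agent.Lib.Helper49.JC
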