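import Cfsg.Agent.Lib.Helper49.FF620
import Cfsg.Agent.Lib.Helper49.FFBlocks2
import Cfsg.Agent.S0617
import Cfsg.Agent.S0608

/-!
# The odd core of `J(Λ)` modulo `C_Λ(W)` (p = 2)

For a finite `2`-solvable group `Λ` with `O_{2'}(Λ) = 1`, `W = ⟨Ω₁Z(S) : S ∈ Syl₂ Λ⟩`: there is a normal
subgroup `D ⊇ C_Λ(W)` with `D/C_Λ(W)` abelian containing every element of odd order of `J(Λ)`.
(From the block decomposition S0617: `J(Λ)C/C = E₁ × ⋯ × E_r`, `E_i ≅ SL₂(2)`.)
-/

set_option autoImplicit false
set_option linter.unusedSectionVars false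
open Cfsg

namespace Cfsg.Agent.Lib.Helper49.JC

universe u

open Cfsg.Agent.Lib.Helper49 Cfsg.Agent.Lib.Helper49.FFB Cfsg.Agent.Lib.Helper49.FF620
open scoped commutatorElement

set_option maxRecDepth 100000 in
theorem sl22_comm : ∀ a b : Matrix.SpecialLinearGroup (Fin 2) (ZMod 2),
    a ^ 3 = 1 → b ^ 3 = 1 → a * b = b * a := by
  decide

set_option maxRecDepth 100000 in
theorem card_sl22 : Nat.card (Matrix.SpecialLinearGroup (Fin 2) (ZMod 2)) = 6 := by
  rw [Nat.card_eq_fintype_card]
  decide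

theorem pow_three_of_odd {E : Type*} [Group E] (hE : Nat.card E = 6) (a : E)
    (ha : Odd (orderOf a)) : a ^ 3 = 1 := by
  have h1 : orderOf a ∣ 6 := hE ▸ orderOf_dvd_natCard a
  have h2 : orderOf a ∣ 3 := by
    have h3 : orderOf a ≤ 6 := Nat.le_of_dvd (by norm_num) h1
    have h4 : 0 < orderOf a := Nat.pos_of_dvd_of_pos h1 (by norm_num)
    interval_cases h : orderOf a
    · exact one_dvd _
    · exact absurd ha (by decide)
    · exact dvd_rfl
    · exact absurd ha (by decide)
    · exact absurd h1 (by decide)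
    · exact absurd ha (by decide)
  exact orderOf_dvd_iff_pow_eq_one.mp h2

section Cfg

variable {Γ : Type*} [Group Γ] [Finite Γ] {V H : Subgroup Γ}

/-- the projections onto the blocks are jointly injective. -/
theorem eq_one_of_proj_eq_one (c : BlockCfg 2 V H) (d : ↥H) (h : ∀ E, c.proj E d = 1) : d = 1 := by
  have hd : (d : Γ) ∈ H ⊓ Subgroup.centralizer (V : Set Γ) := by
    refine ⟨d.2, ?_⟩
    have hV : V ≤ Subgroup.centralizer ({(d : Γ)} : Set Γ) := by
      rw [← c.hsupV]
      apply sup_le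
      · rintro v ⟨-, hv⟩
        rw [Subgroup.mem_centralizer_singleton_iff]
        exact (Subgroup.mem_centralizer_iff.mp hv d d.2).symm
      · apply iSup_le
        intro E u hu
        rw [Subgroup.mem_centralizer_singleton_iff]
        obtain ⟨r, hr, hdr⟩ := c.proj_spec E d
        rw [h E] at hdr
        have hdr' : (d : Γ) = r := by rw [hdr]; simp
        rw [hdr']
        have := c.rest_le_centralizer_U E hr
        exact (Subgroup.mem_centralizer_iff.mp this u hu)
    apply Subgroup.mem_centralizer_iff.mpr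
    intro v hv
    exact (Subgroup.mem_centralizer_singleton_iff.mp (hV hv))
  rw [c.hf, Subgroup.mem_bot] at hd
  exact Subtype.ext hd

/-- elements of odd order of `H` commute. -/
theorem commute_of_odd (c : BlockCfg 2 V H) (x y : ↥H) (hx : Odd (orderOf x)) (hy : Odd (orderOf y)) :
    x * y = y * x := by
  have key : x * y * x⁻¹ * y⁻¹ = 1 := by
    apply eq_one_of_proj_eq_one c
    intro E
    obtain ⟨e⟩ := (c.hE E).2.1
    have hcard : Nat.card ↥(E : Subgroup Γ) = 6 := by
      rw [Nat.card_congr e.toEquiv, card_sl22]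
    have hpx : (c.proj E x) ^ 3 = 1 := by
      apply pow_three_of_odd hcard
      exact Odd.of_dvd_nat hx (orderOf_map_dvd _ x)
    have hpy : (c.proj E y) ^ 3 = 1 := by
      apply pow_three_of_odd hcard
      exact Odd.of_dvd_nat hy (orderOf_map_dvd _ y)
    have hcomm : c.proj E x * c.proj E y = c.proj E y * c.proj E x := by
      apply e.injective
      rw [map_mul, map_mul]
      apply sl22_comm
      · rw [← map_pow, hpx, map_one]
      · rw [← map_pow, hpy, map_one]
    rw [map_mul, map_mul, map_mul, map_inv, map_inv]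
    calc c.proj E x * c.proj E y * (c.proj E x)⁻¹ * (c.proj E y)⁻¹
        = c.proj E y * c.proj E x * (c.proj E x)⁻¹ * (c.proj E y)⁻¹ := by rw [hcomm]
      _ = 1 := by group
  calc x * y = (x * y * x⁻¹ * y⁻¹) * (y * x) := by group
    _ = y * x := by rw [key, one_mul]

end Cfg

section Main

variable {Λ : Type u} [Group Λ] [Finite Λ]

attribute [local instance] bigW_characteristic Jk_characteristic

/-- **The odd core.**  A normal subgroup `D ⊇ C_Λ(W)` with `[D,D] ≤ C_Λ(W)` containing the elements of odd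
order of `J(Λ)`. -/
theorem exists_oddCore (hsep : Cfsg.IsPSolvable 2 Λ) (hO : Cfsg.pPrimeCore 2 Λ = ⊥) :
    ∃ D : Subgroup Λ, D.Normal ∧ Subgroup.centralizer ((Wk 2 Λ : Subgroup Λ) : Set Λ) ≤ D ∧
      ⁅D, D⁆ ≤ Subgroup.centralizer ((Wk 2 Λ : Subgroup Λ) : Set Λ) ∧
      ∀ g ∈ Jk 2 Λ, Odd (orderOf g) → g ∈ D := by
  by_cases hnf : Cfsg.IsThompsonFactorizable 2 Λ
  · have hJC := (Cfsg.Agent.S0608.result (p := 2) hO).mp hnf
    change Jk 2 Λ ≤ Subgroup.centralizer ((Wk 2 Λ : Subgroup Λ) : Set Λ) at hJC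
    refine ⟨Subgroup.centralizer ((Wk 2 Λ : Subgroup Λ) : Set Λ), Subgroup.normal_centralizer, le_rfl,
      Subgroup.commutator_le_left _ _ |>.trans le_rfl, fun g hg _ => hJC hg⟩
  · obtain ⟨c, -⟩ := blockCfg_of (p := 2) (fun V H => Cfsg.Agent.S0617.result V H) hsep hO hnf
    set W := Wk 2 Λ with hW
    set φ := holHom W with hφ
    set Hb := (Jk 2 Λ).map φ with hHb
    set Db : Subgroup (Hol W) := Subgroup.closure {x | x ∈ Hb ∧ Odd (orderOf x)} with hDb
    have hDbH : Db ≤ Hb := by
      rw [hDb, Subgroup.closure_le]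
      rintro x ⟨hx, -⟩
      exact hx
    -- `Db` is commutative
    have hcomm : ∀ x ∈ Db, ∀ y ∈ Db, x * y = y * x := by
      have hgen : ∀ x ∈ {x | x ∈ Hb ∧ Odd (orderOf x)}, ∀ y ∈ {x | x ∈ Hb ∧ Odd (orderOf x)},
          x * y = y * x := by
        rintro x ⟨hxH, hxo⟩ y ⟨hyH, hyo⟩
        have := commute_of_odd c ⟨x, hxH⟩ ⟨y, hyH⟩ (by rwa [Subgroup.orderOf_mk])
          (by rwa [Subgroup.orderOf_mk])
        exact congrArg Subtype.val this
      intro x hx y hy
      have hcg := Subgroup.isMulCommutative_closure hgen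
      have := hcg.is_comm.comm ⟨x, hx⟩ ⟨y, hy⟩
      exact congrArg Subtype.val this
    -- `Db` is normalized by the image of `Λ`
    have hJn : (Jk 2 Λ).Normal := inferInstance
    have hnorm : ∀ g : Λ, ∀ x ∈ Db, φ g * x * (φ g)⁻¹ ∈ Db := by
      intro g x hx
      have hle : Db ≤ Db.comap (MulAut.conj (φ g)).toMonoidHom := by
        rw [hDb, Subgroup.closure_le]
        rintro y ⟨hyH, hyo⟩
        rw [SetLike.mem_coe, Subgroup.mem_comap]
        apply Subgroup.subset_closure
        refine ⟨?_, ?_⟩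
        · obtain ⟨j, hj, rfl⟩ := hyH
          refine ⟨g * j * g⁻¹, hJn.conj_mem j hj g, ?_⟩
          simp [MulAut.conj_apply]
        · have : orderOf ((MulAut.conj (φ g)).toMonoidHom y) = orderOf y := by
            simp only [MulEquiv.toMonoidHom_eq_coe, MonoidHom.coe_coe]
            exact MulEquiv.orderOf_eq _ y
          rw [this]; exact hyo
      have := hle hx
      simpa [Subgroup.mem_comap, MulAut.conj_apply] using this
    refine ⟨Db.comap φ, ⟨fun n hn g => ?_⟩, ?_, ?_, ?_⟩
    · rw [Subgroup.mem_comap] at hn ⊢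
      rw [map_mul, map_mul, map_inv]
      exact hnorm g _ hn
    · intro x hx
      rw [Subgroup.mem_comap]
      have : x ∈ φ.ker := by rw [hφ, holHom_ker]; exact hx
      rw [MonoidHom.mem_ker] at this
      rw [this]; exact Subgroup.one_mem _
    · rw [Subgroup.commutator_le]
      intro x hx y hy
      have : ⁅x, y⁆ ∈ φ.ker := by
        rw [MonoidHom.mem_ker, commutatorElement_def, map_mul, map_mul, map_mul, map_inv, map_inv]
        have := hcomm _ hx _ hy
        calc φ x * φ y * (φ x)⁻¹ * (φ y)⁻¹ = (φ x * φ y) * (φ x)⁻¹ * (φ y)⁻¹ := by group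
          _ = (φ y * φ x) * (φ x)⁻¹ * (φ y)⁻¹ := by rw [this]
          _ = 1 := by group
      rwa [hφ, holHom_ker] at this
    · intro g hg hodd
      rw [Subgroup.mem_comap]
      apply Subgroup.subset_closure
      exact ⟨Subgroup.mem_map_of_mem _ hg, Odd.of_dvd_nat hodd (orderOf_map_dvd _ g)⟩

end Main

end Cfsg.Agent.Lib.Helper49.JC
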