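import Cfsg.Agent.Lib.Helper49.JC.Struct
import Cfsg.Agent.Lib.Helper49.JC.OddCore
import Cfsg.Agent.Lib.Helper49.TF109

/-!
# Members `L` of `𝓛(T)` (`jOvergroups T`): transfer to the abstract group `↥L`

`L` is solvable, `2`-solvable with `O_{2'}(L) = 1`; `C_L(Ω₁Z(T)) ≤ N_G(T)` (from the ZN-hypothesis);
`J(T) ≤ J(L)`; `C_L(W) ≤ N_G(T)` for `W = ⟨Ω₁Z(S) : S ∈ Syl₂ L⟩`.
-/

set_option autoImplicit false
set_option linter.unusedSectionVars false

namespace Cfsg.Agent.Lib.Helper49.JC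

open Cfsg Cfsg.Agent.Lib.Helper49 Cfsg.Agent.Lib.Helper97 Cfsg.Agent.Lib.Helper33
  Cfsg.Agent.Lib.Helper47 Cfsg.Agent.Lib.Helper49.FF620
open scoped commutatorElement

universe u

variable {G : Type u} [Group G]

theorem isPGroup_of_isElementaryAbelian {p : ℕ} {A : Subgroup G} (hA : IsElementaryAbelian p A) :
    IsPGroup p ↥A := by
  intro a
  refine ⟨1, ?_⟩
  apply Subtype.ext
  simpa using hA.2 a a.2

section Over

variable [Finite G] {T L : Subgroup G}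

theorem sylIn_of_mem (hLT : L ∈ jOvergroups T) : SylIn 2 T L := isSylowTwoIn_iff_sylIn.mp hLT.1

/-- `O₂(L) ≤ T` for a Sylow 2-subgroup `T` of `L`. -/
theorem pCoreOf_le_of_sylIn (h : SylIn 2 T L) : pCoreOf 2 L ≤ T := by
  have : Fact (Nat.Prime 2) := ⟨Nat.prime_two⟩
  obtain ⟨x, hx, hle⟩ := h.exists_cj_le (pCoreOf_le 2 L) (pCoreOf_isPGroup 2 L)
  have hxN : x ∈ Subgroup.normalizer ((pCoreOf 2 L : Subgroup G) : Set G) :=
    normalizer_le_normalizer_pCoreOf 2 L (Subgroup.le_normalizer hx)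
  rwa [cj_eq_self_of_mem_normalizer hxN] at hle

theorem pCoreOf_ne_bot (hLT : L ∈ jOvergroups T) (hT1 : T ≠ ⊥) : pCoreOf 2 L ≠ ⊥ := by
  intro h
  apply hT1
  have h1 := hLT.2.2
  rw [h] at h1
  rw [eq_bot_iff]
  intro t _
  apply h1
  apply Subgroup.mem_centralizer_iff.mpr
  intro y hy
  rw [SetLike.mem_coe, Subgroup.mem_bot] at hy
  rw [hy]; simp

/-- `L ∈ 𝓛(T)` is solvable when all 2-locals are. -/
theorem isSolvable_of_mem (hN : ∀ N : Subgroup G, IsTwoLocal N → Group.IsSolvable ↥N)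
    (hLT : L ∈ jOvergroups T) (hT1 : T ≠ ⊥) : Group.IsSolvable ↥L := by
  have h2 : IsTwoLocal (Subgroup.normalizer ((pCoreOf 2 L : Subgroup G) : Set G)) :=
    ⟨pCoreOf 2 L, pCoreOf_isPGroup 2 L, pCoreOf_ne_bot hLT hT1, rfl⟩
  have hsol := hN _ h2
  have hle : L ≤ Subgroup.normalizer ((pCoreOf 2 L : Subgroup G) : Set G) :=
    Subgroup.le_normalizer.trans (normalizer_le_normalizer_pCoreOf 2 L)
  exact Group.isSolvable_of_isSolvable_injective (Subgroup.inclusion_injective hle)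

theorem isPSolvable_of_mem (hN : ∀ N : Subgroup G, IsTwoLocal N → Group.IsSolvable ↥N)
    (hLT : L ∈ jOvergroups T) (hT1 : T ≠ ⊥) : IsPSolvable 2 ↥L := by
  have : Fact (Nat.Prime 2) := ⟨Nat.prime_two⟩
  have := isSolvable_of_mem hN hLT hT1
  exact TF109.isPSolvable_of_isSolvable' 2 _ ↥L rfl

/-- `O_{2'}(L) = 1`. -/
theorem pPrimeCore_eq_bot_of_mem (hLT : L ∈ jOvergroups T) : pPrimeCore 2 ↥L = ⊥ := by
  have : Fact (Nat.Prime 2) := ⟨Nat.prime_two⟩
  unfold pPrimeCore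
  rw [eq_bot_iff]
  apply sSup_le
  rintro N ⟨hNn, hNc⟩
  have hQc := pCore_characteristic 2 ↥L
  have hQn : (pCore 2 ↥L).Normal := inferInstance
  have hQp : IsPGroup 2 ↥(pCore 2 ↥L) := pCore_isPGroup 2 ↥L
  have hdis : Disjoint N (pCore 2 ↥L) := by
    apply Subgroup.disjoint_of_coprime_natCard
    obtain ⟨k, hk⟩ := hQp.exists_card_eq
    rw [hk]
    exact Nat.Coprime.pow_right k hNc
  have hcomm : ∀ n ∈ N, ∀ q ∈ pCore 2 ↥L, n * q = q * n := fun n hn q hq =>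
    (Subgroup.commute_of_normal_of_disjoint N (pCore 2 ↥L) hNn hQn hdis n q hn hq)
  intro n hn
  have h1 : (n : G) ∈ Subgroup.centralizer ((pCoreOf 2 L : Subgroup G) : Set G) := by
    apply Subgroup.mem_centralizer_iff.mpr
    rintro _ ⟨q, hq, rfl⟩
    have := hcomm n hn q hq
    exact (congrArg Subtype.val this).symm
  have h2 := hLT.2.2 h1
  obtain ⟨q, hq, hqn⟩ := h2
  have hnq : q = n := Subtype.ext hqn
  rw [hnq] at hq
  have : n ∈ N ⊓ pCore 2 ↥L := ⟨hn, hq⟩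
  rwa [disjoint_iff.mp hdis] at this

/-- `Ω₁Z(S) ≤ Ω₁Z(T)` for a Sylow 2-subgroup `S ≥ T` of `G`. -/
theorem omegaCenterOf_sylow_le (hLT : L ∈ jOvergroups T) {S : Subgroup G} (hTS : T ≤ S) :
    omegaCenterOf S ≤ omegaCenterOf T := by
  intro x hx
  obtain ⟨-, h2, h3⟩ := mem_omegaCenterOf_iff.mp hx
  have hQT := pCoreOf_le_of_sylIn (sylIn_of_mem hLT)
  have h4 : x ∈ Subgroup.centralizer ((pCoreOf 2 L : Subgroup G) : Set G) :=
    Subgroup.centralizer_le (hQT.trans hTS) h2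
  exact mem_omegaCenterOf_iff.mpr ⟨hQT (hLT.2.2 h4), Subgroup.centralizer_le hTS h2, h3⟩

/-- `C_L(Ω₁Z(T)) ≤ N_G(T)`. -/
theorem inf_centralizer_omegaCenterOf_le_normalizer
    (hZ : ∀ S : Sylow 2 G, Subgroup.centralizer (omegaCenterOf (S : Subgroup G) : Set G) ≤
      Subgroup.normalizer ((S : Subgroup G) : Set G))
    (hLT : L ∈ jOvergroups T) :
    L ⊓ Subgroup.centralizer ((omegaCenterOf T : Subgroup G) : Set G) ≤
      Subgroup.normalizer (T : Set G) := by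
  have : Fact (Nat.Prime 2) := ⟨Nat.prime_two⟩
  have hsyl := sylIn_of_mem hLT
  obtain ⟨S, hTS⟩ := hsyl.isPGroup.exists_le_sylow
  -- `S ⊓ L = T`
  have hSL : (S : Subgroup G) ⊓ L = T :=
    hsyl.eq_of_le inf_le_right (S.isPGroup'.to_le inf_le_left) (le_inf hTS hsyl.le)
  apply le_normalizer_of_forall_conj_mem
  rintro g ⟨hgL, hgC⟩ x hx
  have hgS : g ∈ Subgroup.normalizer ((S : Subgroup G) : Set G) :=
    hZ S (Subgroup.centralizer_le (omegaCenterOf_sylow_le hLT hTS) hgC)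
  rw [← hSL]
  exact ⟨conj_mem_of_mem_normalizer hgS (hTS hx),
    L.mul_mem (L.mul_mem hgL (hsyl.le hx)) (L.inv_mem hgL)⟩

/-- `Ω₁Z(T)` (as a subgroup of `↥L`) lies in `W = ⟨Ω₁Z(S) : S ∈ Syl₂ L⟩`. -/
theorem omegaCenterOf_subgroupOf_le_Wk (hLT : L ∈ jOvergroups T) :
    (omegaCenterOf T).subgroupOf L ≤ Wk 2 ↥L := by
  have : Fact (Nat.Prime 2) := ⟨Nat.prime_two⟩
  have hsyl := sylIn_of_mem hLT
  intro x hx
  rw [Subgroup.mem_subgroupOf] at hx
  obtain ⟨h1, h2, h3⟩ := mem_omegaCenterOf_iff.mp hx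
  refine le_iSup (fun S : Sylow 2 ↥L => omegaOne 2 (Cfsg.Agent.S0601.zOf (S : Subgroup ↥L)))
    hsyl.toSylow ?_
  apply Subgroup.subset_closure
  refine ⟨⟨?_, ?_⟩, ?_⟩
  · show x ∈ T.subgroupOf L
    rw [Subgroup.mem_subgroupOf]; exact h1
  · apply Subgroup.mem_centralizer_iff.mpr
    intro y hy
    replace hy : y ∈ T.subgroupOf L := hy
    rw [Subgroup.mem_subgroupOf] at hy
    apply Subtype.ext
    exact Subgroup.mem_centralizer_iff.mp h2 y hy
  · apply Subtype.ext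
    simpa using h3

/-- `C_L(W) ≤ N_G(T)`. -/
theorem centralizer_Wk_le_normalizer
    (hZ : ∀ S : Sylow 2 G, Subgroup.centralizer (omegaCenterOf (S : Subgroup G) : Set G) ≤
      Subgroup.normalizer ((S : Subgroup G) : Set G))
    (hLT : L ∈ jOvergroups T) :
    (Subgroup.centralizer ((Wk 2 ↥L : Subgroup ↥L) : Set ↥L)).map L.subtype ≤
      Subgroup.normalizer (T : Set G) := by
  rintro _ ⟨c, hc, rfl⟩
  apply inf_centralizer_omegaCenterOf_le_normalizer hZ hLT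
  refine ⟨c.2, ?_⟩
  apply Subgroup.mem_centralizer_iff.mpr
  intro z hz
  have hzL : z ∈ L := (sylIn_of_mem hLT).le ((mem_omegaCenterOf_iff.mp hz).1)
  have hz' : (⟨z, hzL⟩ : ↥L) ∈ Wk 2 ↥L :=
    omegaCenterOf_subgroupOf_le_Wk hLT (Subgroup.mem_subgroupOf.mpr hz)
  have := Subgroup.mem_centralizer_iff.mp hc _ hz'
  exact congrArg Subtype.val this

/-- members of `𝒜(T)` are elementary abelian subgroups of largest order of `↥L`. -/
theorem subgroupOf_mem_maxElementaryAbelianSubgroups (h : SylIn 2 T L) {A : Subgroup G}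
    (hA : A ∈ maxEAOf 2 T) : A.subgroupOf L ∈ maxElementaryAbelianSubgroups 2 ↥L := by
  have : Fact (Nat.Prime 2) := ⟨Nat.prime_two⟩
  refine ⟨isElementaryAbelian_subgroupOf L hA.2.1, fun B hB => ?_⟩
  have hB' : IsElementaryAbelian 2 (B.map L.subtype) := isElementaryAbelian_map _ hB
  obtain ⟨x, hx, hle⟩ := h.exists_cj_le (Subgroup.map_subtype_le B) (isPGroup_of_isElementaryAbelian hB')
  have h1 := hA.2.2 _ hle (isElementaryAbelian_map _ hB')
  rw [card_cj, Subgroup.card_map_of_injective L.subtype_injective] at h1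
  have h2 : Nat.card ↥(A.subgroupOf L) = Nat.card ↥A := by
    rw [← Subgroup.card_map_of_injective L.subtype_injective, Subgroup.subgroupOf_map_subtype,
      inf_of_le_left (hA.1.trans h.le)]
  rw [h2]; exact h1

/-- `J(T) ≤ J(L)`. -/
theorem thompsonSubgroupOf_le_map_Jk (h : SylIn 2 T L) :
    thompsonSubgroupOf 2 T ≤ (Jk 2 ↥L).map L.subtype := by
  apply thompsonSubgroupOf_le_of_forall
  intro A hA
  have h1 : A.subgroupOf L ≤ Jk 2 ↥L := le_sSup (subgroupOf_mem_maxElementaryAbelianSubgroups h hA)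
  have h2 := Subgroup.map_mono (f := L.subtype) h1
  rwa [Subgroup.subgroupOf_map_subtype, inf_of_le_left (hA.1.trans h.le)] at h2

end Over

end Cfsg.Agent.Lib.Helper49.JC
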