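import Cfsg.Agent.Lib.Helper49.JC.Replace
import Cfsg.Agent.Lib.Helper97.Frattini

/-!
# `Ω₁(Z(J(T)))` splits as `(Z₀ ∩ Z(KJ)) × (Z₀ ∩ W_K)` for a `J(T)`-component `K`
-/

set_option autoImplicit false
set_option linter.unusedSectionVars false
set_option maxHeartbeats 1000000

namespace Cfsg.Agent.Lib.Helper49.JC

open Cfsg Cfsg.Agent.Lib.Helper49 Cfsg.Agent.Lib.Helper97 Cfsg.Agent.Lib.Helper33
open scoped commutatorElement

universe u

variable {G : Type u} [Group G] [Finite G] {T K : Subgroup G}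

/-- **S2946**, abstract form. -/
theorem split (hT : IsPGroup 2 T) (hK : IsJComponent T K) :
    Nat.card ↥(omegaCenterOf (thompsonSubgroupOf 2 T) ⊓ wOf K) = 2 ∧
      (omegaCenterOf (thompsonSubgroupOf 2 T) ⊓ ((K ⊔ thompsonSubgroupOf 2 T) ⊓
        Subgroup.centralizer ((K ⊔ thompsonSubgroupOf 2 T : Subgroup G) : Set G))) ⊔
        (omegaCenterOf (thompsonSubgroupOf 2 T) ⊓ wOf K) = omegaCenterOf (thompsonSubgroupOf 2 T) := by
  have : Fact (Nat.Prime 2) := ⟨Nat.prime_two⟩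
  set J := thompsonSubgroupOf 2 T with hJ
  set W := wOf K with hWdef
  set R := pCoreOf 2 K with hRdef
  set X := K ⊔ J with hX
  set Z₀ := omegaCenterOf J with hZ₀
  set CW := Subgroup.centralizer ((W : Subgroup G) : Set G) with hCW
  have hW : IsFour W := isFour_wOf hK
  obtain ⟨S, hS', hJS', hJeq'⟩ := exists_sylow hT hK
  have hS : IsSylowTwoIn S X := hS'
  have hJS : J ≤ S := hJS'
  have hJeq : thompsonSubgroupOf 2 S = J := hJeq'
  have hSX : S ≤ X := hS.1
  have hSp : IsPGroup 2 S := hS.2.1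
  have hXW : X ≤ Subgroup.normalizer ((W : Subgroup G) : Set G) := sup_le_normalizer_wOf hK
  have hSW : S ≤ Subgroup.normalizer ((W : Subgroup G) : Set G) := hSX.trans hXW
  have hRS : R ≤ S := pCoreOf_le_sylow' hT hK hS
  have hWR : W ≤ R := wOf_le_pCoreOf K
  have hWS : W ≤ S := hWR.trans hRS
  have hQS : X ⊓ CW ≤ S := inf_centralizer_le_sylow hT hK hS
  have hXQ : X ≤ Subgroup.normalizer ((X ⊓ CW : Subgroup G) : Set G) :=
    sup_le_normalizer_inf_centralizer hK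
  -- W ≤ J
  have hWJ : W ≤ J := by
    rw [← hJeq]; exact four_le_thompsonSubgroupOf hW hWS hSW hSp
  have hZ₀J : Z₀ ≤ J := omegaCenterOf_le J
  have hZ₀cen : ∀ z ∈ Z₀, ∀ j ∈ J, j * z = z * j := fun z hz j hj =>
    Subgroup.mem_centralizer_iff.mp (omegaCenterOf_le_centralizer J hz) j hj
  have hJX : J ≤ X := le_sup_right
  have hKX : K ≤ X := le_sup_left
  -- S normalizes Z₀
  have hSZ₀ : ∀ s ∈ S, ∀ z ∈ Z₀, s * z * s⁻¹ ∈ Z₀ := by
    intro s hs z hz
    have h1 : s ∈ Subgroup.normalizer ((J : Subgroup G) : Set G) := by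
      rw [← hJeq]
      exact normalizer_le_normalizer_thompsonSubgroupOf 2 S (Subgroup.le_normalizer hs)
    exact conj_mem_omegaCenterOf h1 hz
  -- a fixed point of S on W
  obtain ⟨w₀, hw₀, h0, hfix⟩ := hW.exists_fixed S hSp
    (fun x hx w hw => conj_mem_of_mem_normalizer (hSW hx) hw)
  -- some A ∈ 𝒜(S) does not centralize W
  have hexA : ∃ A ∈ maxEAOf 2 S, ¬ A ≤ CW := by
    by_contra hcon
    push Not at hcon
    have hJC : J ≤ CW := by
      rw [← hJeq]; exact thompsonSubgroupOf_le_of_forall hcon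
    apply not_le_centralizer_wOf hK
    have hcomm : ⁅K, J⁆ ≤ CW := by
      rw [Subgroup.commutator_le]
      intro k hk j hj
      have hkN : k ∈ Subgroup.normalizer ((CW : Subgroup G) : Set G) :=
        normalizer_le_normalizer_centralizer _ (hXW (hKX hk))
      have h1 : k * j * k⁻¹ ∈ CW := conj_mem_of_mem_normalizer hkN (hJC hj)
      have h2 : ⁅k, j⁆ = (k * j * k⁻¹) * j⁻¹ := by rw [commutatorElement_def]
      rw [h2]
      exact CW.mul_mem h1 (CW.inv_mem (hJC hj))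
    rw [hK.2.1] at hcomm
    exact hcomm
  obtain ⟨A, hA, hAn⟩ := hexA
  obtain ⟨a, haA, haC⟩ := SetLike.not_le_iff_exists.mp hAn
  have haS : a ∈ S := hA.1 haA
  have haJ : a ∈ J := by rw [← hJeq]; exact le_thompsonSubgroupOf hA haA
  have haX : a ∈ X := hJX haJ
  have haa : a * a = 1 := by
    have := hA.2.1.2 a haA
    rwa [pow_two] at this
  have hai : a⁻¹ = a := inv_eq_of_mul_eq_one_left haa
  have haW : ∀ w ∈ W, a * w * a⁻¹ ∈ W := fun w hw => conj_mem_of_mem_normalizer (hSW haS) hw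
  have hafix : a * w₀ * a⁻¹ = w₀ := hfix a haS
  -- C_W(a) = {1, w₀}
  have hCa : ∀ v ∈ W, a * v * a⁻¹ = v → v = 1 ∨ v = w₀ := by
    intro v hv hav
    by_contra hcon
    push Not at hcon
    apply haC
    rw [hCW, mem_centralizer_iff_conj]
    intro w hw
    exact hW.centralizes_of_fix hw₀ h0 hv hcon.1 hcon.2 hafix hav hw
  -- w₀ ∈ Z₀
  have hw₀Z : w₀ ∈ Z₀ := by
    rw [hZ₀, mem_omegaCenterOf_iff]
    refine ⟨hWJ hw₀, ?_, by rw [pow_two]; exact hW.sq w₀ hw₀⟩
    apply Subgroup.mem_centralizer_iff.mpr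
    intro j hj
    have := hfix j (hJS hj)
    calc j * w₀ = (j * w₀ * j⁻¹) * j := by group
      _ = w₀ * j := by rw [this]
  -- first claim
  have hinf : Z₀ ⊓ W = Subgroup.zpowers w₀ := by
    apply le_antisymm
    · intro z hz
      have hza : a * z * a⁻¹ = z := by
        rw [hZ₀cen z hz.1 a haJ]; group
      rcases hCa z hz.2 hza with h | h
      · rw [h]; exact Subgroup.one_mem _
      · rw [h]; exact Subgroup.mem_zpowers _
    · rw [Subgroup.zpowers_le]
      exact ⟨hw₀Z, hw₀⟩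
  have hclaim1 : Nat.card ↥(Z₀ ⊓ W) = 2 := by
    rw [hinf, Nat.card_zpowers, hW.orderOf_eq_two hw₀ h0]
  refine ⟨hclaim1, ?_⟩
  -- the replacement B
  set B := (A ⊓ CW) ⊔ W with hB
  have hBmem : B ∈ maxEAOf 2 S := replace_mem hW hWS hSW hSp hA hAn
  have hBQ : B ≤ X ⊓ CW := by
    apply sup_le
    · exact inf_le_inf_right _ (hA.1.trans hSX)
    · exact le_inf (hWS.trans hSX) (hWR.trans (pCoreOf_le_centralizer_wOf K))
  -- conjugates of Z₀ lie in B
  have hconjB : ∀ x ∈ X, ∀ z ∈ Z₀, x * z * x⁻¹ ∈ B := by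
    intro x hx z hz
    have hx' : x⁻¹ ∈ X := X.inv_mem hx
    have h1 : cj x⁻¹ B ≤ S := by
      refine le_trans (cj_mono hBQ) ?_
      rw [cj_eq_self_of_mem_normalizer (hXQ hx')]
      exact hQS
    have h2 : cj x⁻¹ B ∈ maxEAOf 2 S := map_conj_mem_maxEAOf hBmem x⁻¹ h1
    have h3 : z ∈ cj x⁻¹ B := by
      have := omegaCenterOf_le_of_mem_maxEAOf h2
      rw [hJeq] at this
      exact this hz
    rw [mem_cj] at h3
    simpa using h3
  -- a moves conjugates of Z₀ at most by w₀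
  have hconj_a : ∀ x ∈ X, ∀ z ∈ Z₀,
      a * (x * z * x⁻¹) * a⁻¹ = x * z * x⁻¹ ∨ a * (x * z * x⁻¹) * a⁻¹ = (x * z * x⁻¹) * w₀ := by
    intro x hx z hz
    have hu := hconjB x hx z hz
    have hnorm : A ⊓ CW ≤ Subgroup.normalizer ((W : Subgroup G) : Set G) :=
      (inf_le_left.trans hA.1).trans hSW
    obtain ⟨a₀, ha₀, w, hw, huw⟩ := exists_mul_of_mem_sup hnorm hu
    have hcomm : a * a₀ = a₀ * a := by
      have := hA.2.1.1.is_comm.comm ⟨a, haA⟩ ⟨a₀, ha₀.1⟩
      exact congrArg Subtype.val this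
    have h1 : a * (a₀ * w) * a⁻¹ = a₀ * (a * w * a⁻¹) := by
      calc a * (a₀ * w) * a⁻¹ = (a * a₀) * w * a⁻¹ := by group
        _ = (a₀ * a) * w * a⁻¹ := by rw [hcomm]
        _ = a₀ * (a * w * a⁻¹) := by group
    rw [huw, h1]
    rcases hW.conj_eq_or hw₀ h0 haW hafix hw with h | h
    · left; rw [h]
    · right; rw [h]; group
  -- an element of K ∖ R inverted by a
  have hexd₀ : ∃ d₀ ∈ K, d₀ ∉ R := by
    by_contra hcon
    push Not at hcon
    have hKR : K ≤ R := hcon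
    have := hK.2.2.1
    rw [Subgroup.relIndex_eq_one.mpr hKR] at this
    norm_num at this
  obtain ⟨d₀, hd₀K, hd₀R⟩ := hexd₀
  have haNK : a ∈ Subgroup.normalizer ((K : Subgroup G) : Set G) := J_le_normalizer hK haJ
  set d := (a * d₀ * a⁻¹) * d₀⁻¹ with hd
  have hdK : d ∈ K := K.mul_mem (conj_mem_of_mem_normalizer haNK hd₀K) (K.inv_mem hd₀K)
  have hd₀X : d₀ ∈ X := hKX hd₀K
  have hdR : d ∉ R := by
    intro hdR
    have hdC : d ∈ CW := pCoreOf_le_centralizer_wOf K hdR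
    set v := d₀ * w₀ * d₀⁻¹ with hv
    have hvW : v ∈ W := conj_mem_of_mem_normalizer (hXW hd₀X) hw₀
    have hav : a * v * a⁻¹ = v := by
      have h1 : a * v * a⁻¹ = (d * d₀) * (a * w₀ * a⁻¹) * (d * d₀)⁻¹ := by
        rw [hv, hd]; group
      rw [h1, hafix]
      have h2 : (d * d₀) * w₀ * (d * d₀)⁻¹ = d * v * d⁻¹ := by rw [hv]; group
      rw [h2]
      exact mem_centralizer_iff_conj.mp hdC v hvW
    rcases hCa v hvW hav with h | h
    · apply h0
      have : w₀ = d₀⁻¹ * v * d₀ := by rw [hv]; group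
      rw [this, h]; group
    · exact h0 (eq_one_of_conj_eq hK hd₀K hd₀R hw₀ h)
  have hinv : a * d * a⁻¹ = d⁻¹ := by
    calc a * d * a⁻¹ = (a * a) * d₀ * a⁻¹ * d₀⁻¹ * a⁻¹ := by rw [hd]; group
      _ = d₀ * a⁻¹ * d₀⁻¹ * a⁻¹ := by rw [haa, one_mul]
      _ = d₀ * a * d₀⁻¹ * a⁻¹ := by rw [hai]
      _ = d⁻¹ := by rw [hd]; group
  have hdX : d ∈ X := hKX hdK
  -- d moves conjugates of Z₀ by elements of W
  have hconj_d : ∀ x ∈ X, ∀ z ∈ Z₀, ∃ w ∈ W, d * (x * z * x⁻¹) * d⁻¹ = (x * z * x⁻¹) * w := by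
    intro x hx z hz
    set u := x * z * x⁻¹ with hu
    -- a' = d₀ a⁻¹ d₀⁻¹
    have hx2 : d₀⁻¹ * x ∈ X := X.mul_mem (X.inv_mem hd₀X) hx
    have h1 := hconj_a (d₀⁻¹ * x) hx2 z hz
    have hu' : (d₀⁻¹ * x) * z * (d₀⁻¹ * x)⁻¹ = d₀⁻¹ * u * d₀ := by rw [hu]; group
    rw [hu'] at h1
    have h2 := hconj_a x hx z hz
    rw [← hu] at h2
    have hd' : d = a * (d₀ * a⁻¹ * d₀⁻¹) := by rw [hd]; group
    -- first conjugate by a' = d₀ a⁻¹ d₀⁻¹ = d₀ a d₀⁻¹
    have h3 : ∃ c ∈ W, (d₀ * a⁻¹ * d₀⁻¹) * u * (d₀ * a⁻¹ * d₀⁻¹)⁻¹ = u * c := by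
      have e1 : (d₀ * a⁻¹ * d₀⁻¹) * u * (d₀ * a⁻¹ * d₀⁻¹)⁻¹ =
          d₀ * (a⁻¹ * (d₀⁻¹ * u * d₀) * a) * d₀⁻¹ := by group
      have e2 : a⁻¹ * (d₀⁻¹ * u * d₀) * a = a * (d₀⁻¹ * u * d₀) * a⁻¹ := by rw [hai]
      rw [e1, e2]
      rcases h1 with h | h
      · refine ⟨1, W.one_mem, ?_⟩
        rw [h]; group
      · refine ⟨d₀ * w₀ * d₀⁻¹, conj_mem_of_mem_normalizer (hXW hd₀X) hw₀, ?_⟩
        rw [h]; group
    obtain ⟨c, hc, hc'⟩ := h3
    have h4 : d * u * d⁻¹ = a * ((d₀ * a⁻¹ * d₀⁻¹) * u * (d₀ * a⁻¹ * d₀⁻¹)⁻¹) * a⁻¹ := by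
      rw [hd']; group
    rw [h4, hc']
    have h5 : a * (u * c) * a⁻¹ = (a * u * a⁻¹) * (a * c * a⁻¹) := by group
    rw [h5]
    rcases h2 with h | h
    · exact ⟨a * c * a⁻¹, haW c hc, by rw [h]⟩
    · exact ⟨w₀ * (a * c * a⁻¹), W.mul_mem hw₀ (haW c hc), by rw [h]; group⟩
  -- d³ centralizes W
  have hd3 : ∀ w ∈ W, (d * d * d) * w * (d * d * d)⁻¹ = w := by
    intro w hw
    have hddd : d ^ 3 = d * d * d := by rw [pow_succ, pow_two]
    rw [← hddd]
    exact mem_centralizer_iff_conj.mp (pCoreOf_le_centralizer_wOf K (pow_three_mem hK hdK)) w hw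
  have hdW : ∀ w ∈ W, d * w * d⁻¹ ∈ W := fun w hw => conj_mem_of_mem_normalizer (hXW hdX) hw
  -- key dichotomy
  have hkey : ∀ z ∈ Z₀, d * z * d⁻¹ = z ∨ d * (z * w₀) * d⁻¹ = z * w₀ := by
    intro z hz
    obtain ⟨w, hw, hzw⟩ := hconj_d 1 X.one_mem z hz
    simp only [one_mul, inv_one, mul_one] at hzw
    -- z commutes with W
    have hzW : ∀ v ∈ W, z * v = v * z := fun v hv => (hZ₀cen z hz v (hWJ hv)).symm
    have hza : a * z * a⁻¹ = z := by
      rw [hZ₀cen z hz a haJ]; group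
    -- d⁻¹ z d in two ways
    have e1 : d⁻¹ * z * d = z * (a * w * a⁻¹) := by
      have h1 : a * (d * z * d⁻¹) * a⁻¹ = (a * d * a⁻¹) * (a * z * a⁻¹) * (a * d * a⁻¹)⁻¹ := by group
      have h2 : a * (z * w) * a⁻¹ = (a * z * a⁻¹) * (a * w * a⁻¹) := by group
      rw [hzw, h2, hinv, hza, inv_inv] at h1
      exact h1.symm
    have e2 : d⁻¹ * z * d = z * (d⁻¹ * w * d)⁻¹ := by
      have h1 : z = d⁻¹ * (d * z * d⁻¹) * d := by group
      have h2 : d⁻¹ * (z * w) * d = (d⁻¹ * z * d) * (d⁻¹ * w * d) := by group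
      rw [hzw, h2] at h1
      calc d⁻¹ * z * d = (d⁻¹ * z * d * (d⁻¹ * w * d)) * (d⁻¹ * w * d)⁻¹ := by group
        _ = z * (d⁻¹ * w * d)⁻¹ := by rw [← h1]
    have e3 : a * w * a⁻¹ = (d⁻¹ * w * d)⁻¹ := mul_left_cancel (e1.symm.trans e2)
    have hdiw : d⁻¹ * w * d ∈ W := conj_inv_mem_of_mem_normalizer (hXW hdX) hw
    rw [hW.inv_eq hdiw] at e3
    -- v = d w d⁻¹ is fixed by a
    set v := d * w * d⁻¹ with hv
    have hvW : v ∈ W := hdW w hw
    have hav : a * v * a⁻¹ = v := by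
      have h1 : a * v * a⁻¹ = (a * d * a⁻¹) * (a * w * a⁻¹) * (a * d * a⁻¹)⁻¹ := by rw [hv]; group
      rw [h1, hinv, e3]
      have h2 : d⁻¹ * (d⁻¹ * w * d) * d⁻¹⁻¹ = (d * d * d)⁻¹ * v * (d * d * d) := by
        rw [hv]; group
      rw [h2]
      calc (d * d * d)⁻¹ * v * (d * d * d)
          = (d * d * d)⁻¹ * ((d * d * d) * v * (d * d * d)⁻¹) * (d * d * d) := by rw [hd3 v hvW]
        _ = v := by group
    rcases hCa v hvW hav with h | h
    · left
      have hw1 : w = 1 := by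
        have : w = d⁻¹ * v * d := by rw [hv]; group
        rw [this, h]; group
      rw [hzw, hw1, mul_one]
    · right
      -- norm relation
      have hw' : w = d⁻¹ * w₀ * d := by
        have : w = d⁻¹ * v * d := by rw [hv]; group
        rw [this, h]
      set n := w₀ * (d * w₀ * d⁻¹) * w with hn
      have hdw₀ : d * w₀ * d⁻¹ ∈ W := hdW w₀ hw₀
      have hnW : n ∈ W := W.mul_mem (W.mul_mem hw₀ hdw₀) hw
      have hnfix : d * n * d⁻¹ = n := by
        have h1 : d * n * d⁻¹ = (d * w₀ * d⁻¹) * (d * (d * w₀ * d⁻¹) * d⁻¹) * (d * w * d⁻¹) := by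
          rw [hn]; group
        have h2 : d * (d * w₀ * d⁻¹) * d⁻¹ = w := by
          rw [hw']
          have h3 := hd3 w₀ hw₀
          calc d * (d * w₀ * d⁻¹) * d⁻¹ = d⁻¹ * ((d * d * d) * w₀ * (d * d * d)⁻¹) * d := by group
            _ = d⁻¹ * w₀ * d := by rw [h3]
        rw [h1, h2, ← hv, h, hn]
        rw [hW.comm (W.mul_mem hdw₀ hw) hw₀]
        group
      have hn1 : n = 1 := eq_one_of_conj_eq hK hdK hdR hnW hnfix
      have h6 : (d * w₀ * d⁻¹) * w = w₀ := by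
        have : w₀ * ((d * w₀ * d⁻¹) * w) = 1 := by rw [← mul_assoc, ← hn, hn1]
        have h7 : (d * w₀ * d⁻¹) * w = w₀⁻¹ := (inv_eq_of_mul_eq_one_right this).symm
        rw [h7, hW.inv_eq hw₀]
      have h8 : d * (z * w₀) * d⁻¹ = (d * z * d⁻¹) * (d * w₀ * d⁻¹) := by group
      rw [h8, hzw, mul_assoc, hW.comm hw hdw₀, h6]
  -- elements of Z₀ centralized by d are central in X
  have hcentral : ∀ z ∈ Z₀, d * z * d⁻¹ = z →
      z ∈ Subgroup.centralizer ((X : Subgroup G) : Set G) := by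
    intro z hz hdz
    have hdpow : ∀ i : ℕ, d ^ i * z * (d ^ i)⁻¹ = z := by
      intro i
      induction i with
      | zero => simp
      | succ i ih =>
        have : d ^ (i + 1) * z * (d ^ (i + 1))⁻¹ = d * (d ^ i * z * (d ^ i)⁻¹) * d⁻¹ := by
          rw [pow_succ']; group
        rw [this, ih, hdz]
    -- all X-conjugates of z lie in Z₀
    have hall : ∀ x ∈ X, x⁻¹ * z * x ∈ Z₀ := by
      intro x hx
      obtain ⟨i, s, hs, hxs⟩ := exists_pow_mul hT hK hS hJS hdK hdR hx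
      have h1 : x⁻¹ * z * x = s⁻¹ * ((d ^ i)⁻¹ * z * d ^ i) * s := by rw [hxs]; group
      have h2 : (d ^ i)⁻¹ * z * d ^ i = z := by
        have := hdpow i
        calc (d ^ i)⁻¹ * z * d ^ i = (d ^ i)⁻¹ * (d ^ i * z * (d ^ i)⁻¹) * d ^ i := by rw [this]
          _ = z := by group
      rw [h1, h2]
      have := hSZ₀ s⁻¹ (S.inv_mem hs) z hz
      simpa using this
    -- z centralizes K = [K, J]
    have hKz : K ≤ Subgroup.centralizer ({z} : Set G) := by
      have hcomm : ⁅K, J⁆ ≤ Subgroup.centralizer ({z} : Set G) := by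
        rw [Subgroup.commutator_le]
        intro k hk j hj
        apply Subgroup.mem_centralizer_singleton_iff.mpr
        have h1 : j * z = z * j := hZ₀cen z hz j hj
        have h2 : j * (k⁻¹ * z * k) = (k⁻¹ * z * k) * j := hZ₀cen _ (hall k (hKX hk)) j hj
        have h3 : (k * j * k⁻¹) * z = z * (k * j * k⁻¹) := by
          calc (k * j * k⁻¹) * z = k * (j * (k⁻¹ * z * k)) * k⁻¹ := by group
            _ = k * ((k⁻¹ * z * k) * j) * k⁻¹ := by rw [h2]
            _ = z * (k * j * k⁻¹) := by group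
        have h4 : j⁻¹ * z = z * j⁻¹ := by
          calc j⁻¹ * z = j⁻¹ * (z * j) * j⁻¹ := by group
            _ = j⁻¹ * (j * z) * j⁻¹ := by rw [h1]
            _ = z * j⁻¹ := by group
        rw [commutatorElement_def]
        calc (k * j * k⁻¹ * j⁻¹) * z = (k * j * k⁻¹) * (j⁻¹ * z) := by group
          _ = (k * j * k⁻¹) * (z * j⁻¹) := by rw [h4]
          _ = ((k * j * k⁻¹) * z) * j⁻¹ := by group
          _ = (z * (k * j * k⁻¹)) * j⁻¹ := by rw [h3]
          _ = z * (k * j * k⁻¹ * j⁻¹) := by group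
      rw [hK.2.1] at hcomm
      exact hcomm
    have hJz : J ≤ Subgroup.centralizer ({z} : Set G) := by
      intro j hj
      apply Subgroup.mem_centralizer_singleton_iff.mpr
      exact hZ₀cen z hz j hj
    have hXz : X ≤ Subgroup.centralizer ({z} : Set G) := sup_le hKz hJz
    apply Subgroup.mem_centralizer_iff.mpr
    intro x hx
    exact Subgroup.mem_centralizer_singleton_iff.mp (hXz hx)
  -- second claim
  apply le_antisymm
  · exact sup_le inf_le_left inf_le_left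
  · intro z hz
    rcases hkey z hz with h | h
    · apply Subgroup.mem_sup_left
      exact ⟨hz, hJX (hZ₀J hz), hcentral z hz h⟩
    · have hzw₀ : z * w₀ ∈ Z₀ := Z₀.mul_mem hz hw₀Z
      have h1 : z * w₀ ∈ Z₀ ⊓ (X ⊓ Subgroup.centralizer ((X : Subgroup G) : Set G)) :=
        ⟨hzw₀, hJX (hZ₀J hzw₀), hcentral _ hzw₀ h⟩
      have h2 : w₀ ∈ Z₀ ⊓ W := ⟨hw₀Z, hw₀⟩
      have h3 : z = (z * w₀) * w₀ := by
        rw [mul_assoc, hW.sq w₀ hw₀, mul_one]
      rw [h3]
      exact Subgroup.mul_mem_sup h1 h2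

/-- the centralizer of the union of two subgroups is the centralizer of their join. -/
theorem centralizer_sup_coe (K J : Subgroup G) :
    Subgroup.centralizer ((K : Set G) ⊔ (J : Set G)) =
      Subgroup.centralizer ((K ⊔ J : Subgroup G) : Set G) := by
  apply le_antisymm
  · intro x hx
    have hKx : K ≤ Subgroup.centralizer ({x} : Set G) := by
      intro k hk
      apply Subgroup.mem_centralizer_singleton_iff.mpr
      exact Subgroup.mem_centralizer_iff.mp hx k (Or.inl hk)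
    have hJx : J ≤ Subgroup.centralizer ({x} : Set G) := by
      intro j hj
      apply Subgroup.mem_centralizer_singleton_iff.mpr
      exact Subgroup.mem_centralizer_iff.mp hx j (Or.inr hj)
    apply Subgroup.mem_centralizer_iff.mpr
    intro y hy
    exact Subgroup.mem_centralizer_singleton_iff.mp (sup_le hKx hJx hy)
  · apply Subgroup.centralizer_le
    rintro y (hy | hy)
    · exact (le_sup_left : K ≤ K ⊔ J) hy
    · exact (le_sup_right : J ≤ K ⊔ J) hy

/-- **S2946** in the frozen form (centralizer of the union of the two carrier sets). -/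
theorem split' (hT : IsPGroup 2 T) (hK : IsJComponent T K) :
    Nat.card ↥(omegaCenterOf (thompsonSubgroupOf 2 T) ⊓ wOf K) = 2 ∧
      (omegaCenterOf (thompsonSubgroupOf 2 T) ⊓ ((K ⊔ thompsonSubgroupOf 2 T) ⊓
        Subgroup.centralizer ((K : Set G) ⊔ (thompsonSubgroupOf 2 T : Set G)))) ⊔
        (omegaCenterOf (thompsonSubgroupOf 2 T) ⊓ wOf K) = omegaCenterOf (thompsonSubgroupOf 2 T) := by
  rw [centralizer_sup_coe]
  exact split hT hK

end Cfsg.Agent.Lib.Helper49.JC
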