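import Cfsg.Agent.Lib.Helper49.JC.Uniq
import Cfsg.Agent.Lib.Helper49.JC.Split

/-!
# More on `L ∈ 𝓛(T)` and its `J(T)`-components

* 2-elements of `N_L(T)` lie in `T`; `C_L(W) ∩ T ≤ O₂(L)`; `J(L) ≰ C_L(W)`.
* a `J(T)`-component does not normalize `T`; `W_K ≤ [V, K]` for `V = ⟨Ω₁Z(S) : S ∈ Syl₂ L⟩`.
-/

set_option autoImplicit false
set_option linter.unusedSectionVars false

namespace Cfsg.Agent.Lib.Helper49.JC

open Cfsg Cfsg.Agent.Lib.Helper49 Cfsg.Agent.Lib.Helper97 Cfsg.Agent.Lib.Helper33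
  Cfsg.Agent.Lib.Helper47 Cfsg.Agent.Lib.Helper49.FF620
open scoped commutatorElement

universe u

variable {G : Type u} [Group G] [Finite G] {T L K : Subgroup G}

attribute [local instance] bigW_characteristic Jk_characteristic

/-- 2-elements of `N_L(T)` lie in the Sylow 2-subgroup `T` of `L`. -/
theorem mem_of_two_elt (h : SylIn 2 T L) {s : G} (hsL : s ∈ L)
    (hsN : s ∈ Subgroup.normalizer (T : Set G)) (hs : IsPGroup 2 ↥(Subgroup.zpowers s)) : s ∈ T := by
  have : Fact (Nat.Prime 2) := ⟨Nat.prime_two⟩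
  have hle : Subgroup.zpowers s ≤ Subgroup.normalizer (T : Set G) := by
    rw [Subgroup.zpowers_le]; exact hsN
  have hQp : IsPGroup 2 ↥(Subgroup.zpowers s ⊔ T) := IsPGroup.to_sup_of_normal_right' hs h.isPGroup hle
  have hQL : Subgroup.zpowers s ⊔ T ≤ L := sup_le (by rw [Subgroup.zpowers_le]; exact hsL) h.le
  have := h.eq_of_le hQL hQp le_sup_right
  rw [← this]
  exact Subgroup.mem_sup_left (Subgroup.mem_zpowers s)

/-- `C_L(W) ∩ T ≤ O₂(L)`. -/
theorem CW_inf_le_pCoreOf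
    (hZ : ∀ S : Sylow 2 G, Subgroup.centralizer (omegaCenterOf (S : Subgroup G) : Set G) ≤
      Subgroup.normalizer ((S : Subgroup G) : Set G))
    (hLT : L ∈ jOvergroups T) : CW L ⊓ T ≤ pCoreOf 2 L := by
  have hsyl := sylIn_of_mem hLT
  apply le_pCoreOf (inf_le_right.trans hsyl.le) _ (hsyl.isPGroup.to_le inf_le_right)
  apply le_normalizer_of_forall_conj_mem
  rintro l hl x ⟨hxC, hxT⟩
  have h1 : l * x * l⁻¹ ∈ CW L := conj_mem_of_mem_normalizer (le_normalizer_CW L hl) hxC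
  refine ⟨h1, ?_⟩
  apply mem_of_two_elt hsyl (CW_le L h1) (centralizer_Wk_le_normalizer hZ hLT h1)
  have h2 : Subgroup.zpowers (l * x * l⁻¹) ≤ cj l T := by
    rw [Subgroup.zpowers_le]; exact conj_mem_cj hxT
  exact (isPGroup_cj hsyl.isPGroup).to_le h2

/-- `J(L) ≰ C_L(W)`. -/
theorem not_Jk_le_centralizer
    (hZ : ∀ S : Sylow 2 G, Subgroup.centralizer (omegaCenterOf (S : Subgroup G) : Set G) ≤
      Subgroup.normalizer ((S : Subgroup G) : Set G))
    (hLT : L ∈ jOvergroups T) :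
    ¬ Jk 2 ↥L ≤ Subgroup.centralizer ((Wk 2 ↥L : Subgroup ↥L) : Set ↥L) := by
  intro h
  apply hLT.2.1
  refine le_trans (le_inf ?_ (thompsonSubgroupOf_le 2 T)) (CW_inf_le_pCoreOf hZ hLT)
  exact (thompsonSubgroupOf_le_map_Jk (sylIn_of_mem hLT)).trans (Subgroup.map_mono h)

/-- a `J(T)`-component does not normalize `T`. -/
theorem not_le_normalizer_T (hT : IsPGroup 2 ↥T) (hK : IsJComponent T K) :
    ¬ K ≤ Subgroup.normalizer (T : Set G) := by
  intro h
  have hJ : K ≤ Subgroup.normalizer ((thompsonSubgroupOf 2 T : Subgroup G) : Set G) :=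
    h.trans (normalizer_le_normalizer_thompsonSubgroupOf 2 T)
  have hKJ : K ≤ thompsonSubgroupOf 2 T := by
    nth_rewrite 1 [← hK.2.1]
    rw [Subgroup.commutator_le]
    intro k hk j hj
    rw [commutatorElement_def]
    exact Subgroup.mul_mem _ (conj_mem_of_mem_normalizer (hJ hk) hj) (Subgroup.inv_mem _ hj)
  have hK2 : IsPGroup 2 ↥K := (isPGroup_J hT).to_le hKJ
  have hle : K ≤ pCoreOf 2 K := le_pCoreOf le_rfl Subgroup.le_normalizer hK2
  have heq : pCoreOf 2 K = K := le_antisymm (pCoreOf_le 2 K) hle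
  have := hK.2.2.1
  rw [heq, Subgroup.relIndex_self] at this
  norm_num at this

/-- `Ω₁Z(T) ≤ Ω₁Z(J(T))`. -/
theorem omegaCenterOf_le_omegaCenterOf_J (T : Subgroup G) :
    omegaCenterOf T ≤ omegaCenterOf (thompsonSubgroupOf 2 T) := by
  intro z hz
  obtain ⟨h1, h2, h3⟩ := mem_omegaCenterOf_iff.mp hz
  obtain ⟨A, hA⟩ := maxEAOf_nonempty 2 T
  have hZA : omegaCenterOf T ≤ A := by
    apply le_of_mem_maxEAOf_of_commute hA (isElementaryAbelian_omegaCenterOf T) (omegaCenterOf_le T)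
    intro a ha b hb
    exact Subgroup.mem_centralizer_iff.mp (omegaCenterOf_le_centralizer T hb) a (hA.1 ha)
  exact mem_omegaCenterOf_iff.mpr ⟨le_thompsonSubgroupOf hA (hZA hz),
    Subgroup.centralizer_le (thompsonSubgroupOf_le 2 T) h2, h3⟩

/-- `K` acts irreducibly on `W_K`. -/
theorem wOf_le_of_normalized (hK : IsJComponent T K) {U : Subgroup G} (hU : U ≤ wOf K)
    (hKU : K ≤ Subgroup.normalizer (U : Set G)) (hne : U ≠ ⊥) : wOf K ≤ U := by
  have hW := isFour_wOf hK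
  -- an element of `K ∖ R`
  have hex : ∃ d ∈ K, d ∉ pCoreOf 2 K := by
    by_contra hcon
    push Not at hcon
    have heq : pCoreOf 2 K = K := le_antisymm (pCoreOf_le 2 K) hcon
    have := hK.2.2.1
    rw [heq, Subgroup.relIndex_self] at this
    norm_num at this
  obtain ⟨d, hd, hdR⟩ := hex
  obtain ⟨u, hu1⟩ := (Subgroup.ne_bot_iff_exists_ne_one).mp hne
  have hu1' : (u : G) ≠ 1 := fun h => hu1 (Subtype.ext h)
  have hu' : d * u * d⁻¹ ∈ U := conj_mem_of_mem_normalizer (hKU hd) u.2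
  have hne1 : d * u * d⁻¹ ≠ 1 := by
    intro h
    apply hu1'
    calc (u : G) = d⁻¹ * (d * u * d⁻¹) * d := by group
      _ = 1 := by rw [h]; group
  have hne2 : d * u * d⁻¹ ≠ u := fun h => hu1' (eq_one_of_conj_eq hK hd hdR (hU u.2) h)
  intro w hw
  rcases hW.cases (hU u.2) hu1' (hU hu') hne1 hne2 hw with rfl | rfl | rfl | rfl
  · exact U.one_mem
  · exact u.2
  · exact hu'
  · exact U.mul_mem hu' u.2

/-- `W_K ≤ [Ω₁Z(T), K]` for a `J(T)`-component `K` of `L ∈ 𝓛(T)`. -/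
theorem wOf_le_commutator_omegaCenterOf
    (hZ : ∀ S : Sylow 2 G, Subgroup.centralizer (omegaCenterOf (S : Subgroup G) : Set G) ≤
      Subgroup.normalizer ((S : Subgroup G) : Set G))
    (hT : IsPGroup 2 ↥T) (hLT : L ∈ jOvergroups T) (hK : IsJComponent T K) (hKL : K ≤ L) :
    wOf K ≤ ⁅omegaCenterOf T, K⁆ := by
  set J := thompsonSubgroupOf 2 T with hJ
  set X := K ⊔ J with hX
  set Z₀ := omegaCenterOf J with hZ₀
  have hW := isFour_wOf hK
  have hKW : K ≤ Subgroup.normalizer ((wOf K : Subgroup G) : Set G) :=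
    le_sup_left.trans (sup_le_normalizer_wOf hK)
  have hWX : wOf K ≤ X := ((wOf_le_pCoreOf K).trans (pCoreOf_le 2 K)).trans le_sup_left
  obtain ⟨-, hsplit'⟩ := split hT hK
  have hsplit : (Z₀ ⊓ (X ⊓ Subgroup.centralizer ((X : Subgroup G) : Set G))) ⊔ (Z₀ ⊓ wOf K) = Z₀ := hsplit'
  -- `[z, k] ∈ W_K`
  have key : ∀ z ∈ omegaCenterOf T, ∀ k ∈ K, ⁅z, k⁆ ∈ wOf K := by
    intro z hz k hk
    have hz0 : z ∈ Z₀ := omegaCenterOf_le_omegaCenterOf_J T hz
    rw [← hsplit] at hz0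
    have hnorm : Z₀ ⊓ (X ⊓ Subgroup.centralizer ((X : Subgroup G) : Set G)) ≤
        Subgroup.normalizer ((Z₀ ⊓ wOf K : Subgroup G) : Set G) := by
      apply le_normalizer_of_forall_conj_mem
      rintro h ⟨hh, -⟩ x hx
      have := IsElementaryAbelian_comm (isElementaryAbelian_omegaCenterOf J) hh hx.1
      have e : h * x * h⁻¹ = x := by rw [this]; group
      rw [e]; exact hx
    obtain ⟨c, hc, w, hw, rfl⟩ := exists_mul_of_mem_sup hnorm hz0
    have hcX : ∀ x ∈ X, x * c = c * x := fun x hx =>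
      Subgroup.mem_centralizer_iff.mp hc.2.2 x hx
    have hkX : k ∈ X := le_sup_left (a := K) hk
    have hwX : w ∈ X := hWX hw.2
    have e : ⁅c * w, k⁆ = w * (k * w⁻¹ * k⁻¹) := by
      rw [commutatorElement_def]
      have h1 := hcX k hkX
      have h2 := hcX w hwX
      calc c * w * k * (c * w)⁻¹ * k⁻¹ = c * w * k * w⁻¹ * c⁻¹ * k⁻¹ := by group
        _ = (w * c) * k * w⁻¹ * c⁻¹ * k⁻¹ := by rw [h2]
        _ = w * (c * k) * w⁻¹ * c⁻¹ * k⁻¹ := by group
        _ = w * (k * c) * w⁻¹ * c⁻¹ * k⁻¹ := by rw [h1]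
        _ = w * k * (c * w⁻¹) * c⁻¹ * k⁻¹ := by group
        _ = w * k * (w⁻¹ * c) * c⁻¹ * k⁻¹ := by
            have : c * w⁻¹ = w⁻¹ * c := by
              calc c * w⁻¹ = w⁻¹ * (w * c) * w⁻¹ := by group
                _ = w⁻¹ * (c * w) * w⁻¹ := by rw [h2]
                _ = w⁻¹ * c := by group
            rw [this]
        _ = w * (k * w⁻¹ * k⁻¹) := by group
    rw [e]
    exact Subgroup.mul_mem _ hw.2 (conj_mem_of_mem_normalizer (hKW hk) (Subgroup.inv_mem _ hw.2))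
  set U := ⁅omegaCenterOf T, K⁆ ⊓ wOf K with hU
  have hKU : K ≤ Subgroup.normalizer ((U : Subgroup G) : Set G) := by
    apply le_normalizer_of_forall_conj_mem
    rintro k hk x ⟨hx1, hx2⟩
    have h1 := (le_sup_right.trans (sup_le_normalizer_commutator (omegaCenterOf T) K)) hk
    exact ⟨conj_mem_of_mem_normalizer h1 hx1, conj_mem_of_mem_normalizer (hKW hk) hx2⟩
  have hne : U ≠ ⊥ := by
    intro hbot
    apply not_le_normalizer_T hT hK
    refine le_trans (le_inf hKL ?_) (inf_centralizer_omegaCenterOf_le_normalizer hZ hLT)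
    intro k hk
    apply Subgroup.mem_centralizer_iff.mpr
    intro z hz
    have h1 : ⁅z, k⁆ ∈ U := ⟨Subgroup.commutator_mem_commutator hz hk, key z hz k hk⟩
    rw [hbot, Subgroup.mem_bot, commutatorElement_def] at h1
    calc z * k = (z * k * z⁻¹ * k⁻¹) * (k * z) := by group
      _ = k * z := by rw [h1, one_mul]
  exact (wOf_le_of_normalized hK inf_le_right hKU hne).trans inf_le_left

end Cfsg.Agent.Lib.Helper49.JC
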