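import Cfsg.Agent.Lib.Helper49.JC.BlockNorm

/-!
# `K ≤ L ∈ 𝓛(T)` subnormal in `⟨K, J(T)⟩`, `N_G(K) = N_G(W_K)`: `J(T)` normalizes `W_K` (S2945)

The group `L⁺ = ⟨K, J(T)⟩ O₂(L)` lies in `𝓛(T⁺)` for a Sylow 2-subgroup `T⁺ ≥ J(T) O₂(L)` with `J(T⁺) = J(T)`.
-/

set_option autoImplicit false
set_option linter.unusedSectionVars false
set_option maxHeartbeats 1000000

namespace Cfsg.Agent.Lib.Helper49.JC

open Cfsg Cfsg.Agent.Lib.Helper49 Cfsg.Agent.Lib.Helper97 Cfsg.Agent.Lib.Helper33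
  Cfsg.Agent.Lib.Helper47 Cfsg.Agent.Lib.Helper49.FF620 Cfsg.Agent.Lib.Helper72
open scoped commutatorElement

universe u

variable {G : Type u} [Group G] [Finite G] {T L K : Subgroup G}

attribute [local instance] bigW_characteristic Jk_characteristic

/-- `J(S) = J(T)` for a 2-subgroup `S ≥ J(T)` of `L`, `T` Sylow in `L`. -/
theorem thompsonSubgroupOf_eq_of_sylIn (hsyl : SylIn 2 T L) {S : Subgroup G} (hSL : S ≤ L)
    (hS : IsPGroup 2 ↥S) (hJS : thompsonSubgroupOf 2 T ≤ S) :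
    thompsonSubgroupOf 2 S = thompsonSubgroupOf 2 T := by
  have : Fact (Nat.Prime 2) := ⟨Nat.prime_two⟩
  obtain ⟨l, hl, hle⟩ := hsyl.exists_cj_le hSL hS
  have h1 : cj l (thompsonSubgroupOf 2 T) ≤ T := (cj_mono hJS).trans hle
  have h2 : cj l (thompsonSubgroupOf 2 T) = thompsonSubgroupOf 2 T := cj_thompson_eq_of_le rfl h1
  have h3 : thompsonSubgroupOf 2 T ≤ cj l S := by rw [← h2]; exact cj_mono hJS
  have h4 : thompsonSubgroupOf 2 (cj l S) = thompsonSubgroupOf 2 T := thompsonSubgroupOf_eq_of_le hle h3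
  rw [thompsonSubgroupOf_cj, ← h2] at h4
  exact cj_injective l h4

/-- `W(L)` (in `G`) lies in `Ω₁Z(O₂(L))`. -/
theorem map_Wk_le (hLT : L ∈ jOvergroups T) (hN : ∀ N : Subgroup G, IsTwoLocal N → Group.IsSolvable ↥N)
    (hT1 : T ≠ ⊥) {w : G} (hw : w ∈ (Wk 2 ↥L).map L.subtype) :
    w ∈ pCoreOf 2 L ∧ w ∈ Subgroup.centralizer ((pCoreOf 2 L : Subgroup G) : Set G) ∧ w * w = 1 := by
  have : Fact (Nat.Prime 2) := ⟨Nat.prime_two⟩
  have hsep := isPSolvable_of_mem hN hLT hT1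
  have hO := pPrimeCore_eq_bot_of_mem hLT
  have hc' := centralizer_pCore_le_of hsep hO
  obtain ⟨y, hy, rfl⟩ := hw
  have h1 := Cfsg.Agent.S0601.bigW_le (p := 2) hc' hy
  have h2 : y ∈ omegaCenterOf (pCore 2 ↥L) := h1
  obtain ⟨h3, h4, h5⟩ := mem_omegaCenterOf_iff.mp h2
  refine ⟨⟨y, h3, rfl⟩, ?_, ?_⟩
  · apply Subgroup.mem_centralizer_iff.mpr
    rintro _ ⟨q, hq, rfl⟩
    exact congrArg Subtype.val (Subgroup.mem_centralizer_iff.mp h4 q hq)
  · have := congrArg Subtype.val h5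
    simpa [pow_two] using this

/-- `W(L⁺) ≤ X` when `L⁺ = X O`, `O ≤ T⁺` normal in `L⁺` and `J(T⁺) ≤ X`. -/
theorem map_Wk_le_of_sup {X O Tp Lp : Subgroup G} (hLp : Lp = X ⊔ O)
    (hXO : X ≤ Subgroup.normalizer (O : Set G)) (hsyl : SylIn 2 Tp Lp) (hOT : O ≤ Tp)
    (hJX : thompsonSubgroupOf 2 Tp ≤ X) : (Wk 2 ↥Lp).map Lp.subtype ≤ X := by
  have : Fact (Nat.Prime 2) := ⟨Nat.prime_two⟩
  rw [Subgroup.map_le_iff_le_comap]
  apply iSup_le
  intro S
  have hS := sylIn_of_sylow S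
  obtain ⟨l, hl, hlS⟩ := hS.exists_cj_eq hsyl
  -- `S_G = cj l Tp`
  rw [hLp] at hl
  obtain ⟨x, hx, o, ho, rfl⟩ := exists_mul_of_mem_sup hXO hl
  have hSG : (S : Subgroup ↥Lp).map Lp.subtype = cj x Tp := by
    rw [← hlS, cj_mul, cj_eq_self_of_mem (hOT ho)]
  have hZ : omegaCenterOf (cj x Tp) ≤ X := by
    rw [omegaCenterOf_cj]
    apply cj_le_of_mem _ hx
    exact ((omegaCenterOf_le_omegaCenterOf_J Tp).trans (omegaCenterOf_le _)).trans hJX
  unfold omegaOne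
  rw [Subgroup.closure_le]
  rintro y ⟨⟨hy1, hy2⟩, hy3⟩
  rw [SetLike.mem_coe, Subgroup.mem_comap]
  apply hZ
  rw [← hSG]
  apply mem_omegaCenterOf_iff.mpr
  refine ⟨⟨y, hy1, rfl⟩, ?_, ?_⟩
  · apply Subgroup.mem_centralizer_iff.mpr
    rintro _ ⟨s, hs, rfl⟩
    exact congrArg Subtype.val (Subgroup.mem_centralizer_iff.mp hy2 s hs)
  · have := congrArg Subtype.val hy3
    simpa using this

/-- odd generation passes to `K.subgroupOf L`. -/
theorem closure_odd_subgroupOf {K Lp : Subgroup G} (hKL : K ≤ Lp)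
    (hodd : Subgroup.closure {g : G | g ∈ K ∧ Odd (orderOf g)} = K) :
    Subgroup.closure {g : ↥Lp | g ∈ K.subgroupOf Lp ∧ Odd (orderOf g)} = K.subgroupOf Lp := by
  apply Subgroup.map_injective Lp.subtype_injective
  rw [MonoidHom.map_closure, Subgroup.map_subgroupOf_eq_of_le hKL]
  nth_rewrite 2 [← hodd]
  congr 1
  ext g
  constructor
  · rintro ⟨y, ⟨hy1, hy2⟩, rfl⟩
    refine ⟨Subgroup.mem_subgroupOf.mp hy1, ?_⟩
    rw [Subgroup.coe_subtype, Subgroup.orderOf_coe]; exact hy2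
  · rintro ⟨hg1, hg2⟩
    refine ⟨⟨g, hKL hg1⟩, ⟨Subgroup.mem_subgroupOf.mpr hg1, ?_⟩, rfl⟩
    show Odd (orderOf (⟨g, hKL hg1⟩ : ↥Lp))
    rw [← Subgroup.orderOf_coe]; exact hg2

/-- **Main step of S2945.** -/
theorem thompson_le_normalizer_wOf
    (hN : ∀ N : Subgroup G, IsTwoLocal N → Group.IsSolvable ↥N)
    (hZ : ∀ S : Sylow 2 G, Subgroup.centralizer (omegaCenterOf (S : Subgroup G) : Set G) ≤
      Subgroup.normalizer ((S : Subgroup G) : Set G))
    (hT : IsPGroup 2 ↥T) (hT1 : T ≠ ⊥) (hLT : L ∈ jOvergroups T) (hKL : K ≤ L)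
    (hKsn : (K.subgroupOf (K ⊔ thompsonSubgroupOf 2 T)).IsSubnormal)
    {T' : Subgroup G} (hK' : IsJComponent T' K)
    (hNK : Subgroup.normalizer (K : Set G) = Subgroup.normalizer ((wOf K : Subgroup G) : Set G)) :
    thompsonSubgroupOf 2 T ≤ Subgroup.normalizer ((wOf K : Subgroup G) : Set G) := by
  have : Fact (Nat.Prime 2) := ⟨Nat.prime_two⟩
  set J := thompsonSubgroupOf 2 T with hJ
  set X := K ⊔ J with hX
  set O := pCoreOf 2 L with hOdef
  set Q := pCoreOf 2 X with hQdef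
  have hsyl := sylIn_of_mem hLT
  have hJT : J ≤ T := thompsonSubgroupOf_le 2 T
  have hXL : X ≤ L := sup_le hKL (hJT.trans hsyl.le)
  have hRel : RelSN K X := relSN_of_isSubnormal_subgroupOf le_sup_left hKsn
  have hQK : Q ≤ Subgroup.normalizer (K : Set G) := pCoreOf_le_normalizer_of_relSN hRel hK'.1
  have hRQ : pCoreOf 2 K ≤ Q := relSN_pCoreOf_le hRel
  have hQN : Q ≤ Subgroup.normalizer ((wOf K : Subgroup G) : Set G) := hNK ▸ hQK
  have hQp : IsPGroup 2 ↥Q := pCoreOf_isPGroup 2 X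
  have hQX : Q ≤ X := Cfsg.Agent.Lib.Helper47.pCoreOf_le 2 X
  have hXQ : X ≤ Subgroup.normalizer (Q : Set G) :=
    Subgroup.le_normalizer.trans (normalizer_le_normalizer_pCoreOf 2 X)
  have hLO : L ≤ Subgroup.normalizer (O : Set G) :=
    Subgroup.le_normalizer.trans (normalizer_le_normalizer_pCoreOf 2 L)
  have hOp : IsPGroup 2 ↥O := pCoreOf_isPGroup 2 L
  have hOT : O ≤ T := pCoreOf_le_of_sylIn hsyl
  have hOL : O ≤ L := Cfsg.Agent.Lib.Helper47.pCoreOf_le 2 L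
  -- the group `L⁺`
  set Lp := X ⊔ O with hLp
  have hLpL : Lp ≤ L := sup_le hXL hOL
  have hT0 : IsPGroup 2 ↥(J ⊔ O) := hT.to_le (sup_le hJT hOT)
  obtain ⟨Tp, hsylp, hT0p⟩ := exists_sylIn_ge hT0 (sup_le (le_sup_right.trans le_sup_left) le_sup_right : J ⊔ O ≤ Lp)
  have hJTp : J ≤ Tp := le_sup_left.trans hT0p
  have hOTp : O ≤ Tp := le_sup_right.trans hT0p
  have hJp : thompsonSubgroupOf 2 Tp = J :=
    thompsonSubgroupOf_eq_of_sylIn hsyl (hsylp.le.trans hLpL) hsylp.isPGroup hJTp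
  have hOne : O ≠ ⊥ := pCoreOf_ne_bot hLT hT1
  have hTp1 : Tp ≠ ⊥ := by
    intro h
    apply hOne
    rw [h] at hOTp
    exact le_bot_iff.mp hOTp
  have hOLp : O ≤ pCoreOf 2 Lp := le_pCoreOf le_sup_right (hLpL.trans hLO) hOp
  have hLpn : Lp ≤ Subgroup.normalizer ((pCoreOf 2 Lp : Subgroup G) : Set G) :=
    Subgroup.le_normalizer.trans (normalizer_le_normalizer_pCoreOf 2 Lp)
  -- `X ∩ O₂(L⁺) ≤ Q`
  have hXOQ : X ⊓ pCoreOf 2 Lp ≤ Q := by
    apply le_pCoreOf inf_le_left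
    · intro x hx
      have h1 : x ∈ Subgroup.normalizer (X : Set G) := Subgroup.le_normalizer hx
      have h2 : x ∈ Subgroup.normalizer ((pCoreOf 2 Lp : Subgroup G) : Set G) := hLpn (le_sup_left (a := X) hx)
      rw [Subgroup.mem_normalizer_iff] at h1 h2 ⊢
      intro y
      rw [Subgroup.mem_inf, Subgroup.mem_inf, ← h1 y, ← h2 y]
    · exact (pCoreOf_isPGroup 2 Lp).to_le inf_le_right
  by_cases hcase : thompsonSubgroupOf 2 Tp ≤ pCoreOf 2 Lp
  · rw [hJp] at hcase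
    exact (le_inf le_sup_right hcase : J ≤ X ⊓ pCoreOf 2 Lp).trans (hXOQ.trans hQN)
  · have hLTp : Lp ∈ jOvergroups Tp := by
      refine ⟨isSylowTwoIn_iff_sylIn.mpr hsylp, hcase, ?_⟩
      exact (Subgroup.centralizer_le hOLp).trans (hLT.2.2.trans hOLp)
    have hsep := isPSolvable_of_mem hN hLTp hTp1
    have hOp' := pPrimeCore_eq_bot_of_mem hLTp
    have hKLp : K ≤ Lp := le_sup_left.trans le_sup_left
    set κ := K.subgroupOf Lp with hκ
    have hκodd := closure_odd_subgroupOf hKLp hK'.1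
    set WG := (Wk 2 ↥Lp).map Lp.subtype with hWG
    have hWGX : WG ≤ X := by
      apply map_Wk_le_of_sup hLp (hXL.trans hLO) hsylp hOTp
      rw [hJp]; exact le_sup_right
    have hWGprops := fun w (hw : w ∈ WG) => map_Wk_le hLTp hN hTp1 hw
    -- `Q ≤ O₂(L⁺)`
    have hQOp : Q ≤ pCoreOf 2 Lp := by
      have hQO : IsPGroup 2 ↥(Q ⊔ O) :=
        IsPGroup.to_sup_of_normal_right' hQp hOp ((hQX.trans hXL).trans hLO)
      have h1 : Q ⊔ O ≤ Lp := sup_le (hQX.trans le_sup_left) le_sup_right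
      have h2 : Lp ≤ Subgroup.normalizer ((Q ⊔ O : Subgroup G) : Set G) := by
        apply sup_le
        · refine le_trans ?_ (Cfsg.Agent.Lib.Helper48.normalizer_inf_le_normalizer_sup Q O)
          exact le_inf hXQ (hXL.trans hLO)
        · exact le_sup_right.trans Subgroup.le_normalizer
      exact le_sup_left.trans (le_pCoreOf h1 h2 hQO)
    have hWGQ : WG ≤ Q := fun w hw => hXOQ ⟨hWGX hw, (hWGprops w hw).1⟩
    have hWGc : WG ≤ Subgroup.centralizer ((Q : Subgroup G) : Set G) := fun w hw =>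
      Subgroup.centralizer_le hQOp (hWGprops w hw).2.1
    have hWG2 : ∀ w ∈ WG, w * w = 1 := fun w hw => (hWGprops w hw).2.2
    have hLpWG : Lp ≤ Subgroup.normalizer ((WG : Subgroup G) : Set G) :=
      le_normalizer_map_subtype_of_normal (Wk 2 ↥Lp)
    have hKWG : K ≤ Subgroup.normalizer ((WG : Subgroup G) : Set G) := hKLp.trans hLpWG
    have hωW : ⁅WG, K⁆ ≤ wOf K :=
      commutator_le_wOf hK' le_sup_left hQK hRQ hWGQ hWGc hWG2 hKWG
    -- the commutator in `↥L⁺`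
    have hmap : (⁅Wk 2 ↥Lp, κ⁆ : Subgroup ↥Lp).map Lp.subtype = ⁅WG, K⁆ := by
      rw [Subgroup.map_commutator, hκ, Subgroup.map_subgroupOf_eq_of_le hKLp]
    have hcard : Nat.card ↥(⁅Wk 2 ↥Lp, κ⁆ : Subgroup ↥Lp) ≤ 4 := by
      rw [← Subgroup.card_map_of_injective Lp.subtype_injective, hmap, ← (isFour_wOf hK').card]
      exact Subgroup.card_le_of_le hωW
    have hblock := Jk_le_normalizer_commutator_Wk hsep hOp' κ hκodd hcard
    have hJω : J ≤ Subgroup.normalizer ((⁅WG, K⁆ : Subgroup G) : Set G) := by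
      have h1 : J ≤ (Jk 2 ↥Lp).map Lp.subtype := by
        rw [← hJp]; exact thompsonSubgroupOf_le_map_Jk hsylp
      refine h1.trans ((Subgroup.map_mono hblock).trans ?_)
      rw [← hmap]
      exact Subgroup.le_normalizer_map _
    by_cases hbot : ⁅WG, K⁆ = ⊥
    · -- `K` centralizes `Ω₁Z(T⁺)`, hence normalizes `J`
      have hKc : K ≤ Subgroup.centralizer ((WG : Subgroup G) : Set G) := by
        rw [Subgroup.commutator_comm, Subgroup.commutator_eq_bot_iff_le_centralizer] at hbot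
        exact hbot
      have hZW : omegaCenterOf Tp ≤ WG := by
        intro z hz
        have hzL : z ∈ Lp := hsylp.le ((mem_omegaCenterOf_iff.mp hz).1)
        exact ⟨⟨z, hzL⟩, omegaCenterOf_subgroupOf_le_Wk hLTp (Subgroup.mem_subgroupOf.mpr hz), rfl⟩
      have hKT : K ≤ Subgroup.normalizer (Tp : Set G) := by
        refine le_trans ?_ (inf_centralizer_omegaCenterOf_le_normalizer hZ hLTp)
        exact le_inf hKLp (hKc.trans (Subgroup.centralizer_le hZW))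
      have hKJ : K ≤ Subgroup.normalizer (J : Set G) := by
        rw [← hJp]
        exact hKT.trans (normalizer_le_normalizer_thompsonSubgroupOf 2 Tp)
      have hXJ : X ≤ Subgroup.normalizer (J : Set G) := sup_le hKJ Subgroup.le_normalizer
      have hJQ : J ≤ Q := le_pCoreOf le_sup_right hXJ (isPGroup_J hT)
      exact hJQ.trans hQN
    · have hKω : K ≤ Subgroup.normalizer ((⁅WG, K⁆ : Subgroup G) : Set G) := by
        refine le_trans ?_ (Cfsg.Agent.Lib.Helper48.normalizer_inf_le_normalizer_commutator WG K)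
        exact le_inf hKWG Subgroup.le_normalizer
      have hle := wOf_le_of_normalized hK' hωW hKω hbot
      have heq : ⁅WG, K⁆ = wOf K := le_antisymm hωW hle
      rw [← heq]; exact hJω

/-- **S2945.** -/
theorem isJComponent_of_zero_cj (hL : IsCharacteristicTwoType G)
    (hN : ∀ N : Subgroup G, IsTwoLocal N → Group.IsSolvable ↥N)
    (hZ : ∀ S : Sylow 2 G, Subgroup.centralizer (omegaCenterOf (S : Subgroup G) : Set G) ≤
      Subgroup.normalizer ((S : Subgroup G) : Set G))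
    (hT : IsPGroup 2 ↥T) (hT1 : T ≠ ⊥) (hLT : L ∈ jOvergroups T) (hKL : K ≤ L)
    (hKsn : (K.subgroupOf (K ⊔ thompsonSubgroupOf 2 T)).IsSubnormal) (g : G)
    (hKg : K ∈ jComponentsZero (cj g T)) : IsJComponent T K := by
  have hT' : IsPGroup 2 ↥(cj g T) := hT.map _
  have hT'1 : cj g T ≠ ⊥ := fun h => hT1 (cj_eq_bot_iff.mp h)
  have hNK := normalizer_eq_normalizer_wOf hL hN hZ hT' hT'1 hKg
  have hJ := thompson_le_normalizer_wOf hN hZ hT hT1 hLT hKL hKsn hKg.1 hNK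
  have h := isJComponent_cj_of_le hL hN hZ hT' hT'1 hKg g⁻¹ (by rw [cj_inv_cj]; exact hJ)
  rwa [cj_inv_cj] at h

end Cfsg.Agent.Lib.Helper49.JC
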