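import Cfsg.Agent.Lib.Helper49.JC.Struct

/-!
# A four-group `W` normal in a 2-group `S`: replacement in `𝒜(S)`

If `A ∈ 𝒜(S)` does not centralize `W`, then `C_A(W) W ∈ 𝒜(S)`; hence `W ≤ J(S)`.
-/

set_option autoImplicit false
set_option linter.unusedSectionVars false

namespace Cfsg.Agent.Lib.Helper49.JC

open Cfsg Cfsg.Agent.Lib.Helper49 Cfsg.Agent.Lib.Helper97 Cfsg.Agent.Lib.Helper33

universe u

variable {G : Type u} [Group G] [Finite G]

theorem mem_centralizer_iff_conj {W : Subgroup G} {x : G} :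
    x ∈ Subgroup.centralizer ((W : Subgroup G) : Set G) ↔ ∀ w ∈ W, x * w * x⁻¹ = w := by
  rw [Subgroup.mem_centralizer_iff]
  constructor
  · intro h w hw
    rw [← h w hw]; group
  · intro h w hw
    have := h w hw
    calc w * x = (x * w * x⁻¹) * x := by rw [this]
      _ = x * w := by group

theorem IsFour.isElementaryAbelian {W : Subgroup G} (hW : IsFour W) : IsElementaryAbelian 2 W := by
  refine ⟨⟨⟨?_⟩⟩, fun w hw => by rw [pow_two]; exact hW.sq w hw⟩
  rintro ⟨a, ha⟩ ⟨b, hb⟩
  apply Subtype.ext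
  exact hW.comm ha hb

section Replace

variable {W S : Subgroup G} (hW : IsFour W) (hWS : W ≤ S)
  (hSW : S ≤ Subgroup.normalizer ((W : Subgroup G) : Set G)) (hSp : IsPGroup 2 S)

include hW hSW hSp in
/-- two elements of `S` not centralizing `W` have product centralizing `W`. -/
theorem mul_mem_centralizer {x y : G} (hx : x ∈ S) (hy : y ∈ S)
    (hxn : x ∉ Subgroup.centralizer ((W : Subgroup G) : Set G))
    (hyn : y ∉ Subgroup.centralizer ((W : Subgroup G) : Set G)) :
    x * y ∈ Subgroup.centralizer ((W : Subgroup G) : Set G) := by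
  obtain ⟨w₀, hw₀, h0, hfix⟩ := hW.exists_fixed S hSp
    (fun x hx w hw => conj_mem_of_mem_normalizer (hSW hx) hw)
  rw [mem_centralizer_iff_conj] at hxn hyn ⊢
  push Not at hxn hyn
  intro w hw
  exact hW.mul_centralizes hw₀ h0 (fun w hw => conj_mem_of_mem_normalizer (hSW hx) hw) (hfix x hx)
    (fun w hw => conj_mem_of_mem_normalizer (hSW hy) hw) (hfix y hy) hxn hyn hw

include hW hWS hSW hSp in
/-- replacement. -/
theorem replace_mem {A : Subgroup G} (hA : A ∈ maxEAOf 2 S)
    (hAn : ¬ A ≤ Subgroup.centralizer ((W : Subgroup G) : Set G)) :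
    (A ⊓ Subgroup.centralizer ((W : Subgroup G) : Set G)) ⊔ W ∈ maxEAOf 2 S := by
  obtain ⟨a, haA, haC⟩ := SetLike.not_le_iff_exists.mp hAn
  set CW := Subgroup.centralizer ((W : Subgroup G) : Set G) with hCW
  set A₀ := A ⊓ CW with hA₀
  have hA₀A : A₀ ≤ A := inf_le_left
  have hAS : A ≤ S := hA.1
  -- index two
  have hidx : (A₀.subgroupOf A).index = 2 := by
    rw [Subgroup.index_eq_two_iff]
    refine ⟨⟨a, haA⟩, fun b => ?_⟩
    by_cases hb : (b : G) ∈ CW
    · right
      refine ⟨Subgroup.mem_subgroupOf.mpr ⟨b.2, hb⟩, ?_⟩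
      intro h
      have h1 : (b : G) * a ∈ CW := (Subgroup.mem_subgroupOf.mp h).2
      apply haC
      have : a = (b : G)⁻¹ * ((b : G) * a) := by group
      rw [this]
      exact CW.mul_mem (CW.inv_mem hb) h1
    · left
      refine ⟨Subgroup.mem_subgroupOf.mpr ⟨A.mul_mem b.2 haA, ?_⟩, ?_⟩
      · exact mul_mem_centralizer hW hSW hSp (hAS b.2) (hAS haA) hb haC
      · intro h
        exact hb (Subgroup.mem_subgroupOf.mp h).2
  have hcardA : Nat.card A = Nat.card A₀ * 2 := by
    have := Subgroup.card_mul_index (A₀.subgroupOf A)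
    rw [hidx, card_subgroupOf_of_le hA₀A] at this
    exact this.symm
  -- A₀ ⊓ W has order at most 2
  set Ca := W ⊓ Subgroup.centralizer ({a} : Set G) with hCa
  have hle : A₀ ⊓ W ≤ Ca := by
    intro x hx
    refine ⟨hx.2, ?_⟩
    apply Subgroup.mem_centralizer_singleton_iff.mpr
    have := hA.2.1.1.is_comm.comm ⟨x, hx.1.1⟩ ⟨a, haA⟩
    exact congrArg Subtype.val this
  have hCalt : Ca < W := by
    refine lt_of_le_of_ne inf_le_left ?_
    intro h
    apply haC
    rw [hCW, Subgroup.mem_centralizer_iff]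
    intro w hw
    have hw' : w ∈ Ca := by rw [h]; exact hw
    exact Subgroup.mem_centralizer_singleton_iff.mp hw'.2
  have hCacard : Nat.card Ca ≤ 2 := by
    have h1 : Nat.card Ca ∣ Nat.card W := Subgroup.card_dvd_of_le inf_le_left
    have h2 : Nat.card Ca < Nat.card W := card_lt_card_of_lt hCalt
    rw [hW.card] at h1 h2
    have h3 : Nat.card Ca ≠ 3 := by
      intro h; rw [h] at h1; norm_num at h1
    omega
  have hinfcard : Nat.card (A₀ ⊓ W : Subgroup G) ≤ 2 :=
    (Subgroup.card_le_of_le hle).trans hCacard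
  -- B
  have hBel : IsElementaryAbelian 2 (A₀ ⊔ W) := by
    apply isElementaryAbelian_sup (isElementaryAbelian_mono hA₀A hA.2.1) hW.isElementaryAbelian
    intro x hx w hw
    exact (Subgroup.mem_centralizer_iff.mp hx.2 w hw).symm
  have hBS : A₀ ⊔ W ≤ S := sup_le (hA₀A.trans hAS) hWS
  have h4 := card_mul_card_le_sup_mul_inf A₀ W
  rw [hW.card] at h4
  have h5 : Nat.card (A₀ ⊔ W : Subgroup G) * Nat.card (A₀ ⊓ W : Subgroup G) ≤
      Nat.card (A₀ ⊔ W : Subgroup G) * 2 := Nat.mul_le_mul_left _ hinfcard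
  have hcard : Nat.card A ≤ Nat.card (A₀ ⊔ W : Subgroup G) := by
    rw [hcardA]; omega
  exact mem_maxEAOf_of_card_ge hA hBel hBS hcard

include hW hWS hSW hSp in
/-- `W ≤ J(S)`. -/
theorem four_le_thompsonSubgroupOf : W ≤ thompsonSubgroupOf 2 S := by
  obtain ⟨A, hA⟩ := maxEAOf_nonempty 2 S
  by_cases hAn : A ≤ Subgroup.centralizer ((W : Subgroup G) : Set G)
  · refine le_trans ?_ (le_thompsonSubgroupOf hA)
    apply le_of_mem_maxEAOf_of_commute hA hW.isElementaryAbelian hWS
    intro a ha w hw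
    exact (Subgroup.mem_centralizer_iff.mp (hAn ha) w hw).symm
  · exact le_sup_right.trans (le_thompsonSubgroupOf (replace_mem hW hWS hSW hSp hA hAn))

end Replace

end Cfsg.Agent.Lib.Helper49.JC
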