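import Cfsg.Agent.Lib.Helper49.JC.Zero
import Cfsg.Agent.Lib.Helper72.Wielandt

/-!
# Subnormal `K = O²(K)` in `X`: `O₂(X)` normalizes `K`, centralizes `W_K`, and `[Ω₁Z(O₂(X)), K] ≤ W_K`
-/

set_option autoImplicit false
set_option linter.unusedSectionVars false

namespace Cfsg.Agent.Lib.Helper49.JC

open Cfsg Cfsg.Agent.Lib.Helper49 Cfsg.Agent.Lib.Helper97 Cfsg.Agent.Lib.Helper33
  Cfsg.Agent.Lib.Helper47 Cfsg.Agent.Lib.Helper72
open scoped commutatorElement

universe u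

variable {G : Type u} [Group G]

/-- `(a x)ⁿ ∈ A xⁿ` when `x` normalizes `A`. -/
theorem mul_pow_mem_of_normalizer {A : Subgroup G} {a x : G} (ha : a ∈ A)
    (hx : x ∈ Subgroup.normalizer (A : Set G)) (n : ℕ) : (a * x) ^ n * (x ^ n)⁻¹ ∈ A := by
  induction n with
  | zero => simp
  | succ n ih =>
    have h1 : x ^ n * a * (x ^ n)⁻¹ ∈ A :=
      conj_mem_of_mem_normalizer (Subgroup.pow_mem _ hx n) ha
    have h2 : (a * x) ^ (n + 1) * (x ^ (n + 1))⁻¹ =
        ((a * x) ^ n * (x ^ n)⁻¹) * (x ^ n * a * (x ^ n)⁻¹) := by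
      rw [pow_succ, pow_succ]; group
    rw [h2]
    exact A.mul_mem ih h1

/-- relative version of: a subnormal subgroup `A` of `H = A P`, `P` a normal `p`-subgroup, contains the
`p'`-elements. -/
theorem relSN_mem_of_coprime {p : ℕ} [Fact p.Prime] {A H : Subgroup G} (h : RelSN A H) :
    ∀ P : Subgroup G, P ≤ H → H ≤ Subgroup.normalizer (P : Set G) → IsPGroup p ↥P →
      ∀ g ∈ A ⊔ P, Nat.Coprime (orderOf g) p → g ∈ A := by
  induction h with
  | refl H =>
    intro P hPH _ _ g hg _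
    rwa [sup_of_le_left hPH] at hg
  | step A B H hAB hBH hN ih =>
    intro P hPH hHP hP g hg hco
    have hgB : g ∈ B := ih P hPH hHP hP g (sup_le_sup_right hAB P hg) hco
    have hAP : A ≤ Subgroup.normalizer (P : Set G) := (hAB.trans hBH.le).trans hHP
    obtain ⟨a, ha, x, hx, rfl⟩ := exists_mul_of_mem_sup hAP hg
    have hxB : x ∈ B := by
      have : x = a⁻¹ * (a * x) := by group
      rw [this]; exact B.mul_mem (B.inv_mem (hAB ha)) hgB
    have hxN : x ∈ Subgroup.normalizer (A : Set G) := hN hxB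
    obtain ⟨k, hk⟩ := hP ⟨x, hx⟩
    have hk' : x ^ p ^ k = 1 := congrArg Subtype.val hk
    have h1 := mul_pow_mem_of_normalizer ha hxN (p ^ k)
    rw [hk', inv_one, mul_one] at h1
    obtain ⟨m, hm⟩ := exists_pow_eq_self_of_coprime (x := a * x) (n := p ^ k)
      (Nat.Coprime.pow_left k hco.symm)
    rw [← hm]
    exact Subgroup.pow_mem _ h1 m

theorem relSN_pCoreOf_le {p : ℕ} {A H : Subgroup G} (h : RelSN A H) : pCoreOf p A ≤ pCoreOf p H := by
  induction h with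
  | refl H => exact le_rfl
  | step A B H hAB _ hN ih =>
    have h2 : pCoreOf p A ≤ pCoreOf p B :=
      le_pCoreOf ((Cfsg.Agent.Lib.Helper47.pCoreOf_le p A).trans hAB)
        (hN.trans (normalizer_le_normalizer_pCoreOf p A)) (pCoreOf_isPGroup p A)
    exact h2.trans ih

/-- `O₂(X)` normalizes a subnormal subgroup generated by elements of odd order. -/
theorem pCoreOf_le_normalizer_of_relSN {K X : Subgroup G} (h : RelSN K X)
    (hodd : Subgroup.closure {g : G | g ∈ K ∧ Odd (orderOf g)} = K) :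
    pCoreOf 2 X ≤ Subgroup.normalizer (K : Set G) := by
  have : Fact (Nat.Prime 2) := ⟨Nat.prime_two⟩
  set Q := pCoreOf 2 X with hQ
  have hXQ : X ≤ Subgroup.normalizer (Q : Set G) :=
    Subgroup.le_normalizer.trans (normalizer_le_normalizer_pCoreOf 2 X)
  have hQX : Q ≤ X := Cfsg.Agent.Lib.Helper47.pCoreOf_le 2 X
  have hQp : IsPGroup 2 ↥Q := pCoreOf_isPGroup 2 X
  apply le_normalizer_of_forall_conj_mem
  intro q hq k hk
  rw [← hodd] at hk
  induction hk using Subgroup.closure_induction with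
  | mem y hy =>
    obtain ⟨hyK, hyo⟩ := hy
    have hmem : q * y * q⁻¹ ∈ K ⊔ Q := by
      have h1 : q * y * q⁻¹ = y * (y⁻¹ * q * y * q⁻¹) := by group
      rw [h1]
      refine Subgroup.mul_mem _ (Subgroup.mem_sup_left hyK) (Subgroup.mem_sup_right ?_)
      have h2 : y⁻¹ * q * y ∈ Q := by
        have := conj_mem_of_mem_normalizer (hXQ (h.le (K.inv_mem hyK))) hq
        simpa using this
      exact Q.mul_mem h2 (Q.inv_mem hq)
    have hord : orderOf (q * y * q⁻¹) = orderOf y := by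
      have : q * y * q⁻¹ = MulAut.conj q y := by simp
      rw [this, MulEquiv.orderOf_eq]
    have hco : Nat.Coprime (orderOf (q * y * q⁻¹)) 2 := by
      rw [hord]; exact Nat.coprime_two_right.mpr hyo
    exact relSN_mem_of_coprime h Q hQX hXQ hQp _ hmem hco
  | one => simp
  | mul a b _ _ iha ihb =>
    have : q * (a * b) * q⁻¹ = (q * a * q⁻¹) * (q * b * q⁻¹) := by group
    rw [this]; exact Subgroup.mul_mem _ iha ihb
  | inv a _ iha =>
    have : q * a⁻¹ * q⁻¹ = (q * a * q⁻¹)⁻¹ := by group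
    rw [this]; exact Subgroup.inv_mem _ iha

section Comp

variable [Finite G] {T K X : Subgroup G}

/-- an element of `K ∖ O₂(K)`. -/
theorem exists_not_mem_pCoreOf (hK : IsJComponent T K) : ∃ d ∈ K, d ∉ pCoreOf 2 K := by
  by_contra hcon
  push Not at hcon
  have heq : pCoreOf 2 K = K := le_antisymm (Cfsg.Agent.Lib.Helper47.pCoreOf_le 2 K) hcon
  have := hK.2.2.1
  rw [heq, Subgroup.relIndex_self] at this
  norm_num at this

/-- `O₂(X)` centralizes `W_K` when it normalizes `K ≤ X`. -/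
theorem pCoreOf_le_centralizer_wOf_of_le (hK : IsJComponent T K) (hKX : K ≤ X)
    (hQK : pCoreOf 2 X ≤ Subgroup.normalizer (K : Set G)) :
    pCoreOf 2 X ≤ Subgroup.centralizer ((wOf K : Subgroup G) : Set G) := by
  set Q := pCoreOf 2 X with hQ
  have hW := isFour_wOf hK
  have hXQ : X ≤ Subgroup.normalizer (Q : Set G) :=
    Subgroup.le_normalizer.trans (normalizer_le_normalizer_pCoreOf 2 X)
  have hQp : IsPGroup 2 ↥Q := pCoreOf_isPGroup 2 X
  have hQW : Q ≤ Subgroup.normalizer ((wOf K : Subgroup G) : Set G) :=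
    hQK.trans (normalizer_le_normalizer_wOf K)
  obtain ⟨w₀, hw₀, h0, hfix⟩ := hW.exists_fixed Q hQp
    (fun x hx w hw => conj_mem_of_mem_normalizer (hQW hx) hw)
  obtain ⟨d, hd, hdR⟩ := exists_not_mem_pCoreOf hK
  have hdW : d ∈ Subgroup.normalizer ((wOf K : Subgroup G) : Set G) :=
    normalizer_le_normalizer_wOf K (Subgroup.le_normalizer hd)
  have hw₁ : d * w₀ * d⁻¹ ∈ wOf K := conj_mem_of_mem_normalizer hdW hw₀
  have h1 : d * w₀ * d⁻¹ ≠ 1 := by
    intro h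
    apply h0
    calc w₀ = d⁻¹ * (d * w₀ * d⁻¹) * d := by group
      _ = 1 := by rw [h]; group
  have h01 : d * w₀ * d⁻¹ ≠ w₀ := fun h => h0 (eq_one_of_conj_eq hK hd hdR hw₀ h)
  intro q hq
  rw [mem_centralizer_iff_conj]
  intro w hw
  have hq' : d⁻¹ * q * d ∈ Q := by
    have := conj_mem_of_mem_normalizer (hXQ (hKX (K.inv_mem hd))) hq
    simpa using this
  have hf1 : q * (d * w₀ * d⁻¹) * q⁻¹ = d * w₀ * d⁻¹ := by
    have h2 := hfix _ hq'
    calc q * (d * w₀ * d⁻¹) * q⁻¹ = d * ((d⁻¹ * q * d) * w₀ * (d⁻¹ * q * d)⁻¹) * d⁻¹ := by group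
      _ = d * w₀ * d⁻¹ := by rw [h2]
  exact hW.centralizes_of_fix hw₀ h0 hw₁ h1 h01 (hfix q hq) hf1 hw

/-- `[V', K] ≤ W_K` for `V' ≤ Ω₁Z(O₂(X))` normalized by `K`, when `O₂(X)` normalizes `K` and contains
`O₂(K)`. -/
theorem commutator_le_wOf (hK : IsJComponent T K) (hKX : K ≤ X)
    (hQK : pCoreOf 2 X ≤ Subgroup.normalizer (K : Set G)) (hRQ : pCoreOf 2 K ≤ pCoreOf 2 X)
    {V' : Subgroup G} (hVQ : V' ≤ pCoreOf 2 X)
    (hVc : V' ≤ Subgroup.centralizer ((pCoreOf 2 X : Subgroup G) : Set G))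
    (hV2 : ∀ v ∈ V', v * v = 1) (hKV : K ≤ Subgroup.normalizer (V' : Set G)) :
    ⁅V', K⁆ ≤ wOf K := by
  set Q := pCoreOf 2 X with hQ
  set R := pCoreOf 2 K with hR
  have hXQ : X ≤ Subgroup.normalizer (Q : Set G) :=
    Subgroup.le_normalizer.trans (normalizer_le_normalizer_pCoreOf 2 X)
  have hQp : IsPGroup 2 ↥Q := pCoreOf_isPGroup 2 X
  have hKQR : K ⊓ Q ≤ R := by
    apply le_pCoreOf inf_le_left
    · intro k hk
      have h1 : k ∈ Subgroup.normalizer (K : Set G) := Subgroup.le_normalizer hk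
      have h2 : k ∈ Subgroup.normalizer (Q : Set G) := hXQ (hKX hk)
      rw [Subgroup.mem_normalizer_iff] at h1 h2 ⊢
      intro y
      rw [Subgroup.mem_inf, Subgroup.mem_inf, ← h1 y, ← h2 y]
    · exact hQp.to_le inf_le_right
  -- commutators land in `Ω₁Z(R)`
  have hcomm : ∀ v ∈ V', ∀ k ∈ K, ⁅v, k⁆ ∈ V' ⊓ omegaCenterOf R := by
    intro v hv k hk
    have hkv : k * v⁻¹ * k⁻¹ ∈ V' := conj_mem_of_mem_normalizer (hKV hk) (V'.inv_mem hv)
    have huV : ⁅v, k⁆ ∈ V' := by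
      have : ⁅v, k⁆ = v * (k * v⁻¹ * k⁻¹) := by rw [commutatorElement_def]; group
      rw [this]; exact V'.mul_mem hv hkv
    have huK : ⁅v, k⁆ ∈ K := by
      have h1 : v * k * v⁻¹ ∈ K := conj_mem_of_mem_normalizer (hQK (hVQ hv)) hk
      rw [commutatorElement_def]
      exact K.mul_mem h1 (K.inv_mem hk)
    have huR : ⁅v, k⁆ ∈ R := hKQR ⟨huK, hVQ huV⟩
    refine ⟨huV, mem_omegaCenterOf_iff.mpr ⟨huR, ?_, ?_⟩⟩
    · exact Subgroup.centralizer_le hRQ (hVc huV)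
    · rw [pow_two]; exact hV2 _ huV
  have hle1 : ⁅V', K⁆ ≤ omegaCenterOf R := by
    rw [Subgroup.commutator_le]
    intro v hv k hk
    exact (hcomm v hv k hk).2
  have hle2 : ⁅⁅V', K⁆, K⁆ ≤ wOf K := Subgroup.commutator_mono hle1 le_rfl
  refine le_trans ?_ hle2
  rw [Subgroup.commutator_le]
  intro v hv k hk
  set u := ⁅v, k⁆ with hu
  have huV : u ∈ V' := (hcomm v hv k hk).1
  have huVK : u ∈ ⁅V', K⁆ := Subgroup.commutator_mem_commutator hv hk
  -- abelian, exponent 2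
  have hab : ∀ a ∈ V', ∀ b ∈ V', a * b = b * a := fun a ha b hb =>
    (Subgroup.mem_centralizer_iff.mp (hVc ha) b (hVQ hb)).symm
  have hinv : ∀ a ∈ V', a⁻¹ = a := fun a ha => by
    have := hV2 a ha
    exact inv_eq_of_mul_eq_one_left this
  -- `k³` centralizes `V'`
  have hk3 : k ^ 3 ∈ R := pow_three_mem hK hk
  have hk3c : k ^ 3 * v * (k ^ 3)⁻¹ = v := by
    have := Subgroup.mem_centralizer_iff.mp (hVc hv) _ (hRQ hk3)
    calc k ^ 3 * v * (k ^ 3)⁻¹ = (k ^ 3 * v) * (k ^ 3)⁻¹ := by group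
      _ = (v * k ^ 3) * (k ^ 3)⁻¹ := by rw [this]
      _ = v := by group
  have hc1 : k * v * k⁻¹ ∈ V' := conj_mem_of_mem_normalizer (hKV hk) hv
  have hc2 : k * (k * v * k⁻¹) * k⁻¹ ∈ V' := conj_mem_of_mem_normalizer (hKV hk) hc1
  have hu_eq : u = v * (k * v * k⁻¹) := by
    rw [hu, commutatorElement_def]
    have : v * k * v⁻¹ * k⁻¹ = v * (k * v⁻¹ * k⁻¹) := by group
    rw [this, hinv v hv]
  have hcu : k * u * k⁻¹ = (k * v * k⁻¹) * (k * (k * v * k⁻¹) * k⁻¹) := by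
    rw [hu_eq]; group
  have hccu : k * (k * u * k⁻¹) * k⁻¹ = (k * (k * v * k⁻¹) * k⁻¹) * v := by
    rw [hcu]
    have : k * (k * v * k⁻¹ * (k * (k * v * k⁻¹) * k⁻¹)) * k⁻¹ =
        (k * (k * v * k⁻¹) * k⁻¹) * (k ^ 3 * v * (k ^ 3)⁻¹) := by
      rw [pow_three']; group
    rw [this, hk3c]
  have hcuV : k * u * k⁻¹ ∈ V' := conj_mem_of_mem_normalizer (hKV hk) huV
  -- `u * u^k * u^{k²} = 1`
  have hprod : u * (k * u * k⁻¹) * (k * (k * u * k⁻¹) * k⁻¹) = 1 := by
    rw [hccu, hcu, hu_eq]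
    set a := k * v * k⁻¹ with ha
    set b := k * a * k⁻¹ with hb
    calc v * a * (a * b) * (b * v) = v * (a * a) * (b * b) * v := by group
      _ = v * v := by rw [hV2 a hc1, hV2 b hc2]; group
      _ = 1 := hV2 v hv
  -- `u = k [u,k] k⁻¹`
  have hfin : u = k * ⁅u, k⁆ * k⁻¹ := by
    have h1 : ⁅u, k⁆ = u * (k * u * k⁻¹) := by
      rw [commutatorElement_def]
      have : u * k * u⁻¹ * k⁻¹ = u * (k * u⁻¹ * k⁻¹) := by group
      rw [this, hinv u huV]
    have h2 : k * ⁅u, k⁆ * k⁻¹ = (k * u * k⁻¹) * (k * (k * u * k⁻¹) * k⁻¹) := by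
      rw [h1]; group
    rw [h2]
    have h3 : (k * u * k⁻¹) * (k * (k * u * k⁻¹) * k⁻¹) = u⁻¹ := by
      apply eq_inv_of_mul_eq_one_right
      rw [← mul_assoc]; exact hprod
    rw [h3, hinv u huV]
  rw [hfin]
  have hN : K ≤ Subgroup.normalizer ((⁅⁅V', K⁆, K⁆ : Subgroup G) : Set G) :=
    le_sup_right.trans (sup_le_normalizer_commutator ⁅V', K⁆ K)
  exact conj_mem_of_mem_normalizer (hN hk) (Subgroup.commutator_mem_commutator huVK hk)

end Comp

end Cfsg.Agent.Lib.Helper49.JC
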