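import Cfsg.Agent.Lib.Helper49.JC.Four
import Cfsg.Agent.Lib.Helper49.JC.MaxEA
import Cfsg.Agent.Lib.Helper49.CommNorm
import Cfsg.Agent.Lib.Helper49.CharP
import Cfsg.Agent.Lib.Helper47.Subnormal
import Cfsg.Agent.Lib.Helper33.SylIn

/-!
# Structure of `⟨K, J(T)⟩` for a `J(T)`-component `K`

`J = J(T)` normalizes `K`; `R = O₂(K)` has index 3 in `K`; `W = W_K` is a four-group in `Z(R)`, normal in
`X = KJ`, on which every element of `K ∖ R` acts fixed-point-freely; `C_X(W)` is a normal 2-subgroup of `X`.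
-/

set_option autoImplicit false
set_option linter.unusedSectionVars false

namespace Cfsg.Agent.Lib.Helper49.JC

open Cfsg Cfsg.Agent.Lib.Helper49 Cfsg.Agent.Lib.Helper97 Cfsg.Agent.Lib.Helper33
open scoped commutatorElement

universe u

variable {G : Type u} [Group G]

section General

/-- elements of `H ⊔ C` are products when `H` normalizes `C`. -/
theorem exists_mul_of_mem_sup {H C : Subgroup G} (h : H ≤ Subgroup.normalizer (C : Set G)) {x : G}
    (hx : x ∈ H ⊔ C) : ∃ s ∈ H, ∃ c ∈ C, x = s * c := by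
  rw [Subgroup.sup_eq_closure] at hx
  induction hx using Subgroup.closure_induction with
  | mem y hy =>
    rcases hy with hy | hy
    · exact ⟨y, hy, 1, C.one_mem, by simp⟩
    · exact ⟨1, H.one_mem, y, hy, by simp⟩
  | one => exact ⟨1, H.one_mem, 1, C.one_mem, by simp⟩
  | mul a b _ _ ha hb =>
    obtain ⟨s, hs, c, hc, rfl⟩ := ha
    obtain ⟨s', hs', c', hc', rfl⟩ := hb
    refine ⟨s * s', H.mul_mem hs hs', s'⁻¹ * c * s' * c', C.mul_mem ?_ hc', by group⟩
    have := (Subgroup.mem_normalizer_iff''.mp (h hs') c).mp hc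
    exact this
  | inv a _ ha =>
    obtain ⟨s, hs, c, hc, rfl⟩ := ha
    refine ⟨s⁻¹, H.inv_mem hs, s * c⁻¹ * s⁻¹, ?_, by group⟩
    exact (Subgroup.mem_normalizer_iff.mp (h hs) c⁻¹).mp (C.inv_mem hc)

theorem conj_mem_of_mem_normalizer {H : Subgroup G} {g x : G}
    (hg : g ∈ Subgroup.normalizer (H : Set G)) (hx : x ∈ H) : g * x * g⁻¹ ∈ H :=
  (Subgroup.mem_normalizer_iff.mp hg x).mp hx

theorem conj_inv_mem_of_mem_normalizer {H : Subgroup G} {g x : G}
    (hg : g ∈ Subgroup.normalizer (H : Set G)) (hx : x ∈ H) : g⁻¹ * x * g ∈ H := by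
  have := (Subgroup.mem_normalizer_iff.mp (Subgroup.inv_mem _ hg) x).mp hx
  simpa using this

/-- an element normalizing `A` and `B` normalizes `[A, B]`. -/
theorem mem_normalizer_commutator {A B : Subgroup G} {g : G}
    (hA : g ∈ Subgroup.normalizer (A : Set G)) (hB : g ∈ Subgroup.normalizer (B : Set G)) :
    g ∈ Subgroup.normalizer ((⁅A, B⁆ : Subgroup G) : Set G) := by
  have key : ∀ m : G, m ∈ Subgroup.normalizer (A : Set G) → m ∈ Subgroup.normalizer (B : Set G) →
      ∀ x ∈ ⁅A, B⁆, m * x * m⁻¹ ∈ ⁅A, B⁆ := by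
    intro m hmA hmB x hx
    have hle : ⁅A, B⁆ ≤ (⁅A, B⁆ : Subgroup G).comap (MulAut.conj m).toMonoidHom := by
      rw [Subgroup.commutator_le]
      intro a ha b hb
      rw [Subgroup.mem_comap, map_commutatorElement]
      exact Subgroup.commutator_mem_commutator (conj_mem_of_mem_normalizer hmA ha)
        (conj_mem_of_mem_normalizer hmB hb)
    exact hle hx
  apply mem_normalizer_of_conj_mem (key g hA hB)
  intro x hx
  have := key g⁻¹ (Subgroup.inv_mem _ hA) (Subgroup.inv_mem _ hB) x hx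
  simpa using this

theorem normalizer_le_normalizer_omegaCenterOf (R : Subgroup G) :
    Subgroup.normalizer (R : Set G) ≤ Subgroup.normalizer ((omegaCenterOf R : Subgroup G) : Set G) := by
  intro g hg
  apply mem_normalizer_of_conj_mem
  · intro z hz; exact conj_mem_omegaCenterOf hg hz
  · intro z hz
    have := conj_mem_omegaCenterOf (Subgroup.inv_mem _ hg) hz
    simpa using this

theorem normalizer_le_normalizer_wOf (K : Subgroup G) :
    Subgroup.normalizer (K : Set G) ≤ Subgroup.normalizer ((wOf K : Subgroup G) : Set G) := by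
  intro g hg
  unfold wOf
  apply mem_normalizer_commutator _ hg
  apply normalizer_le_normalizer_omegaCenterOf
  exact Cfsg.Agent.Lib.Helper47.normalizer_le_normalizer_pCoreOf 2 K hg

theorem wOf_le_omegaCenterOf (K : Subgroup G) : wOf K ≤ omegaCenterOf (pCoreOf 2 K) := by
  unfold wOf
  have h1 : K ≤ Subgroup.normalizer ((omegaCenterOf (pCoreOf 2 K) : Subgroup G) : Set G) :=
    (Subgroup.le_normalizer.trans (Cfsg.Agent.Lib.Helper47.normalizer_le_normalizer_pCoreOf 2 K)).trans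
      (normalizer_le_normalizer_omegaCenterOf _)
  exact Subgroup.le_normalizer_iff_commutator_le_left.mp h1

theorem wOf_le_pCoreOf (K : Subgroup G) : wOf K ≤ pCoreOf 2 K :=
  (wOf_le_omegaCenterOf K).trans (omegaCenterOf_le _)

theorem pCoreOf_le_centralizer_wOf (K : Subgroup G) :
    pCoreOf 2 K ≤ Subgroup.centralizer ((wOf K : Subgroup G) : Set G) := by
  intro r hr
  apply Subgroup.mem_centralizer_iff.mpr
  intro w hw
  have := omegaCenterOf_le_centralizer _ (wOf_le_omegaCenterOf K hw)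
  exact (Subgroup.mem_centralizer_iff.mp this r hr).symm

end General

section JComp

variable [Finite G] {T K : Subgroup G}

theorem isFour_wOf (hK : IsJComponent T K) : IsFour (wOf K) :=
  ⟨hK.2.2.2.2.1, hK.2.2.2.2.2⟩

theorem J_le_normalizer (hK : IsJComponent T K) :
    thompsonSubgroupOf 2 T ≤ Subgroup.normalizer (K : Set G) := by
  have h := sup_le_normalizer_commutator K (thompsonSubgroupOf 2 T)
  rw [hK.2.1] at h
  exact le_sup_right.trans h

theorem sup_le_normalizer (hK : IsJComponent T K) :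
    K ⊔ thompsonSubgroupOf 2 T ≤ Subgroup.normalizer (K : Set G) :=
  sup_le Subgroup.le_normalizer (J_le_normalizer hK)

theorem sup_le_normalizer_wOf (hK : IsJComponent T K) :
    K ⊔ thompsonSubgroupOf 2 T ≤ Subgroup.normalizer ((wOf K : Subgroup G) : Set G) :=
  (sup_le_normalizer hK).trans (normalizer_le_normalizer_wOf K)

theorem sup_le_normalizer_pCoreOf (hK : IsJComponent T K) :
    K ⊔ thompsonSubgroupOf 2 T ≤ Subgroup.normalizer ((pCoreOf 2 K : Subgroup G) : Set G) :=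
  (sup_le_normalizer hK).trans (Cfsg.Agent.Lib.Helper47.normalizer_le_normalizer_pCoreOf 2 K)

theorem isPGroup_J (hT : IsPGroup 2 T) : IsPGroup 2 (thompsonSubgroupOf 2 T) :=
  hT.to_le (thompsonSubgroupOf_le 2 T)

/-- `d³ ∈ R` for `d ∈ K`. -/
theorem pow_three_mem (hK : IsJComponent T K) {d : G} (hd : d ∈ K) : d ^ 3 ∈ pCoreOf 2 K := by
  have hn : ((pCoreOf 2 K).subgroupOf K).Normal := by
    rw [Subgroup.normal_subgroupOf_iff_le_normalizer (Cfsg.Agent.Lib.Helper47.pCoreOf_le 2 K)]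
    exact Subgroup.le_normalizer.trans (Cfsg.Agent.Lib.Helper47.normalizer_le_normalizer_pCoreOf 2 K)
  have hidx : ((pCoreOf 2 K).subgroupOf K).index = 3 := hK.2.2.1
  have := Subgroup.pow_index_mem ((pCoreOf 2 K).subgroupOf K) (⟨d, hd⟩ : K)
  rw [hidx] at this
  exact Subgroup.mem_subgroupOf.mp this

/-- `K` does not centralize `W_K`. -/
theorem not_le_centralizer_wOf (hK : IsJComponent T K) :
    ¬ K ≤ Subgroup.centralizer ((wOf K : Subgroup G) : Set G) := by
  intro hcen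
  have hW := isFour_wOf hK
  have hbot : wOf K = ⊥ := by
    unfold wOf
    rw [Subgroup.commutator_eq_bot_iff_le_centralizer]
    intro u hu
    apply Subgroup.mem_centralizer_iff.mpr
    intro k hk
    -- c = k u k⁻¹ u⁻¹ ∈ W
    set c := k * u * k⁻¹ * u⁻¹ with hc
    have hcW : c ∈ wOf K := by
      have h1 : ⁅u, k⁆ ∈ wOf K := Subgroup.commutator_mem_commutator hu hk
      have h2 : c = ⁅u, k⁆⁻¹ := by rw [hc, commutatorElement_def]; group
      rw [h2]; exact Subgroup.inv_mem _ h1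
    have hkc : Commute k c :=
      (Subgroup.mem_centralizer_iff.mp (hcen hk) c hcW).symm
    have hconj : k * u * k⁻¹ = c * u := by rw [hc]; group
    have h3 := conj_pow_of_commute hkc hconj 3
    have hk3 : k ^ 3 ∈ pCoreOf 2 K := pow_three_mem hK hk
    have hu' := omegaCenterOf_le_centralizer _ hu
    have h4 : k ^ 3 * u = u * k ^ 3 := Subgroup.mem_centralizer_iff.mp hu' _ hk3
    have h5 : k ^ 3 * u * (k ^ 3)⁻¹ = u := by rw [h4]; group
    rw [h5] at h3
    have h6 : c ^ 3 = 1 := by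
      have : c ^ 3 * u = 1 * u := by rw [← h3, one_mul]
      exact mul_right_cancel this
    have h7 : c * c = 1 := hW.sq c hcW
    have h8 : c = 1 := by
      calc c = c ^ 3 * (c * c)⁻¹ := by group
        _ = 1 := by rw [h6, h7]; simp
    -- so k u k⁻¹ = u
    rw [h8, one_mul] at hconj
    calc k * u = (k * u * k⁻¹) * k := by group
      _ = u * k := by rw [hconj]
  have := hW.card
  rw [hbot, Subgroup.card_bot] at this
  norm_num at this

/-- `C_K(W_K) = O₂(K)`. -/
theorem inf_centralizer_wOf (hK : IsJComponent T K) :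
    K ⊓ Subgroup.centralizer ((wOf K : Subgroup G) : Set G) = pCoreOf 2 K := by
  set C := K ⊓ Subgroup.centralizer ((wOf K : Subgroup G) : Set G) with hC
  have hRC : pCoreOf 2 K ≤ C :=
    le_inf (Cfsg.Agent.Lib.Helper47.pCoreOf_le 2 K) (pCoreOf_le_centralizer_wOf K)
  have hCK : C ≤ K := inf_le_left
  have h1 := Subgroup.relIndex_mul_relIndex (pCoreOf 2 K) C K hRC hCK
  rw [hK.2.2.1] at h1
  have h2 : C.relIndex K ≠ 1 := by
    intro h
    rw [Subgroup.relIndex_eq_one] at h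
    exact not_le_centralizer_wOf hK (h.trans inf_le_right)
  have h3 : C.relIndex K ∣ 3 := Dvd.intro_left _ h1
  have h4 : C.relIndex K = 3 := by
    rcases (Nat.dvd_prime Nat.prime_three).mp h3 with h | h
    · exact absurd h h2
    · exact h
  rw [h4] at h1
  have h5 : (pCoreOf 2 K).relIndex C = 1 := by omega
  rw [Subgroup.relIndex_eq_one] at h5
  exact le_antisymm h5 hRC

/-- elements of `K ∖ O₂(K)` act fixed-point-freely on `W_K`. -/
theorem eq_one_of_conj_eq (hK : IsJComponent T K) {d : G} (hd : d ∈ K) (hdR : d ∉ pCoreOf 2 K)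
    {w : G} (hw : w ∈ wOf K) (h : d * w * d⁻¹ = w) : w = 1 := by
  by_contra hne
  have hW := isFour_wOf hK
  have hdN : d ∈ Subgroup.normalizer ((wOf K : Subgroup G) : Set G) :=
    sup_le_normalizer_wOf hK (le_sup_left (b := thompsonSubgroupOf 2 T) hd)
  have hdW : ∀ v ∈ wOf K, d * v * d⁻¹ ∈ wOf K := fun v hv => conj_mem_of_mem_normalizer hdN hv
  have h2 : d * d ∈ K ⊓ Subgroup.centralizer ((wOf K : Subgroup G) : Set G) := by
    refine ⟨K.mul_mem hd hd, ?_⟩
    apply Subgroup.mem_centralizer_iff.mpr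
    intro v hv
    have := hW.sq_centralizes hw hne hdW h hv
    calc v * (d * d) = ((d * d) * v * (d * d)⁻¹)  * (d * d) := by rw [this]
      _ = d * d * v := by group
  rw [inf_centralizer_wOf hK] at h2
  apply hdR
  have h3 := pow_three_mem hK hd
  have : d = d ^ 3 * (d * d)⁻¹ := by group
  rw [this]
  exact Subgroup.mul_mem _ h3 (Subgroup.inv_mem _ h2)

/-- `K = R ∪ dR ∪ d²R` for `d ∈ K ∖ R`. -/
theorem mem_cosets (hK : IsJComponent T K) {d : G} (hd : d ∈ K) (hdR : d ∉ pCoreOf 2 K)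
    {k : G} (hk : k ∈ K) :
    k ∈ pCoreOf 2 K ∨ d⁻¹ * k ∈ pCoreOf 2 K ∨ (d * d)⁻¹ * k ∈ pCoreOf 2 K := by
  have hn : ((pCoreOf 2 K).subgroupOf K).Normal := by
    rw [Subgroup.normal_subgroupOf_iff_le_normalizer (Cfsg.Agent.Lib.Helper47.pCoreOf_le 2 K)]
    exact Subgroup.le_normalizer.trans (Cfsg.Agent.Lib.Helper47.normalizer_le_normalizer_pCoreOf 2 K)
  have hcard : Nat.card (↥K ⧸ (pCoreOf 2 K).subgroupOf K) = 3 := hK.2.2.1
  have : Fact (Nat.Prime 3) := ⟨Nat.prime_three⟩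
  set q : ↥K ⧸ (pCoreOf 2 K).subgroupOf K := QuotientGroup.mk (⟨d, hd⟩ : K) with hq
  have hq1 : q ≠ 1 := by
    intro h
    rw [hq, QuotientGroup.eq_one_iff] at h
    exact hdR (Subgroup.mem_subgroupOf.mp h)
  obtain ⟨n, hn'⟩ := mem_powers_of_prime_card hcard hq1
    (g' := (QuotientGroup.mk (⟨k, hk⟩ : K) : ↥K ⧸ (pCoreOf 2 K).subgroupOf K))
  have hq3 : q ^ 3 = 1 := by
    have := pow_card_eq_one' (G := ↥K ⧸ (pCoreOf 2 K).subgroupOf K) (x := q)
    rwa [hcard] at this
  have hn3 : q ^ n = q ^ (n % 3) := by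
    conv_lhs => rw [← Nat.div_add_mod n 3]
    rw [pow_add, pow_mul, hq3, one_pow, one_mul]
  have hn'' : q ^ (n % 3) = QuotientGroup.mk (⟨k, hk⟩ : K) := by rw [← hn3]; exact hn'
  have hlt : n % 3 < 3 := Nat.mod_lt _ (by norm_num)
  interval_cases hm : n % 3
  · left
    rw [pow_zero] at hn''
    have := (QuotientGroup.eq_one_iff _).mp hn''.symm
    exact Subgroup.mem_subgroupOf.mp this
  · right; left
    rw [pow_one, hq] at hn''
    have := QuotientGroup.eq.mp hn''
    exact Subgroup.mem_subgroupOf.mp this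
  · right; right
    rw [pow_two, hq, ← QuotientGroup.mk_mul] at hn''
    have := QuotientGroup.eq.mp hn''
    exact Subgroup.mem_subgroupOf.mp this

theorem isSylowTwoIn_iff_sylIn {S X : Subgroup G} : IsSylowTwoIn S X ↔ SylIn 2 S X := by
  unfold IsSylowTwoIn SylIn
  rw [Nat.odd_iff, Nat.two_dvd_ne_zero]

/-- a Sylow 2-subgroup of `KJ` containing `J`; its Thompson subgroup is `J`. -/
theorem exists_sylow (hT : IsPGroup 2 T) (hK : IsJComponent T K) :
    ∃ S : Subgroup G, IsSylowTwoIn S (K ⊔ thompsonSubgroupOf 2 T) ∧ thompsonSubgroupOf 2 T ≤ S ∧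
      thompsonSubgroupOf 2 S = thompsonSubgroupOf 2 T := by
  have : Fact (Nat.Prime 2) := ⟨Nat.prime_two⟩
  set X := K ⊔ thompsonSubgroupOf 2 T with hX
  obtain ⟨Q, hQ⟩ := ((isPGroup_J hT).comap_subtype (K := X)).exists_le_sylow
  have hS : SylIn 2 ((Q : Subgroup X).map X.subtype) X := sylIn_of_sylow Q
  have hJS : thompsonSubgroupOf 2 T ≤ (Q : Subgroup X).map X.subtype := by
    intro j hj
    exact ⟨⟨j, le_sup_right (a := K) hj⟩, hQ hj, rfl⟩
  have hS' := isSylowTwoIn_iff_sylIn.mpr hS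
  exact ⟨_, hS', hJS, hK.2.2.2.1 _ hS' hJS⟩

/-- `C_X(W)` is a 2-group. -/
theorem isPGroup_inf_centralizer (hT : IsPGroup 2 T) (hK : IsJComponent T K) :
    IsPGroup 2 ↥((K ⊔ thompsonSubgroupOf 2 T) ⊓ Subgroup.centralizer ((wOf K : Subgroup G) : Set G)) := by
  have : Fact (Nat.Prime 2) := ⟨Nat.prime_two⟩
  apply isPGroup_of_forall_coprime_eq_one
  intro x hx
  rw [← Subgroup.orderOf_coe] at hx
  have hxK : (x : G) ∈ K :=
    mem_of_mem_sup_of_coprime_orderOf (isPGroup_J hT) (J_le_normalizer hK) x.2.1 hx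
  have hxR : (x : G) ∈ pCoreOf 2 K := by
    rw [← inf_centralizer_wOf hK]
    exact ⟨hxK, x.2.2⟩
  obtain ⟨k, hk⟩ := (Cfsg.Agent.Lib.Helper47.pCoreOf_isPGroup 2 K) ⟨(x : G), hxR⟩
  have hk' : (x : G) ^ 2 ^ k = 1 := by
    have := congrArg Subtype.val hk
    simpa using this
  have h1 : orderOf (x : G) ∣ 2 ^ k := orderOf_dvd_of_pow_eq_one hk'
  have h2 : orderOf (x : G) = 1 := Nat.Coprime.eq_one_of_dvd (Nat.Coprime.pow_right k hx) h1
  apply Subtype.ext
  exact orderOf_eq_one_iff.mp h2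

/-- `X` normalizes `C_X(W)`. -/
theorem sup_le_normalizer_inf_centralizer (hK : IsJComponent T K) :
    K ⊔ thompsonSubgroupOf 2 T ≤ Subgroup.normalizer
      (((K ⊔ thompsonSubgroupOf 2 T) ⊓ Subgroup.centralizer ((wOf K : Subgroup G) : Set G) : Subgroup G) : Set G) := by
  apply le_normalizer_of_forall_conj_mem
  intro x hx q hq
  refine ⟨Subgroup.mul_mem _ (Subgroup.mul_mem _ hx hq.1) (Subgroup.inv_mem _ hx), ?_⟩
  have h1 : x ∈ Subgroup.normalizer ((Subgroup.centralizer ((wOf K : Subgroup G) : Set G) : Subgroup G) : Set G) :=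
    normalizer_le_normalizer_centralizer _ (sup_le_normalizer_wOf hK hx)
  exact conj_mem_of_mem_normalizer h1 hq.2

/-- `C_X(W)` lies in every Sylow 2-subgroup of `X`. -/
theorem inf_centralizer_le_sylow (hT : IsPGroup 2 T) (hK : IsJComponent T K) {S : Subgroup G}
    (hS : IsSylowTwoIn S (K ⊔ thompsonSubgroupOf 2 T)) :
    (K ⊔ thompsonSubgroupOf 2 T) ⊓ Subgroup.centralizer ((wOf K : Subgroup G) : Set G) ≤ S := by
  have : Fact (Nat.Prime 2) := ⟨Nat.prime_two⟩
  have hS' := isSylowTwoIn_iff_sylIn.mp hS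
  obtain ⟨n, hn, hle⟩ := hS'.exists_cj_le (inf_le_left : (K ⊔ thompsonSubgroupOf 2 T) ⊓
    Subgroup.centralizer ((wOf K : Subgroup G) : Set G) ≤ _) (isPGroup_inf_centralizer hT hK)
  rw [cj_eq_self_of_mem_normalizer (sup_le_normalizer_inf_centralizer hK hn)] at hle
  exact hle

theorem pCoreOf_le_sylow' (hT : IsPGroup 2 T) (hK : IsJComponent T K) {S : Subgroup G}
    (hS : IsSylowTwoIn S (K ⊔ thompsonSubgroupOf 2 T)) : pCoreOf 2 K ≤ S := by
  refine le_trans ?_ (inf_centralizer_le_sylow hT hK hS)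
  exact le_inf ((Cfsg.Agent.Lib.Helper47.pCoreOf_le 2 K).trans le_sup_left) (pCoreOf_le_centralizer_wOf K)

/-- `X = S ∪ dS ∪ d²S`. -/
theorem exists_pow_mul (hT : IsPGroup 2 T) (hK : IsJComponent T K) {S : Subgroup G}
    (hS : IsSylowTwoIn S (K ⊔ thompsonSubgroupOf 2 T)) (hJS : thompsonSubgroupOf 2 T ≤ S)
    {d : G} (hd : d ∈ K) (hdR : d ∉ pCoreOf 2 K) {x : G} (hx : x ∈ K ⊔ thompsonSubgroupOf 2 T) :
    ∃ i : ℕ, ∃ s ∈ S, x = d ^ i * s := by
  have hx' : x⁻¹ ∈ thompsonSubgroupOf 2 T ⊔ K := by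
    rw [sup_comm]; exact Subgroup.inv_mem _ hx
  obtain ⟨j, hj, k, hk, hjk⟩ := exists_mul_of_mem_sup (J_le_normalizer hK) hx'
  have hxe : x = k⁻¹ * j⁻¹ := by
    have : x = (x⁻¹)⁻¹ := (inv_inv x).symm
    rw [this, hjk, mul_inv_rev]
  have hRS := pCoreOf_le_sylow' hT hK hS
  rcases mem_cosets hK hd hdR (K.inv_mem hk) with h | h | h
  · refine ⟨0, k⁻¹ * j⁻¹, S.mul_mem (hRS h) (S.inv_mem (hJS hj)), ?_⟩
    rw [hxe]; simp
  · refine ⟨1, (d⁻¹ * k⁻¹) * j⁻¹, S.mul_mem (hRS h) (S.inv_mem (hJS hj)), ?_⟩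
    rw [hxe]; group
  · refine ⟨2, ((d * d)⁻¹ * k⁻¹) * j⁻¹, S.mul_mem (hRS h) (S.inv_mem (hJS hj)), ?_⟩
    rw [hxe]; group

end JComp

end Cfsg.Agent.Lib.Helper49.JC
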