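import Cfsg.Agent.Lib.Helper49.JC.Over
import Cfsg.Agent.Lib.Helper97.Frattini
import Cfsg.Agent.S2941

/-!
# `J(T)`-components inside `L ∈ 𝓛(T)`: normalized by `C_L(W)`, contained in the odd core, subnormal
-/

set_option autoImplicit false
set_option linter.unusedSectionVars false

namespace Cfsg.Agent.Lib.Helper49.JC

open Cfsg Cfsg.Agent.Lib.Helper49 Cfsg.Agent.Lib.Helper97 Cfsg.Agent.Lib.Helper33
  Cfsg.Agent.Lib.Helper47 Cfsg.Agent.Lib.Helper49.FF620
open scoped commutatorElement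

universe u

variable {G : Type u} [Group G] [Finite G] {T L K : Subgroup G}

attribute [local instance] bigW_characteristic Jk_characteristic

/-- `C_L(W)` as a subgroup of `G`. -/
abbrev CW (L : Subgroup G) : Subgroup G :=
  (Subgroup.centralizer ((Wk 2 ↥L : Subgroup ↥L) : Set ↥L)).map L.subtype

theorem CW_le (L : Subgroup G) : CW L ≤ L := Subgroup.map_subtype_le _

theorem le_normalizer_map_subtype_of_normal (N : Subgroup ↥L) [hN : N.Normal] :
    L ≤ Subgroup.normalizer ((N.map L.subtype : Subgroup G) : Set G) := by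
  apply le_normalizer_of_forall_conj_mem
  rintro l hl _ ⟨n, hn, rfl⟩
  exact ⟨⟨l, hl⟩ * n * ⟨l, hl⟩⁻¹, hN.conj_mem n hn ⟨l, hl⟩, rfl⟩

theorem le_normalizer_CW (L : Subgroup G) : L ≤ Subgroup.normalizer ((CW L : Subgroup G) : Set G) :=
  have : (Subgroup.centralizer ((Wk 2 ↥L : Subgroup ↥L) : Set ↥L)).Normal := Subgroup.normal_centralizer
  le_normalizer_map_subtype_of_normal _

/-- `C_L(W)` normalizes every `J(T)`-component of `L`. -/
theorem CW_le_normalizer (hL : IsCharacteristicTwoType G)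
    (hN : ∀ N : Subgroup G, IsTwoLocal N → Group.IsSolvable ↥N)
    (hZ : ∀ S : Sylow 2 G, Subgroup.centralizer (omegaCenterOf (S : Subgroup G) : Set G) ≤
      Subgroup.normalizer ((S : Subgroup G) : Set G))
    (hT : IsPGroup 2 ↥T) (hT1 : T ≠ ⊥) (hLT : L ∈ jOvergroups T) (hK : IsJComponent T K)
    (hKL : K ≤ L) : CW L ≤ Subgroup.normalizer (K : Set G) := by
  apply Cfsg.Agent.S2941.result hL hN hZ T hT hT1 K hK
  · refine le_trans (sup_le hKL ?_) (le_normalizer_CW L)
    exact (thompsonSubgroupOf_le 2 T).trans (sylIn_of_mem hLT).le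
  · exact (centralizer_Wk_le_normalizer hZ hLT).trans (normalizer_le_normalizer_thompsonSubgroupOf 2 T)

/-- a `J(T)`-component of `L` lies in `J(L)`. -/
theorem le_map_Jk (hLT : L ∈ jOvergroups T) (hK : IsJComponent T K) (hKL : K ≤ L) :
    K ≤ (Jk 2 ↥L).map L.subtype := by
  have hJn : L ≤ Subgroup.normalizer (((Jk 2 ↥L).map L.subtype : Subgroup G) : Set G) :=
    le_normalizer_map_subtype_of_normal _
  have hJ := thompsonSubgroupOf_le_map_Jk (sylIn_of_mem hLT)
  rw [← hK.2.1, Subgroup.commutator_le]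
  intro k hk j hj
  have h1 : k * j * k⁻¹ ∈ (Jk 2 ↥L).map L.subtype := conj_mem_of_mem_normalizer (hJn (hKL hk)) (hJ hj)
  rw [commutatorElement_def]
  exact Subgroup.mul_mem _ h1 (Subgroup.inv_mem _ (hJ hj))

/-- **S2942.** -/
theorem isSubnormal_subgroupOf (hL : IsCharacteristicTwoType G)
    (hN : ∀ N : Subgroup G, IsTwoLocal N → Group.IsSolvable ↥N)
    (hZ : ∀ S : Sylow 2 G, Subgroup.centralizer (omegaCenterOf (S : Subgroup G) : Set G) ≤
      Subgroup.normalizer ((S : Subgroup G) : Set G))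
    (hT : IsPGroup 2 ↥T) (hT1 : T ≠ ⊥) (hLT : L ∈ jOvergroups T) (hK : IsJComponent T K)
    (hKL : K ≤ L) : (K.subgroupOf L).IsSubnormal := by
  obtain ⟨D, hDn, hCD, hDD, hodd⟩ :=
    exists_oddCore (isPSolvable_of_mem hN hLT hT1) (pPrimeCore_eq_bot_of_mem hLT)
  set C := Subgroup.centralizer ((Wk 2 ↥L : Subgroup ↥L) : Set ↥L) with hC
  set K' := K.subgroupOf L with hK'
  -- `K' ≤ D`
  have hKJ := le_map_Jk hLT hK hKL
  have hKD : K' ≤ D := by
    have h1 : K ≤ D.map L.subtype := by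
      rw [← hK.1, Subgroup.closure_le]
      rintro g ⟨hgK, hgo⟩
      obtain ⟨j, hj, rfl⟩ := hKJ hgK
      refine ⟨j, hodd j hj ?_, rfl⟩
      rwa [← Subgroup.orderOf_coe]
    intro x hx
    obtain ⟨d, hd, hdx⟩ := h1 (Subgroup.mem_subgroupOf.mp hx)
    have : d = x := Subtype.ext hdx
    rwa [← this]
  -- `C` normalizes `K'`
  have hCK : C ≤ Subgroup.normalizer (K' : Set ↥L) := by
    have h1 := CW_le_normalizer hL hN hZ hT hT1 hLT hK hKL
    apply le_normalizer_of_forall_conj_mem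
    intro c hc x hx
    rw [hK', Subgroup.mem_subgroupOf] at hx ⊢
    have hc' : (c : G) ∈ CW L := ⟨c, hc, rfl⟩
    exact conj_mem_of_mem_normalizer (h1 hc') hx
  -- the chain
  have hMD : K' ⊔ C ≤ D := sup_le hKD hCD
  have step1 : D.IsSubnormal := hDn.isSubnormal
  have step2 : (K' ⊔ C).IsSubnormal := by
    refine Subgroup.IsSubnormal.step _ D hMD step1 ?_
    rw [Subgroup.normal_subgroupOf_iff_le_normalizer hMD]
    apply le_normalizer_of_forall_conj_mem
    intro d hd m hm
    have h1 : ⁅d, m⁆ ∈ C := hDD (Subgroup.commutator_mem_commutator hd (hMD hm))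
    have h2 : d * m * d⁻¹ = ⁅d, m⁆ * m := by rw [commutatorElement_def]; group
    rw [h2]
    exact Subgroup.mul_mem _ (Subgroup.mem_sup_right h1) hm
  refine Subgroup.IsSubnormal.step _ (K' ⊔ C) le_sup_left step2 ?_
  rw [Subgroup.normal_subgroupOf_iff_le_normalizer le_sup_left]
  exact sup_le Subgroup.le_normalizer hCK

end Cfsg.Agent.Lib.Helper49.JC
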