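import Cfsg.Agent.Lib.Helper49.JC.Subn
import Cfsg.Agent.Lib.Helper46.Ambient
import Cfsg.Agent.Lib.Helper97.ThompsonMap

/-!
# Conjugation of `J(T)`-components, and uniqueness modulo `C_L(W)`

* `isJComponent_cj`: conjugates of `J(T)`-components are `J(T^g)`-components.
* `comm_sup_le`: `[KC, T ∩ N(K)] ≤ K(C ∩ T)` for `C` normalizing `K`, `T` and normalized by `T`.
* `le_of_le_sup_CW`: `J(T)`-components `K₁, K₂ ≤ L ∈ 𝓛(T)` with `K₂ ≤ K₁C_L(W)` satisfy `K₂ ≤ K₁`.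
-/

set_option autoImplicit false
set_option linter.unusedSectionVars false

namespace Cfsg.Agent.Lib.Helper49.JC

open Cfsg Cfsg.Agent.Lib.Helper49 Cfsg.Agent.Lib.Helper97 Cfsg.Agent.Lib.Helper33
  Cfsg.Agent.Lib.Helper47 Cfsg.Agent.Lib.Helper49.FF620
open scoped commutatorElement

universe u

variable {G : Type u} [Group G]

section Conj

variable [Finite G]

theorem thompsonSubgroupOf_cj (g : G) (T : Subgroup G) :
    thompsonSubgroupOf 2 (cj g T) = cj g (thompsonSubgroupOf 2 T) :=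
  thompsonSubgroupOf_map_of_injOn 2 (MulAut.conj g).toMonoidHom T
    (fun x _ hx => (MulAut.conj g).injective (by rw [MulEquiv.coe_toMonoidHom] at hx; rw [hx, map_one]))

theorem pCoreOf_cj (g : G) (K : Subgroup G) : pCoreOf 2 (cj g K) = cj g (pCoreOf 2 K) :=
  Cfsg.Agent.Lib.Helper46.pCoreOf_map (p := 2) K (MulAut.conj g)

theorem omegaCenterOf_cj (g : G) (R : Subgroup G) : omegaCenterOf (cj g R) = cj g (omegaCenterOf R) :=
  omegaOne_center_map_of_injOn 2 (MulAut.conj g).toMonoidHom R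
    (fun x _ hx => (MulAut.conj g).injective (by rw [MulEquiv.coe_toMonoidHom] at hx; rw [hx, map_one]))

theorem wOf_cj (g : G) (K : Subgroup G) : wOf (cj g K) = cj g (wOf K) := by
  unfold wOf
  rw [pCoreOf_cj, omegaCenterOf_cj, cj_commutator]

theorem isSylowTwoIn_cj {S X : Subgroup G} (g : G) (h : IsSylowTwoIn S X) :
    IsSylowTwoIn (cj g S) (cj g X) := by
  have : Fact (Nat.Prime 2) := ⟨Nat.prime_two⟩
  exact isSylowTwoIn_iff_sylIn.mpr ((isSylowTwoIn_iff_sylIn.mp h).cj g)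

/-- conjugates of `J(T)`-components are `J(T^g)`-components. -/
theorem isJComponent_cj {T K : Subgroup G} (g : G) (hK : IsJComponent T K) :
    IsJComponent (cj g T) (cj g K) := by
  obtain ⟨h1, h2, h3, h4, h5, h6⟩ := hK
  refine ⟨?_, ?_, ?_, ?_, ?_, ?_⟩
  · apply le_antisymm
    · rw [Subgroup.closure_le]
      rintro x ⟨hx, -⟩
      exact hx
    · nth_rewrite 1 [← h1]
      rw [cj_closure]
      apply Subgroup.closure_mono
      rintro _ ⟨x, ⟨hxK, hxo⟩, rfl⟩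
      refine ⟨conj_mem_cj hxK, ?_⟩
      have : orderOf (g * x * g⁻¹) = orderOf x := by
        simpa [MulAut.conj_apply] using MulEquiv.orderOf_eq (MulAut.conj g) x
      show Odd (orderOf (g * x * g⁻¹))
      rw [this]; exact hxo
  · rw [thompsonSubgroupOf_cj, ← cj_commutator, h2]
  · rw [pCoreOf_cj, relIndex_cj, h3]
  · intro S hS hJS
    rw [thompsonSubgroupOf_cj] at hJS hS ⊢
    have hS' : IsSylowTwoIn (cj g⁻¹ S) (K ⊔ thompsonSubgroupOf 2 T) := by
      have := isSylowTwoIn_cj g⁻¹ hS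
      rwa [cj_sup, cj_inv_cj, cj_inv_cj] at this
    have hJS' : thompsonSubgroupOf 2 T ≤ cj g⁻¹ S := by
      rw [← cj_le_iff]; exact hJS
    have := h4 _ hS' hJS'
    rw [← this, ← thompsonSubgroupOf_cj, cj_cj_inv]
  · rw [wOf_cj, card_cj, h5]
  · intro w hw
    rw [wOf_cj, mem_cj] at hw
    have := h6 _ hw
    calc w * w = g * ((g⁻¹ * w * g) * (g⁻¹ * w * g)) * g⁻¹ := by group
      _ = 1 := by rw [this]; group

end Conj

section Comm

variable {K C T L : Subgroup G}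

/-- `[KC, T ∩ N(K)] ≤ K(C ∩ T)`. -/
theorem comm_sup_le (hCK : C ≤ Subgroup.normalizer (K : Set G))
    (hCT : C ≤ Subgroup.normalizer (T : Set G)) (hTC : T ≤ Subgroup.normalizer (C : Set G)) :
    ⁅K ⊔ C, T ⊓ Subgroup.normalizer (K : Set G)⁆ ≤ K ⊔ (C ⊓ T) := by
  rw [Subgroup.commutator_le]
  rintro x hx s ⟨hsT, hsK⟩
  rw [sup_comm] at hx
  obtain ⟨c, hc, k, hk, rfl⟩ := exists_mul_of_mem_sup hCK hx
  have e : ⁅c * k, s⁆ = c * ⁅k, s⁆ * c⁻¹ * ⁅c, s⁆ := by
    simp only [commutatorElement_def]; group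
  rw [e]
  apply Subgroup.mul_mem
  · apply Subgroup.mem_sup_left
    apply conj_mem_of_mem_normalizer (hCK hc)
    rw [commutatorElement_def]
    have : s * k⁻¹ * s⁻¹ ∈ K := conj_mem_of_mem_normalizer hsK (K.inv_mem hk)
    have e2 : k * s * k⁻¹ * s⁻¹ = k * (s * k⁻¹ * s⁻¹) := by group
    rw [e2]; exact K.mul_mem hk this
  · apply Subgroup.mem_sup_right
    refine ⟨?_, ?_⟩
    · rw [commutatorElement_def]
      have : s * c⁻¹ * s⁻¹ ∈ C := conj_mem_of_mem_normalizer (hTC hsT) (C.inv_mem hc)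
      have e2 : c * s * c⁻¹ * s⁻¹ = c * (s * c⁻¹ * s⁻¹) := by group
      rw [e2]; exact C.mul_mem hc this
    · rw [commutatorElement_def]
      have : c * s * c⁻¹ ∈ T := conj_mem_of_mem_normalizer (hCT hc) hsT
      exact T.mul_mem this (T.inv_mem hsT)

/-- a subgroup generated by elements of odd order inside `K Q`, `Q` a 2-group normalizing `K`, lies in `K`. -/
theorem le_of_le_sup_of_odd {K₂ Q : Subgroup G} (hQ : IsPGroup 2 ↥Q)
    (hQK : Q ≤ Subgroup.normalizer (K : Set G))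
    (hgen : Subgroup.closure {g : G | g ∈ K₂ ∧ Odd (orderOf g)} = K₂) (hle : K₂ ≤ K ⊔ Q) : K₂ ≤ K := by
  rw [← hgen, Subgroup.closure_le]
  rintro g ⟨hg, hgo⟩
  exact mem_of_mem_sup_of_coprime_orderOf hQ hQK (hle hg) (Nat.Coprime.symm (Nat.coprime_two_left.mpr hgo))

end Comm

section Uniq

variable [Finite G] {T L K K₂ : Subgroup G}

/-- `L` normalizes `C_L(W)`, `C_L(W)` normalizes `T`, and the 2-group `C_L(W) ∩ T` normalizes `K`. -/
theorem le_of_comm_le (hL : IsCharacteristicTwoType G)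
    (hN : ∀ N : Subgroup G, IsTwoLocal N → Group.IsSolvable ↥N)
    (hZ : ∀ S : Sylow 2 G, Subgroup.centralizer (omegaCenterOf (S : Subgroup G) : Set G) ≤
      Subgroup.normalizer ((S : Subgroup G) : Set G))
    (hT : IsPGroup 2 ↥T) (hT1 : T ≠ ⊥) (hLT : L ∈ jOvergroups T) (hK : IsJComponent T K)
    (hKL : K ≤ L) {Y : Subgroup G} (hY : Y ≤ T ⊓ Subgroup.normalizer (K : Set G))
    (hgen : Subgroup.closure {g : G | g ∈ K₂ ∧ Odd (orderOf g)} = K₂)
    (hK₂ : K₂ ≤ ⁅K₂, Y⁆) (hle : K₂ ≤ K ⊔ CW L) : K₂ ≤ K := by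
  have hCK := CW_le_normalizer hL hN hZ hT hT1 hLT hK hKL
  have hCT := centralizer_Wk_le_normalizer hZ hLT
  have hTC : T ≤ Subgroup.normalizer ((CW L : Subgroup G) : Set G) :=
    (sylIn_of_mem hLT).le.trans (le_normalizer_CW L)
  have h1 : K₂ ≤ K ⊔ (CW L ⊓ T) :=
    hK₂.trans ((Subgroup.commutator_mono hle hY).trans (comm_sup_le hCK hCT hTC))
  exact le_of_le_sup_of_odd (hT.to_le inf_le_right) (inf_le_left.trans hCK) hgen h1

/-- **Uniqueness**: `J(T)`-components `K, K₂` of `L` with `K₂ ≤ K C_L(W)` satisfy `K₂ ≤ K`. -/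
theorem le_of_le_sup_CW (hL : IsCharacteristicTwoType G)
    (hN : ∀ N : Subgroup G, IsTwoLocal N → Group.IsSolvable ↥N)
    (hZ : ∀ S : Sylow 2 G, Subgroup.centralizer (omegaCenterOf (S : Subgroup G) : Set G) ≤
      Subgroup.normalizer ((S : Subgroup G) : Set G))
    (hT : IsPGroup 2 ↥T) (hT1 : T ≠ ⊥) (hLT : L ∈ jOvergroups T) (hK : IsJComponent T K)
    (hKL : K ≤ L) (hK₂ : IsJComponent T K₂) (hle : K₂ ≤ K ⊔ CW L) : K₂ ≤ K := by
  apply le_of_comm_le hL hN hZ hT hT1 hLT hK hKL (Y := thompsonSubgroupOf 2 T)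
    (le_inf (thompsonSubgroupOf_le 2 T) (J_le_normalizer hK)) hK₂.1 _ hle
  rw [hK₂.2.1]

end Uniq

end Cfsg.Agent.Lib.Helper49.JC
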