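import Cfsg.Agent.Lib.Helper49.JC.Gen
import Cfsg.Agent.Lib.Helper49.JC.Subn
import Cfsg.Agent.Lib.Helper49.JC.Plus

/-!
# Uniqueness of the maximal 2-local over `⟨K, J(T)⟩` (S2950)

Abstract zipper argument (`zipper_unique`) on joins of conjugates of `K` that are `J(T)`-components, and its
application to `K ∈ 𝒦*(M, T)` for `T ∈ 𝒯*(M)`.
-/

set_option autoImplicit false
set_option linter.unusedSectionVars false
set_option maxHeartbeats 1000000

namespace Cfsg.Agent.Lib.Helper49.JC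

open Cfsg Cfsg.Agent.Lib.Helper49 Cfsg.Agent.Lib.Helper97 Cfsg.Agent.Lib.Helper33
  Cfsg.Agent.Lib.Helper47 Cfsg.Agent.Lib.Helper72
open scoped commutatorElement

universe u

variable {G : Type u} [Group G] [Finite G]

/-- every 2-local lies in a maximal 2-local. -/
theorem exists_isMaximalTwoLocal_ge {N : Subgroup G} (hN : IsTwoLocal N) :
    ∃ L : Subgroup G, IsMaximalTwoLocal L ∧ N ≤ L := by
  classical
  have hfin : Set.Finite {L : Subgroup G | IsTwoLocal L ∧ N ≤ L} := Set.toFinite _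
  obtain ⟨L, hL, hmax⟩ := Set.exists_max_image _ (fun L : Subgroup G => Nat.card L) hfin ⟨N, hN, le_rfl⟩
  refine ⟨L, ⟨hL.1, fun N' hN' hLN' => ?_⟩, hL.2⟩
  have h1 := hmax N' ⟨hN', hL.2.trans hLN'⟩
  exact (Subgroup.eq_of_le_of_card_ge hLN' h1).symm

theorem isTwoLocal_normalizer_pCoreOf {H : Subgroup G} (h : pCoreOf 2 H ≠ ⊥) :
    IsTwoLocal (Subgroup.normalizer ((pCoreOf 2 H : Subgroup G) : Set G)) :=
  ⟨pCoreOf 2 H, Cfsg.Agent.Lib.Helper47.pCoreOf_isPGroup 2 H, h, rfl⟩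

theorem le_normalizer_sSup {X : Subgroup G} {𝒮 : Set (Subgroup G)}
    (h : ∀ K₁ ∈ 𝒮, X ≤ Subgroup.normalizer ((K₁ : Subgroup G) : Set G)) :
    X ≤ Subgroup.normalizer ((sSup 𝒮 : Subgroup G) : Set G) := by
  intro x hx
  rw [mem_normalizer_iff_cj_eq]
  apply le_antisymm
  · rw [cj_le_iff]
    apply sSup_le
    intro K₁ hK₁
    rw [← cj_le_iff, mem_normalizer_iff_cj_eq.mp (h K₁ hK₁ hx)]
    exact le_sSup hK₁
  · apply sSup_le
    intro K₁ hK₁
    have h1 : cj x K₁ ≤ cj x (sSup 𝒮) := cj_mono (le_sSup hK₁)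
    rwa [mem_normalizer_iff_cj_eq.mp (h K₁ hK₁ hx)] at h1

theorem relSN_bot (L : Subgroup G) : RelSN ⊥ L :=
  RelSN.of_normal bot_le (by intro x _; rw [mem_normalizer_iff_cj_eq, cj_bot])

theorem relSN_finset_sup (s : Finset (Subgroup G)) {L : Subgroup G} (h : ∀ K₁ ∈ s, RelSN K₁ L) :
    RelSN (s.sup id) L := by
  classical
  induction s using Finset.induction_on with
  | empty => rw [Finset.sup_empty]; exact relSN_bot L
  | insert a s ha ih =>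
    rw [Finset.sup_insert]
    exact RelSN.sup (h a (Finset.mem_insert_self a s))
      (ih fun K₁ hK₁ => h K₁ (Finset.mem_insert_of_mem hK₁))

theorem relSN_sSup {L : Subgroup G} {𝒮 : Set (Subgroup G)} (h : ∀ K₁ ∈ 𝒮, RelSN K₁ L) :
    RelSN (sSup 𝒮) L := by
  classical
  have hfin : 𝒮.Finite := Set.toFinite 𝒮
  have h1 := relSN_finset_sup hfin.toFinset (L := L) (fun K₁ hK₁ => h K₁ (hfin.mem_toFinset.mp hK₁))
  rwa [Finset.sup_id_eq_sSup, Set.Finite.coe_toFinset] at h1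

/-- **Abstract zipper argument.** -/
theorem zipper_unique (𝔎 : Set (Subgroup G)) (J K₀ : Subgroup G) (hK₀ : K₀ ∈ 𝔎)
    (a1 : ∀ K₁ ∈ 𝔎, J ≤ Subgroup.normalizer ((K₁ : Subgroup G) : Set G))
    (a2 : ∀ L' : Subgroup G, IsTwoLocal L' → K₀ ⊔ J ≤ L' → ∀ K₁ ∈ 𝔎, K₁ ≤ L' → RelSN K₁ L')
    (a3 : ∀ L' : Subgroup G, IsTwoLocal L' → K₀ ⊔ J ≤ L' → ∀ K₁ ∈ 𝔎, K₁ ≤ L' → ∀ x ∈ L', cj x K₁ ∈ 𝔎)
    (a4 : pCoreOf 2 K₀ ≠ ⊥) :
    ∀ n : ℕ, ∀ K' : Subgroup G, Nat.card G - Nat.card K' = n → K₀ ≤ K' →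
      K' ≤ sSup {K₁ | K₁ ∈ 𝔎 ∧ K₁ ≤ K'} →
      ∀ M₁ M₂ : Subgroup G, IsMaximalTwoLocal M₁ → IsMaximalTwoLocal M₂ → K' ⊔ J ≤ M₁ → K' ⊔ J ≤ M₂ →
        M₁ = M₂ := by
  intro n
  induction n using Nat.strong_induction_on with
  | _ n ih =>
    intro K' hn hK₀K' hgen M₁' M₂' hM₁' hM₂' hKM₁' hKM₂'
    have hK'eq : K' = sSup {K₁ | K₁ ∈ 𝔎 ∧ K₁ ≤ K'} := le_antisymm hgen (sSup_le fun _ h => h.2)
    have hJN : J ≤ Subgroup.normalizer ((K' : Subgroup G) : Set G) := by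
      have h1 : J ≤ Subgroup.normalizer ((sSup {K₁ | K₁ ∈ 𝔎 ∧ K₁ ≤ K'} : Subgroup G) : Set G) :=
        le_normalizer_sSup (fun K₁ h => a1 K₁ h.1)
      rwa [← hK'eq] at h1
    have hsn : ∀ M' : Subgroup G, IsMaximalTwoLocal M' → K' ⊔ J ≤ M' → RelSN K' M' := by
      intro M' hM' hKM'
      have h1 : RelSN (sSup {K₁ | K₁ ∈ 𝔎 ∧ K₁ ≤ K'}) M' := by
        apply relSN_sSup
        intro K₁ hK₁
        exact a2 M' hM'.1 (sup_le (hK₀K'.trans (le_sup_left.trans hKM')) (le_sup_right.trans hKM')) K₁ hK₁.1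
          (hK₁.2.trans (le_sup_left.trans hKM'))
      rwa [← hK'eq] at h1
    have hK'M₁' : K' ≤ M₁' := le_sup_left.trans hKM₁'
    have hK₀sn : RelSN K₀ K' :=
      (a2 M₁' hM₁'.1 (sup_le (hK₀K'.trans hK'M₁') (le_sup_right.trans hKM₁')) K₀ hK₀
        (hK₀K'.trans hK'M₁')).restrict hK₀K' hK'M₁'
    have hO : pCoreOf 2 K' ≠ ⊥ := by
      intro h
      apply a4
      have := relSN_pCoreOf_le (p := 2) hK₀sn
      rw [h] at this
      exact le_bot_iff.mp this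
    obtain ⟨M₁, hM₁, hL₁M₁⟩ := exists_isMaximalTwoLocal_ge (isTwoLocal_normalizer_pCoreOf hO)
    have hNM₁ : Subgroup.normalizer ((K' : Subgroup G) : Set G) ≤ M₁ :=
      (normalizer_le_normalizer_pCoreOf 2 K').trans hL₁M₁
    have key : ∀ M' : Subgroup G, IsMaximalTwoLocal M' → K' ⊔ J ≤ M' → M' = M₁ := by
      intro M' hM' hKM'
      have hK'M' : K' ≤ M' := le_sup_left.trans hKM'
      have hJM' : J ≤ M' := le_sup_right.trans hKM'
      by_cases hM'N : M' ≤ Subgroup.normalizer ((K' : Subgroup G) : Set G)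
      · exact (hM'.2 M₁ hM₁.1 (hM'N.trans hNM₁)).symm
      · obtain ⟨B, C, hAB, hBC, hCM', hBN, hCB, hCN⟩ := (hsn M' hM' hKM').exists_of_not_le_normalizer hM'N
        obtain ⟨x, hxC, hxN⟩ := SetLike.not_le_iff_exists.mp hCN
        have hxM' : x ∈ M' := hCM' hxC
        have hxK' : cj x K' ≤ Subgroup.normalizer ((K' : Subgroup G) : Set G) := by
          have h1 : cj x K' ≤ cj x B := cj_mono hAB
          rw [mem_normalizer_iff_cj_eq.mp (hCB hxC)] at h1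
          exact h1.trans hBN
        have hlt : K' < K' ⊔ cj x K' := by
          apply lt_of_le_of_ne le_sup_left
          intro heq
          apply hxN
          have h1 : cj x K' ≤ K' := by
            have : cj x K' ≤ K' ⊔ cj x K' := le_sup_right
            rwa [← heq] at this
          have h2 : cj x K' = K' := Subgroup.eq_of_le_of_card_ge h1 (by rw [card_cj])
          exact mem_normalizer_iff_cj_eq.mpr h2
        have hcard := card_lt_card_of_lt hlt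
        have hcardG := Subgroup.card_le_card_group (K' ⊔ cj x K')
        have hgen' : K' ⊔ cj x K' ≤ sSup {K₁ | K₁ ∈ 𝔎 ∧ K₁ ≤ K' ⊔ cj x K'} := by
          apply sup_le
          · refine hgen.trans (sSup_le_sSup ?_)
            intro K₁ hK₁
            exact ⟨hK₁.1, hK₁.2.trans le_sup_left⟩
          · rw [cj_le_iff]
            refine hgen.trans (sSup_le ?_)
            intro K₁ hK₁
            rw [← cj_le_iff]
            apply le_sSup
            refine ⟨a3 M' hM'.1 (sup_le (hK₀K'.trans hK'M') hJM') K₁ hK₁.1 (hK₁.2.trans hK'M') x hxM', ?_⟩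
            exact (cj_mono hK₁.2).trans le_sup_right
        have hJM₁ : J ≤ M₁ := hJN.trans hNM₁
        have h1 : K' ⊔ cj x K' ⊔ J ≤ M' :=
          sup_le (sup_le hK'M' (cj_le_of_mem hK'M' hxM')) hJM'
        have h2 : K' ⊔ cj x K' ⊔ J ≤ M₁ :=
          sup_le (sup_le (Subgroup.le_normalizer.trans hNM₁) (hxK'.trans hNM₁)) hJM₁
        exact ih (Nat.card G - Nat.card ↥(K' ⊔ cj x K')) (by omega) (K' ⊔ cj x K') rfl
          (hK₀K'.trans le_sup_left) hgen' M' M₁ hM' hM₁ h1 h2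
    rw [key M₁' hM₁' hKM₁', key M₂' hM₂' hKM₂']

/-! ### transport of `𝒦₀(T)` -/

theorem mem_jComponentsZero_of_thompson_eq {S T K : Subgroup G}
    (h : thompsonSubgroupOf 2 S = thompsonSubgroupOf 2 T) (hK : K ∈ jComponentsZero T) :
    K ∈ jComponentsZero S := by
  refine ⟨isJComponent_of_thompson_eq h hK.1, fun S' hS' hsyl => ?_⟩
  rw [h] at hS' ⊢
  exact hK.2 S' hS' hsyl

theorem mem_jComponentsZero_cj {T K : Subgroup G} (g : G) (hK : K ∈ jComponentsZero T) :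
    cj g K ∈ jComponentsZero (cj g T) := by
  refine ⟨isJComponent_cj g hK.1, fun S' hS' hsyl => ?_⟩
  rw [thompsonSubgroupOf_cj] at hS' ⊢
  have h1 : thompsonSubgroupOf 2 T ≤ cj g⁻¹ S' := cj_le_iff.mp hS'
  have h2 : IsSylowTwoIn (cj g⁻¹ S') (Subgroup.normalizer ((wOf K : Subgroup G) : Set G)) := by
    have := isSylowTwoIn_cj g⁻¹ hsyl
    rwa [wOf_cj, ← cj_normalizer, cj_inv_cj] at this
  have h3 := hK.2 _ h1 h2
  rw [thompsonSubgroupOf_cj] at h3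
  rw [← h3, cj_cj_inv]

/-- a conjugate of `K₀ ∈ 𝒦₀(T)` that is a `J(T)`-component is in `𝒦₀(T)`. -/
theorem mem_jComponentsZero_of_cj {T K₀ : Subgroup G} (hTp : IsPGroup 2 ↥T)
    (hK₀ : K₀ ∈ jComponentsZero T) (y : G) (hK₁ : IsJComponent T (cj y K₀)) :
    cj y K₀ ∈ jComponentsZero T := by
  refine ⟨hK₁, fun S' hJS' hsyl => ?_⟩
  have hJp : IsPGroup 2 ↥(thompsonSubgroupOf 2 T) := hTp.to_le (thompsonSubgroupOf_le 2 T)
  have hJN : thompsonSubgroupOf 2 T ≤ Subgroup.normalizer ((wOf K₀ : Subgroup G) : Set G) :=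
    (J_le_normalizer hK₀.1).trans (normalizer_le_normalizer_wOf K₀)
  obtain ⟨S₀, hS₀, hJS₀⟩ := exists_sylIn_ge hJp hJN
  have hJeq : thompsonSubgroupOf 2 S₀ = thompsonSubgroupOf 2 T :=
    hK₀.2 S₀ hJS₀ (isSylowTwoIn_iff_sylIn.mpr hS₀)
  have hsyl' : SylIn 2 (cj y⁻¹ S') (Subgroup.normalizer ((wOf K₀ : Subgroup G) : Set G)) := by
    have := isSylowTwoIn_cj y⁻¹ hsyl
    rw [wOf_cj, ← cj_normalizer, cj_inv_cj] at this
    exact isSylowTwoIn_iff_sylIn.mp this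
  obtain ⟨n, hn, hcj⟩ := hS₀.exists_cj_eq hsyl'
  have hle : cj (n * y⁻¹) (thompsonSubgroupOf 2 T) ≤ S₀ := by
    rw [cj_mul, ← hcj]
    exact cj_mono (cj_mono hJS')
  have e := cj_thompson_eq_of_le hJeq hle
  apply cj_injective (n * y⁻¹)
  rw [← thompsonSubgroupOf_cj, e, cj_mul, hcj, hJeq]

section Max

variable {M T : Subgroup G}

/-- a Sylow 2-subgroup `T' ≥ J(T)` of a 2-local `L' ≰ M`, for `T ∈ 𝒯*(M)`. -/
theorem exists_sylow_of_twoLocal (hL : IsCharacteristicTwoType G) (S : Sylow 2 G)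
    (hMJ : Subgroup.normalizer (thompsonSubgroupOf 2 (S : Subgroup G) : Set G) ≤ M)
    (hT : T ∈ maxStraddlingTwoSubgroups M) {L' : Subgroup G} (hL2 : IsTwoLocal L') (hLM : ¬ L' ≤ M)
    (hJL : thompsonSubgroupOf 2 T ≤ L') :
    ∃ T' : Subgroup G, IsSylowTwoIn T' L' ∧ thompsonSubgroupOf 2 T' = thompsonSubgroupOf 2 T ∧
      IsPGroup 2 ↥T' ∧ T' ≠ ⊥ ∧ L' ∈ jOvergroups T' := by
  have hJp : IsPGroup 2 ↥(thompsonSubgroupOf 2 T) := hT.1.1.to_le (thompsonSubgroupOf_le 2 T)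
  obtain ⟨T', hT', hJT'⟩ := exists_sylIn_ge hJp hJL
  have hT'' := isSylowTwoIn_iff_sylIn.mpr hT'
  obtain ⟨h1, h2, h3, -⟩ := max_straddling_core hL S hMJ hT hL2 hLM hT'' hJT'
  exact ⟨T', hT'', h1.symm, h2.1, h2.2.1, h3⟩

/-- every `J(T)`-component inside a 2-local `L' ≰ M` containing `J(T)` is subnormal in `L'`. -/
theorem relSN_of_isJComponent_le (hL : IsCharacteristicTwoType G)
    (hN : ∀ N : Subgroup G, IsTwoLocal N → Group.IsSolvable ↥N)
    (hZ : ∀ S : Sylow 2 G, Subgroup.centralizer (omegaCenterOf (S : Subgroup G) : Set G) ≤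
      Subgroup.normalizer ((S : Subgroup G) : Set G))
    (S : Sylow 2 G)
    (hMJ : Subgroup.normalizer (thompsonSubgroupOf 2 (S : Subgroup G) : Set G) ≤ M)
    (hT : T ∈ maxStraddlingTwoSubgroups M) {L' : Subgroup G} (hL2 : IsTwoLocal L') (hLM : ¬ L' ≤ M)
    (hJL : thompsonSubgroupOf 2 T ≤ L') {K₁ : Subgroup G} (hK₁ : IsJComponent T K₁) (hK₁L : K₁ ≤ L') :
    RelSN K₁ L' := by
  obtain ⟨T', hT', hJeq, hT'p, hT'1, hLT'⟩ := exists_sylow_of_twoLocal hL S hMJ hT hL2 hLM hJL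
  have h1 : IsJComponent T' K₁ := isJComponent_of_thompson_eq hJeq hK₁
  exact relSN_of_isSubnormal_subgroupOf hK₁L (isSubnormal_subgroupOf hL hN hZ hT'p hT'1 hLT' h1 hK₁L)

/-- `L'`-conjugates of members of `𝒦₀(T)` inside a 2-local `L' ≰ M` containing `J(T)` are `J(T)`-components. -/
theorem isJComponent_cj_of_mem (hL : IsCharacteristicTwoType G)
    (hN : ∀ N : Subgroup G, IsTwoLocal N → Group.IsSolvable ↥N)
    (hZ : ∀ S : Sylow 2 G, Subgroup.centralizer (omegaCenterOf (S : Subgroup G) : Set G) ≤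
      Subgroup.normalizer ((S : Subgroup G) : Set G))
    (S : Sylow 2 G)
    (hMJ : Subgroup.normalizer (thompsonSubgroupOf 2 (S : Subgroup G) : Set G) ≤ M)
    (hT : T ∈ maxStraddlingTwoSubgroups M) {L' : Subgroup G} (hL2 : IsTwoLocal L') (hLM : ¬ L' ≤ M)
    (hJL : thompsonSubgroupOf 2 T ≤ L') {K₁ : Subgroup G} (hK₁ : K₁ ∈ jComponentsZero T) (hK₁L : K₁ ≤ L')
    {x : G} (hx : x ∈ L') : IsJComponent T (cj x K₁) := by
  obtain ⟨T', hT', hJeq, hT'p, hT'1, hLT'⟩ := exists_sylow_of_twoLocal hL S hMJ hT hL2 hLM hJL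
  have hsn : RelSN K₁ L' := relSN_of_isJComponent_le hL hN hZ S hMJ hT hL2 hLM hJL hK₁.1 hK₁L
  have hsn' : RelSN (cj x K₁) (cj x L') := hsn.map (MulAut.conj x).toMonoidHom
  rw [cj_eq_self_of_mem hx] at hsn'
  have hJT'L : thompsonSubgroupOf 2 T' ≤ L' := (thompsonSubgroupOf_le 2 T').trans hT'.1
  have hKsn : ((cj x K₁).subgroupOf (cj x K₁ ⊔ thompsonSubgroupOf 2 T')).IsSubnormal :=
    (hsn'.restrict le_sup_left (sup_le hsn'.le hJT'L)).isSubnormal_subgroupOf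
  have hKg : cj x K₁ ∈ jComponentsZero (cj x T') :=
    mem_jComponentsZero_cj x (mem_jComponentsZero_of_thompson_eq hJeq hK₁)
  have h1 : IsJComponent T' (cj x K₁) :=
    isJComponent_of_zero_cj hL hN hZ hT'p hT'1 hLT' hsn'.le hKsn x hKg
  exact isJComponent_of_thompson_eq hJeq.symm h1

/-- **S2950.** -/
theorem unique_maximal_twoLocal (hL : IsCharacteristicTwoType G)
    (hN : ∀ N : Subgroup G, IsTwoLocal N → Group.IsSolvable ↥N)
    (hZ : ∀ S : Sylow 2 G, Subgroup.centralizer (omegaCenterOf (S : Subgroup G) : Set G) ≤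
      Subgroup.normalizer ((S : Subgroup G) : Set G))
    (S : Sylow 2 G)
    (hMJ : Subgroup.normalizer (thompsonSubgroupOf 2 (S : Subgroup G) : Set G) ≤ M)
    (hT : T ∈ maxStraddlingTwoSubgroups M) {K : Subgroup G} (hK : K ∈ jComponentsOutside M T) :
    ∃ L : Subgroup G, IsMaximalTwoLocal L ∧ K ⊔ thompsonSubgroupOf 2 T ≤ L ∧
      (∀ L' : Subgroup G, IsMaximalTwoLocal L' → K ⊔ thompsonSubgroupOf 2 T ≤ L' → L' = L) ∧
      (K.subgroupOf L).IsSubnormal ∧ IsSylowTwoIn T L := by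
  obtain ⟨hK0, hKM, hO⟩ := hK
  have hTp : IsPGroup 2 ↥T := hT.1.1
  have hT1 : T ≠ ⊥ := hT.1.2.1
  -- existence
  obtain ⟨L, hLmax, hL₀L⟩ := exists_isMaximalTwoLocal_ge (isTwoLocal_normalizer_pCoreOf hO)
  have hKTL : K ⊔ T ≤ L := (Cfsg.Agent.Lib.Helper46.le_normalizer_pCoreOf (p := 2) (K ⊔ T)).trans hL₀L
  have hKL : K ≤ L := le_sup_left.trans hKTL
  have hTL : T ≤ L := le_sup_right.trans hKTL
  have hLM : ¬ L ≤ M := fun h => hKM (hKL.trans h)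
  obtain ⟨T₀, hT₀, hTT₀⟩ := exists_sylIn_ge hTp hTL
  obtain ⟨-, -, -, h4⟩ := max_straddling_overgroup hL hN hZ S hMJ hT hLmax.1 hLM
    (isSylowTwoIn_iff_sylIn.mpr hT₀) ((thompsonSubgroupOf_le 2 T).trans hTT₀)
  obtain ⟨hLT, -⟩ := h4 hTL
  have hJL : thompsonSubgroupOf 2 T ≤ L := (thompsonSubgroupOf_le 2 T).trans hTL
  refine ⟨L, hLmax, sup_le hKL hJL, ?_, isSubnormal_subgroupOf hL hN hZ hTp hT1 hLT hK0.1 hKL, hLT.1⟩
  -- uniqueness
  have hOK : pCoreOf 2 K ≠ ⊥ := by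
    intro h
    have h1 : wOf K ≤ ⊥ := h ▸ wOf_le_pCoreOf K
    have h2 := hK0.1.2.2.2.2.1
    rw [le_bot_iff.mp h1, Subgroup.card_bot] at h2
    omega
  have hnotM : ∀ L' : Subgroup G, K ⊔ thompsonSubgroupOf 2 T ≤ L' → ¬ L' ≤ M :=
    fun L' h1 h2 => hKM ((le_sup_left.trans h1).trans h2)
  have hz := zipper_unique {K₁ | IsJComponent T K₁ ∧ ∃ y : G, K₁ = cj y K} (thompsonSubgroupOf 2 T) K
    ⟨hK0.1, 1, (cj_one K).symm⟩
    (fun K₁ hK₁ => J_le_normalizer hK₁.1)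
    (fun L' hL2 hKJL' K₁ hK₁ hK₁L' =>
      relSN_of_isJComponent_le hL hN hZ S hMJ hT hL2 (hnotM L' hKJL') (le_sup_right.trans hKJL') hK₁.1 hK₁L')
    (fun L' hL2 hKJL' K₁ hK₁ hK₁L' x hx => by
      obtain ⟨hK₁c, y, rfl⟩ := hK₁
      have h0 := mem_jComponentsZero_of_cj hTp hK0 y hK₁c
      exact ⟨isJComponent_cj_of_mem hL hN hZ S hMJ hT hL2 (hnotM L' hKJL') (le_sup_right.trans hKJL')
        h0 hK₁L' hx, x * y, (cj_mul x y K).symm⟩)
    hOK (Nat.card G - Nat.card K) K rfl le_rfl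
    (le_sSup ⟨⟨hK0.1, 1, (cj_one K).symm⟩, le_rfl⟩)
  intro L' hL'max hKJL'
  exact hz L' L hL'max hLmax hKJL' (sup_le hKL hJL)

end Max

end Cfsg.Agent.Lib.Helper49.JC
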